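import Mathlib
import Cfsg.Agent.H751.Two.Code
import Cfsg.Agent.H238.E8.Frame
import Cfsg.Agent.H791.E8L.Rel2_m3
import Cfsg.Agent.ChevalleyStructure.JacAll
import Cfsg.Agent.H65.E8L.Chk_m3
import Cfsg.Agent.Lib.ListFast
import Cfsg.Agent.Prune
set_option linter.all false

section
prune_inst 0x7f00000000000000000000000000000000000000000000000000000000000000000000000000000000000000000000000000000000000000000000000000000000000000000000000000000000000000003fffffffffffffffffffffffffffbeffbdffffffff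

-- part: H74/E83/Trip_mg
section
prune_inst 0xffbdfcffbcffffffff7e7ffefffffdfbbbffffffdff94bffe167ffaf9f7fef8bc5fbaf0fee11ff8ef6e89410b97853fbffffffea6ffc7ffffdfff41ffbee5ff7ffb50c51bfbcb41ffc6ff79bf07f8e7f000000000000000000000000000041004200000000
set_option linter.all false
open scoped Cfsg.Agent.FastGrp
private noncomputable def lq26a1341ae9 {T : Sort _} (f :
    type_of% (@_root_.Prod.mk.{0, 0}) →
    type_of% (@_root_.List.cons.{0} (Prod Nat (Prod Nat Bool))) →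
    type_of% (@_root_.Bool.true) →
    type_of% (@_root_.Bool.false) →
    type_of% (@_root_.List.cons.{0}) →
    type_of% (@_root_.List.cons.{0} (Prod Nat Nat)) →
    type_of% (@_root_.List.cons.{0} (Nat)) →
    type_of% (@_root_.List.nil.{0}) →
    type_of% (@_root_.Cfsg.Lie.chevG2) →
    type_of% (@_root_.Cfsg.Lie.chevB2) →
    type_of% (@_root_.Cfsg.Lie.chevD4) →
    type_of% (@_root_.Cfsg.Lie.chevF4) →
    type_of% (@_root_.Cfsg.Lie.chevE6) →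
    type_of% (@_root_.Cfsg.Lie.chevE7) →
    type_of% (@_root_.Cfsg.Lie.chevE8) → T) : T :=
  f (@_root_.Prod.mk.{0, 0}) (@_root_.List.cons.{0} (Prod Nat (Prod Nat Bool))) (@_root_.Bool.true) (@_root_.Bool.false) (@_root_.List.cons.{0}) (@_root_.List.cons.{0} (Prod Nat Nat)) (@_root_.List.cons.{0} (Nat)) (@_root_.List.nil.{0}) (@_root_.Cfsg.Lie.chevG2) (@_root_.Cfsg.Lie.chevB2) (@_root_.Cfsg.Lie.chevD4) (@_root_.Cfsg.Lie.chevF4) (@_root_.Cfsg.Lie.chevE6) (@_root_.Cfsg.Lie.chevE7) (@_root_.Cfsg.Lie.chevE8)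

-- part: H74/E83/Trit
section
/-!
# Packed vectors over `ZMod 3` (helper74)

A vector with at most 256 coordinates is a natural number `w < 2 ^ 512`: bit `j` says that coordinate `j` is `1`,
bit `256 + j` says that it is `-1`. `val w j` : the coordinate; `Vld w` : `w < 2 ^ 512` and no coordinate has both bits.
`tadd`, `tneg`, `tsub` : sum, negative, difference; `tun j` : unit vector.
-/

set_option autoImplicit false
set_option exponentiation.threshold 600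

namespace Cfsg.Agent.H74.E83.Trit

/-- `±1` from two bits -/
def tz (p m : Bool) : ZMod 3 := (if p then 1 else 0) - (if m then 1 else 0)

/-- the coordinate -/
def val (w j : ℕ) : ZMod 3 := tz (w.testBit j) (w.testBit (256 + j))

/-- no coordinate has both bits -/
structure Vld (w : ℕ) : Prop where
  lt : w < 2 ^ 512
  ok : ∀ j < 256, (w.testBit j && w.testBit (256 + j)) = false

/-- exchange the two halves: the negative -/
def tneg (w : ℕ) : ℕ := Nat.lor (Nat.shiftRight w 256) (Nat.shiftLeft (Nat.land w (2 ^ 256 - 1)) 256)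

/-- difference bit of the halves -/
def tt (X : ℕ) : ℕ := Nat.land (Nat.xor X (Nat.shiftRight X 256)) (2 ^ 256 - 1)

/-- both halves equal -/
def dbl (T : ℕ) : ℕ := Nat.lor T (Nat.shiftLeft T 256)

/-- the sum -/
def tadd (a b : ℕ) : ℕ := Nat.xor (tneg (Nat.lor a b)) (dbl (tt (Nat.lor a (tneg b))))

/-- the difference -/
def tsub (a b : ℕ) : ℕ := Nat.xor (tneg (Nat.lor a (tneg b))) (dbl (tt (Nat.lor a b)))

/-- unit vector -/
def tun (j : ℕ) : ℕ := Nat.shiftLeft 1 j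

theorem lor_def (a b : ℕ) : Nat.lor a b = a ||| b := rfl
theorem xor_def (a b : ℕ) : Nat.xor a b = a ^^^ b := rfl
theorem land_def (a b : ℕ) : Nat.land a b = a &&& b := rfl
theorem shr_def (a b : ℕ) : Nat.shiftRight a b = a >>> b := rfl
theorem shl_def (a b : ℕ) : Nat.shiftLeft a b = a <<< b := rfl

theorem testBit_big {w j : ℕ} (h : w < 2 ^ 512) (hj : 512 ≤ j) : w.testBit j = false :=
  Nat.testBit_lt_two_pow (h.trans_le (Nat.pow_le_pow_right two_pos hj))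

theorem lt_of_bits {w : ℕ} (h : ∀ j, 512 ≤ j → w.testBit j = false) : w < 2 ^ 512 := Nat.lt_pow_two_of_testBit _ h

theorem testBit_neg_lo {w j : ℕ} (hj : j < 256) : (tneg w).testBit j = w.testBit (256 + j) := by
  unfold tneg
  rw [lor_def, shr_def, shl_def, land_def, Nat.testBit_or, Nat.testBit_shiftRight, Nat.testBit_shiftLeft]
  have h : ¬ (j ≥ 256) := by omega
  simp [h]

theorem testBit_neg_hi {w j : ℕ} (hw : w < 2 ^ 512) (hj : j < 256) : (tneg w).testBit (256 + j) = w.testBit j := by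
  unfold tneg
  rw [lor_def, shr_def, shl_def, land_def, Nat.testBit_or, Nat.testBit_shiftRight, Nat.testBit_shiftLeft,
    Nat.testBit_and, testBit_big hw (by omega), Nat.testBit_two_pow_sub_one]
  have h : 256 + j - 256 = j := by omega
  simp [h, hj]

theorem neg_lt {w : ℕ} (hw : w < 2 ^ 512) : tneg w < 2 ^ 512 := by
  apply lt_of_bits
  intro j hj
  unfold tneg
  rw [lor_def, shr_def, shl_def, land_def, Nat.testBit_or, Nat.testBit_shiftRight, Nat.testBit_shiftLeft,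
    Nat.testBit_and, testBit_big hw (by omega), Nat.testBit_two_pow_sub_one]
  have h : ¬ (j - 256 < 256) := by omega
  simp [h]

theorem testBit_tt {X j : ℕ} : (tt X).testBit j = ((X.testBit j ^^ X.testBit (256 + j)) && decide (j < 256)) := by
  unfold tt
  rw [land_def, xor_def, shr_def, Nat.testBit_and, Nat.testBit_xor, Nat.testBit_shiftRight, Nat.testBit_two_pow_sub_one]

theorem testBit_dbl_lo {T j : ℕ} (hj : j < 256) : (dbl T).testBit j = T.testBit j := by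
  unfold dbl
  rw [lor_def, shl_def, Nat.testBit_or, Nat.testBit_shiftLeft]
  have h : ¬ (j ≥ 256) := by omega
  simp [h]

theorem testBit_dbl_tt_hi {X j : ℕ} (hj : j < 256) : (dbl (tt X)).testBit (256 + j) = (tt X).testBit j := by
  unfold dbl
  rw [lor_def, shl_def, Nat.testBit_or, Nat.testBit_shiftLeft, testBit_tt (j := 256 + j)]
  have h : 256 + j - 256 = j := by omega
  have h' : ¬ (256 + j < 256) := by omega
  simp [h]

theorem dbl_tt_lt (X : ℕ) : dbl (tt X) < 2 ^ 512 := by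
  apply lt_of_bits
  intro j hj
  unfold dbl
  rw [lor_def, shl_def, Nat.testBit_or, Nat.testBit_shiftLeft, testBit_tt, testBit_tt]
  have h : ¬ (j < 256) := by omega
  have h' : ¬ (j - 256 < 256) := by omega
  simp [h, h']

/-- the bits of a sum -/
theorem add_bits : ∀ ap am bp bm : Bool, (ap && am) = false → (bp && bm) = false →
    tz ((am || bm) ^^ ((ap || bm) ^^ (am || bp))) ((ap || bp) ^^ ((ap || bm) ^^ (am || bp))) = tz ap am + tz bp bm ∧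
    (((am || bm) ^^ ((ap || bm) ^^ (am || bp))) && ((ap || bp) ^^ ((ap || bm) ^^ (am || bp)))) = false := by
  decide

theorem neg_bits : ∀ p m : Bool, tz m p = - tz p m := by decide

theorem vld_neg {w : ℕ} (h : Vld w) : Vld (tneg w) := by
  refine ⟨neg_lt h.lt, fun j hj => ?_⟩
  rw [testBit_neg_lo hj, testBit_neg_hi h.lt hj, Bool.and_comm]
  exact h.ok j hj

theorem val_neg {w j : ℕ} (h : Vld w) (hj : j < 256) : val (tneg w) j = - val w j := by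
  unfold val
  rw [testBit_neg_lo hj, testBit_neg_hi h.lt hj]
  exact neg_bits _ _

theorem add_lo {a b j : ℕ} (hb : b < 2 ^ 512) (hj : j < 256) : (tadd a b).testBit j =
    ((a.testBit (256 + j) || b.testBit (256 + j)) ^^ ((a.testBit j || b.testBit (256 + j)) ^^
      (a.testBit (256 + j) || b.testBit j))) := by
  unfold tadd
  rw [xor_def, lor_def, lor_def, Nat.testBit_xor, testBit_neg_lo hj, testBit_dbl_lo hj, testBit_tt, Nat.testBit_or, Nat.testBit_or,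
    Nat.testBit_or, testBit_neg_lo hj, testBit_neg_hi hb hj]
  simp [hj]

theorem add_hi {a b j : ℕ} (ha : a < 2 ^ 512) (hb : b < 2 ^ 512) (hj : j < 256) : (tadd a b).testBit (256 + j) =
    ((a.testBit j || b.testBit j) ^^ ((a.testBit j || b.testBit (256 + j)) ^^ (a.testBit (256 + j) || b.testBit j))) := by
  unfold tadd
  rw [xor_def, lor_def, lor_def, Nat.testBit_xor, testBit_neg_hi (Nat.or_lt_two_pow ha hb) hj, testBit_dbl_tt_hi hj, testBit_tt,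
    Nat.testBit_or, Nat.testBit_or, Nat.testBit_or, testBit_neg_lo hj, testBit_neg_hi hb hj]
  simp [hj]

theorem vld_add {a b : ℕ} (ha : Vld a) (hb : Vld b) : Vld (tadd a b) := by
  refine ⟨?_, fun j hj => ?_⟩
  · unfold tadd
    rw [xor_def]
    exact Nat.xor_lt_two_pow (neg_lt (Nat.or_lt_two_pow ha.lt hb.lt)) (dbl_tt_lt _)
  · rw [add_lo hb.lt hj, add_hi ha.lt hb.lt hj]
    exact (add_bits _ _ _ _ (ha.ok j hj) (hb.ok j hj)).2

theorem val_add {a b j : ℕ} (ha : Vld a) (hb : Vld b) (hj : j < 256) : val (tadd a b) j = val a j + val b j := by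
  unfold val
  rw [add_lo hb.lt hj, add_hi ha.lt hb.lt hj]
  exact (add_bits _ _ _ _ (ha.ok j hj) (hb.ok j hj)).1

theorem tneg_neg {b : ℕ} (hb : b < 2 ^ 512) : tneg (tneg b) = b := by
  apply Nat.eq_of_testBit_eq
  intro j
  rcases lt_or_ge j 256 with h | h
  · rw [testBit_neg_lo h, testBit_neg_hi hb h]
  · obtain ⟨i, rfl⟩ := Nat.exists_eq_add_of_le h
    rcases lt_or_ge i 256 with h' | h'
    · rw [testBit_neg_hi (neg_lt hb) h', testBit_neg_lo h']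
    · rw [testBit_big hb (by omega), testBit_big (neg_lt (neg_lt hb)) (by omega)]

theorem tsub_eq {a b : ℕ} (hb : b < 2 ^ 512) : tsub a b = tadd a (tneg b) := by
  unfold tsub tadd
  rw [tneg_neg hb]

theorem vld_sub {a b : ℕ} (ha : Vld a) (hb : Vld b) : Vld (tsub a b) := by
  rw [tsub_eq hb.lt]; exact vld_add ha (vld_neg hb)

theorem val_sub {a b j : ℕ} (ha : Vld a) (hb : Vld b) (hj : j < 256) : val (tsub a b) j = val a j - val b j := by
  rw [tsub_eq hb.lt, val_add ha (vld_neg hb) hj, val_neg hb hj, sub_eq_add_neg]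

theorem vld_zero : Vld 0 := ⟨by positivity, fun j _ => by simp⟩

theorem val_zero (j : ℕ) : val 0 j = 0 := by unfold val; simp [tz]

theorem vld_un {j : ℕ} (hj : j < 256) : Vld (tun j) := by
  unfold tun
  rw [shl_def, Nat.one_shiftLeft]
  refine ⟨Nat.pow_lt_pow_right (by norm_num) (by omega), fun i hi => ?_⟩
  have h : ¬ (j = 256 + i) := by omega
  rw [Nat.testBit_two_pow, Nat.testBit_two_pow]
  simp [h]

theorem val_un {i j : ℕ} (hj : j < 256) : val (tun j) i = if i = j then 1 else 0 := by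
  unfold val tun
  rw [shl_def, Nat.one_shiftLeft]
  have h : ¬ (j = 256 + i) := by omega
  rw [Nat.testBit_two_pow, Nat.testBit_two_pow]
  by_cases h' : i = j
  · subst h'; simp [h, tz]
  · have h'' : ¬ (j = i) := fun e => h' e.symm
    simp [h, h', h'', tz]

end Cfsg.Agent.H74.E83.Trit
end

-- part: H74/E83/Sp
section
/-!
# The sparse integral matrix of a root element `x_r(1)` (helper74, after helper751)

`XlsZ D r` : `x_r(1) - 1` as a sparse matrix with integral entries, computed from the tables of `D`; `x_one_eqZ`.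
-/

set_option autoImplicit false
set_option linter.unusedSectionVars false

namespace Cfsg.Agent.H74.E83.Sp

open Cfsg.Lie Cfsg.Agent.H751.Two.Word Cfsg.Agent.ChevalleyStructure.Elts

universe u

/-- sparse matrix: row, column, entry -/
abbrev SpZ := List (ℕ × ℕ × ℤ)

section

variable (D : ChevalleyDatum)

/-- the columns of the `h_i` -/
def colH (r : ℕ) : SpZ := (List.range D.rank).map fun c => (D.rank + r, c, -((D.cartanSR.getD c #[]).getD r 0))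

/-- the column of `e_{-r}` -/
def colN (r : ℕ) : SpZ :=
  if D.negIdx.getD r 0 = r then [] else
    ((List.range D.rank).map fun i => (i, D.rank + D.negIdx.getD r 0, (D.coroot.getD r #[]).getD i 0)) ++
      [(D.rank + r, D.rank + D.negIdx.getD r 0, -1)]

/-- the other columns -/
def colC (r : ℕ) : SpZ :=
  ((D.chain.getD r #[]).toList.filter fun e => decide (e.1 ≠ r ∧ e.1 ≠ D.negIdx.getD r 0)).flatMap fun e =>
    e.2.toList.map fun q => (D.rank + q.1, D.rank + e.1, q.2)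

/-- `x_r(1) - 1` -/
def XlsZ (r : ℕ) : SpZ := colH D r ++ (colN D r ++ colC D r)

/-- the contribution of a position -/
abbrev ptZ (K : Type u) [Field K] (a b : ℕ) (e : ℕ × ℕ × ℤ) : K := if e.1 = a ∧ e.2.1 = b then (e.2.2 : K) else 0

/-- the matrix -/
def semZ (K : Type u) [Field K] (l : SpZ) : Matrix D.Idx D.Idx K :=
  Matrix.of fun i j => (l.map (ptZ K (pos D i) (pos D j))).sum

theorem semZ_apply (K : Type u) [Field K] (l : SpZ) (i j : D.Idx) :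
    semZ D K l i j = (l.map (ptZ K (pos D i) (pos D j))).sum := rfl

variable {K : Type u} [Field K]

theorem sum_colH (r a b : ℕ) : ((colH D r).map (ptZ K a b)).sum =
    ((List.range D.rank).map fun c => if D.rank + r = a ∧ c = b then
      (((-((D.cartanSR.getD c #[]).getD r 0) : ℤ)) : K) else 0).sum := by
  unfold colH
  rw [List.map_map]
  rfl

theorem sum_colN (r a b : ℕ) : ((colN D r).map (ptZ K a b)).sum =
    if D.negIdx.getD r 0 = r then 0 else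
    ((List.range D.rank).map fun i => if i = a ∧ D.rank + D.negIdx.getD r 0 = b then
      (((D.coroot.getD r #[]).getD i 0 : ℤ) : K) else 0).sum +
      (if D.rank + r = a ∧ D.rank + D.negIdx.getD r 0 = b then (((-1 : ℤ)) : K) else 0) := by
  unfold colN
  by_cases h0 : D.negIdx.getD r 0 = r
  · rw [if_pos h0, if_pos h0]
    simp
  · rw [if_neg h0, if_neg h0, List.map_append, List.sum_append, List.map_map, List.map_singleton, List.sum_singleton]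
    rfl

theorem sum_colC (r a b : ℕ) : ((colC D r).map (ptZ K a b)).sum =
    ((D.chain.getD r #[]).toList.map fun e => if e.1 ≠ r ∧ e.1 ≠ D.negIdx.getD r 0 then
      (e.2.toList.map fun q => if D.rank + q.1 = a ∧ D.rank + e.1 = b then ((q.2 : ℤ) : K) else 0).sum else 0).sum := by
  unfold colC
  rw [sum_flatMap, sum_filter_eq]
  congr 1
  apply List.map_congr_left
  intro e _
  by_cases h : e.1 ≠ r ∧ e.1 ≠ D.negIdx.getD r 0
  · rw [if_pos h, if_pos h, List.map_map]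
    rfl
  · rw [if_neg h, if_neg h]

theorem sum_XlsZ (r a b : ℕ) : ((XlsZ D r).map (ptZ K a b)).sum =
    ((colH D r).map (ptZ K a b)).sum + (((colN D r).map (ptZ K a b)).sum + ((colC D r).map (ptZ K a b)).sum) := by
  unfold XlsZ
  rw [List.map_append, List.sum_append, List.map_append, List.sum_append]

theorem xMat_one_eqZ (r : Fin D.nroots) : D.xMat K r 1 = 1 + semZ D K (XlsZ D r.val) := by
  ext i j
  rw [Matrix.add_apply, semZ_apply, sum_XlsZ, sum_colH, sum_colN, sum_colC, Matrix.one_apply]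
  unfold ChevalleyDatum.xMat
  rw [Matrix.of_apply]
  rcases j with j | s
  · -- the columns of the `h_j`
    have hj := j.2
    have e1 : ((D.chain.getD r.val #[]).toList.map fun e => if e.1 ≠ r.val ∧ e.1 ≠ D.negIdx.getD r.val 0 then
        (e.2.toList.map fun q => if D.rank + q.1 = pos D i ∧ D.rank + e.1 = pos D (Sum.inl j) then
          ((q.2 : ℤ) : K) else 0).sum else 0).sum = 0 := by
      apply sum_zero_of
      intro e _
      split_ifs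
      · apply sum_zero_of
        intro q _
        rw [if_neg]
        rintro ⟨-, h⟩
        rw [pos_inl] at h
        omega
      · rfl
    have e2 : (if D.negIdx.getD r.val 0 = r.val then (0 : K) else
        ((List.range D.rank).map fun i' => if i' = pos D i ∧ D.rank + D.negIdx.getD r.val 0 = pos D (Sum.inl j) then
          (((D.coroot.getD r.val #[]).getD i' 0 : ℤ) : K) else 0).sum +
          (if D.rank + r.val = pos D i ∧ D.rank + D.negIdx.getD r.val 0 = pos D (Sum.inl j) then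
            (((-1 : ℤ)) : K) else 0)) = 0 := by
      split_ifs with h1 h2
      · rfl
      · rw [pos_inl] at h2; omega
      · rw [add_zero]
        apply sum_zero_of
        intro e _
        rw [if_neg]
        rintro ⟨-, h⟩
        rw [pos_inl] at h
        omega
    rw [e1, e2, add_zero, add_zero, sum_range_single _ j.val hj]
    · rcases i with i | u
      · have hi := i.2
        have h1 : ¬ (D.rank + r.val = pos D (Sum.inl i) ∧ j.val = pos D (Sum.inl j)) := by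
          rintro ⟨h, -⟩
          rw [pos_inl] at h
          omega
        rw [if_neg h1, add_zero]
        simp
      · by_cases h : u = r
        · subst h
          have h1 : (D.rank + u.val = pos D (Sum.inr u) ∧ j.val = pos D (Sum.inl j)) := ⟨rfl, rfl⟩
          rw [if_pos h1]
          simp
        · have h1 : ¬ (D.rank + r.val = pos D (Sum.inr u) ∧ j.val = pos D (Sum.inl j)) := by
            rintro ⟨h2, -⟩
            rw [pos_inr] at h2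
            exact h (Fin.ext (by omega))
          rw [if_neg h1]
          simp [h]
    · intro k hk
      rw [if_neg]
      rintro ⟨-, h⟩
      rw [pos_inl] at h
      exact hk h
  · -- the columns of the `e_s`
    have e1 : ((List.range D.rank).map fun c => if D.rank + r.val = pos D i ∧ c = pos D (Sum.inr s) then
        (((-((D.cartanSR.getD c #[]).getD r.val 0) : ℤ)) : K) else 0).sum = 0 := by
      apply sum_zero_of
      intro c hc
      rw [List.mem_range] at hc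
      rw [if_neg]
      rintro ⟨-, h⟩
      rw [pos_inr] at h
      omega
    rw [e1, zero_add]
    have hps : ∀ m : ℕ, D.rank + m = pos D (Sum.inr s) ↔ m = s.val := by
      intro m
      rw [pos_inr]
      omega
    simp only [hps]
    by_cases hsr : s = r
    · subst hsr
      have e2 : (if D.negIdx.getD s.val 0 = s.val then (0 : K) else
        ((List.range D.rank).map fun i' => if i' = pos D i ∧ D.negIdx.getD s.val 0 = s.val then
          (((D.coroot.getD s.val #[]).getD i' 0 : ℤ) : K) else 0).sum +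
          (if D.rank + s.val = pos D i ∧ D.negIdx.getD s.val 0 = s.val then (((-1 : ℤ)) : K) else 0)) = 0 := by
        split_ifs with h1 h2
        · rfl
        · exact absurd h2.2 h1
        · rw [add_zero]
          apply sum_zero_of
          intro e _
          rw [if_neg]
          rintro ⟨-, h⟩
          exact h1 h
      have e3 : ((D.chain.getD s.val #[]).toList.map fun e => if e.1 ≠ s.val ∧ e.1 ≠ D.negIdx.getD s.val 0 then
          (e.2.toList.map fun q => if D.rank + q.1 = pos D i ∧ e.1 = s.val then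
            ((q.2 : ℤ) : K) else 0).sum else 0).sum = 0 := by
        apply sum_zero_of
        intro e _
        split_ifs with h1
        · apply sum_zero_of
          intro q _
          rw [if_neg]
          rintro ⟨-, h⟩
          exact h1.1 h
        · rfl
      rw [e2, e3, add_zero, add_zero, if_pos rfl]
      rcases i with i | u
      · simp
      · simp
    · have hsr' : ¬ (s.val = r.val) := fun e => hsr (Fin.ext e)
      simp only [if_neg hsr]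
      by_cases hn : s.val = D.negIdx.getD r.val 0
      · have hnr : ¬ (D.negIdx.getD r.val 0 = r.val) := fun e => hsr' (hn.trans e)
        have e3 : ((D.chain.getD r.val #[]).toList.map fun e => if e.1 ≠ r.val ∧ e.1 ≠ D.negIdx.getD r.val 0 then
            (e.2.toList.map fun q => if D.rank + q.1 = pos D i ∧ e.1 = s.val then
              ((q.2 : ℤ) : K) else 0).sum else 0).sum = 0 := by
          apply sum_zero_of
          intro e _
          split_ifs with h1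
          · apply sum_zero_of
            intro q _
            rw [if_neg]
            rintro ⟨-, h⟩
            exact h1.2 (h.trans hn)
          · rfl
        rw [e3, add_zero, if_neg hnr, if_pos hn]
        simp only [hn.symm, and_true]
        rcases i with i | u
        · have hi := i.2
          rw [sum_range_single _ i.val hi]
          · have h1 : ¬ (D.rank + r.val = pos D (Sum.inl i)) := by rw [pos_inl]; omega
            rw [if_neg h1, pos_inl, if_pos rfl]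
            simp
          · intro k hk
            rw [if_neg]
            rw [pos_inl]
            exact hk
        · have e4 : ((List.range D.rank).map fun i' => if i' = pos D (Sum.inr u) then
              (((D.coroot.getD r.val #[]).getD i' 0 : ℤ) : K) else 0).sum = 0 := by
            apply sum_zero_of
            intro c hc
            rw [List.mem_range] at hc
            rw [if_neg]
            rw [pos_inr]
            omega
          rw [e4, zero_add]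
          by_cases h : u = s
          · subst h
            have h6 : ¬ (D.rank + r.val = pos D (Sum.inr u)) := by
              rw [pos_inr]
              intro e
              exact hsr' (by omega)
            simp [h6]
          · by_cases h' : u = r
            · subst h'
              have h6 : D.rank + u.val = pos D (Sum.inr u) := rfl
              simp [h, h6]
            · have h6 : ¬ (D.rank + r.val = pos D (Sum.inr u)) := by
                rw [pos_inr]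
                intro e
                exact h' (Fin.ext (by omega))
              simp [h, h', h6]
      · have hn' : ¬ (D.negIdx.getD r.val 0 = s.val) := fun e => hn e.symm
        rw [if_neg hn]
        simp only [hn', and_false, if_false]
        have e2 : (if D.negIdx.getD r.val 0 = r.val then (0 : K) else
            ((List.range D.rank).map fun _ : ℕ => (0 : K)).sum + 0) = 0 := by
          split_ifs
          · rfl
          · rw [add_zero]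
            exact sum_zero_of _ _ fun _ _ => rfl
        rw [e2, zero_add]
        rcases i with i | u
        · have hi := i.2
          rw [sum_zero_of]
          · simp
          · intro e _
            split_ifs
            · apply sum_zero_of
              intro q _
              rw [if_neg]
              rw [pos_inl]
              omega
            · rfl
        · have h7 : (Sum.inr u = (Sum.inr s : D.Idx)) ↔ u = s := by simp
          simp only [h7]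
          congr 1
          unfold ChevalleyDatum.chainCoeff
          rw [Cfsg.Agent.H751.Two.Word.sum_flatMap, sum_filter_eq]
          congr 1
          apply List.map_congr_left
          intro e _
          by_cases hes : e.1 = s.val
          · have h8 : e.1 ≠ r.val ∧ e.1 ≠ D.negIdx.getD r.val 0 := by
              rw [hes]
              exact ⟨hsr', hn⟩
            rw [if_pos hes, if_pos h8, List.map_map, sum_filter_eq]
            have h9 : (e.2.toList.map fun q => if D.rank + q.1 = pos D (Sum.inr u) ∧ e.1 = s.val then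
                ((q.2 : ℤ) : K) else 0) =
                (e.2.toList.zipIdx.map fun q => if q.1.1 = u.val then ((q.1.2 : ℤ) : K) else 0) := by
              have h10 : e.2.toList = e.2.toList.zipIdx.map Prod.fst := by
                rw [List.zipIdx_map_fst]
              conv_lhs => rw [h10]
              rw [List.map_map]
              apply List.map_congr_left
              intro q _
              simp only [Function.comp_apply, pos_inr, hes, and_true, Nat.add_left_cancel_iff]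
            rw [h9]
            congr 1
            apply List.map_congr_left
            intro q _
            simp
          · rw [if_neg hes]
            split_ifs
            · symm
              apply sum_zero_of
              intro q _
              rw [if_neg]
              rintro ⟨-, h⟩
              exact hes h
            · rfl

theorem x_one_eqZ {r : ℕ} (hr : r < D.nroots) : D.x K r 1 = 1 + semZ D K (XlsZ D r) := by
  rw [x_of_lt hr]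
  exact xMat_one_eqZ D ⟨r, hr⟩

end

end Cfsg.Agent.H74.E83.Sp
end

-- part: H74/E83/Code
section
/-!
# The word engine for the tabulated Chevalley groups over `ZMod 3` (helper74)

A matrix with at most 256 rows and columns is packed into one natural number, 512 bits for each row (`Trit.val`).
* `row V i`, `put V i w` : reading and replacing a row; `semM D V` : the matrix; `idM n` : the identity matrix;
* `mulX X r V` : the code of `x_r(1) * M`, `wc X w V` : the code of `x_{r_1}(1) ⋯ x_{r_k}(1) * M`;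
* `coe_wG` : the matrix of a word is `semM D (wc X w (idM (sz D)))`; `eq_of_code` : equality of words.
-/

set_option autoImplicit false
set_option exponentiation.threshold 600

namespace Cfsg.Agent.H74.E83.Code

open Cfsg.Lie Cfsg.Agent.H74.E83.Trit Cfsg.Agent.H74.E83.Sp Cfsg.Agent.ChevalleyStructure.Elts
open Cfsg.Agent.H751.Two.Word (sz pos posOK)
open Cfsg.Agent.H751.Two.Bits (PosOK)
open Cfsg.Agent.H751.Two.Code (wG wg wG_nil wG_cons wG_append wG_mem wg_nil wg_append)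

universe u

/-- row `i` -/
def row (V i : ℕ) : ℕ := Nat.land (Nat.shiftRight V (Nat.mul 512 i)) (2 ^ 512 - 1)

/-- replace row `u` by `w` -/
def put (V u w : ℕ) : ℕ := Nat.xor V (Nat.shiftLeft (Nat.xor (row V u) w) (Nat.mul 512 u))

theorem testBit_row (V i j : ℕ) : (row V i).testBit j = (V.testBit (512 * i + j) && decide (j < 512)) := by
  unfold row
  rw [land_def, shr_def, Nat.testBit_and, Nat.testBit_shiftRight, Nat.testBit_two_pow_sub_one]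
  rfl

theorem row_lt (V i : ℕ) : row V i < 2 ^ 512 := by
  apply lt_of_bits
  intro j hj
  rw [testBit_row]
  have h : ¬ (j < 512) := by omega
  simp [h]

theorem testBit_put (V u w k : ℕ) : (put V u w).testBit k =
    (V.testBit k ^^ (decide (512 * u ≤ k) && ((row V u).testBit (k - 512 * u) ^^ w.testBit (k - 512 * u)))) := by
  unfold put
  rw [Trit.xor_def, Trit.xor_def, shl_def, Nat.testBit_xor, Nat.testBit_shiftLeft, Nat.testBit_xor]
  rfl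

theorem row_put {V u w : ℕ} (hw : w < 2 ^ 512) (i : ℕ) : row (put V u w) i = if i = u then w else row V i := by
  apply Nat.eq_of_testBit_eq
  intro j
  rcases lt_or_ge j 512 with hj | hj
  · rw [testBit_row, testBit_put]
    by_cases h : i = u
    · subst h
      have h1 : 512 * i ≤ 512 * i + j := by omega
      have h2 : 512 * i + j - 512 * i = j := by omega
      rw [if_pos rfl, h2, testBit_row V i j]
      cases V.testBit (512 * i + j) <;> cases w.testBit j <;> simp [hj]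
    · rw [if_neg h, testBit_row V i j]
      rcases lt_or_gt_of_ne h with h' | h'
      · have h1 : ¬ (512 * u ≤ 512 * i + j) := by omega
        simp [h1]
      · have h2 : 512 ≤ 512 * i + j - 512 * u := by omega
        rw [testBit_big (row_lt V u) h2, testBit_big hw h2]
        simp
  · rw [testBit_big (row_lt _ _) hj]
    split_ifs
    · rw [testBit_big hw hj]
    · rw [testBit_big (row_lt _ _) hj]

/-- all rows are valid -/
def VldM (V : ℕ) : Prop := ∀ i, Vld (row V i)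

theorem row_zero (i : ℕ) : row 0 i = 0 := by
  apply Nat.eq_of_testBit_eq
  intro j
  rw [testBit_row]; simp

theorem vldM_zero : VldM 0 := fun i => by rw [row_zero]; exact vld_zero

theorem vldM_put {V u w : ℕ} (hV : VldM V) (hw : Vld w) : VldM (put V u w) := by
  intro i
  rw [row_put hw.lt]
  split_ifs
  · exact hw
  · exact hV i

/-- the identity matrix -/
def idM (n : ℕ) : ℕ := (List.range n).foldr (fun i V => put V i (tun i)) 0

theorem idM_aux (l : List ℕ) (hl : ∀ i ∈ l, i < 256) : VldM (l.foldr (fun i V => put V i (tun i)) 0) ∧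
    ∀ i, row (l.foldr (fun i V => put V i (tun i)) 0) i = if i ∈ l then tun i else 0 := by
  induction l with
  | nil => exact ⟨vldM_zero, fun i => by rw [List.foldr_nil, row_zero]; simp⟩
  | cons a l ih =>
    obtain ⟨h1, h2⟩ := ih fun i hi => hl i (List.mem_cons_of_mem _ hi)
    have ha := vld_un (hl a List.mem_cons_self)
    rw [List.foldr_cons]
    refine ⟨vldM_put h1 ha, fun i => ?_⟩
    rw [row_put ha.lt, h2]
    by_cases h : i = a
    · subst h; simp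
    · simp [h]

theorem vldM_id {n : ℕ} (hn : n ≤ 256) : VldM (idM n) :=
  (idM_aux _ fun i hi => (List.mem_range.1 hi).trans_le hn).1

theorem row_id {n i : ℕ} (hn : n ≤ 256) (hi : i < n) : row (idM n) i = tun i := by
  unfold idM
  rw [(idM_aux _ fun i hi => (List.mem_range.1 hi).trans_le hn).2, if_pos (List.mem_range.2 hi)]

/-! ### sparse matrices with entries `±1` -/

/-- row, column, sign (`true` : `-1`) -/
abbrev SpT := List (ℕ × ℕ × Bool)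

/-- one entry -/
def stepE (V0 : ℕ) (e : ℕ × ℕ × Bool) (acc : ℕ) : ℕ :=
  put acc e.1 (bif e.2.2 then tsub (row acc e.1) (row V0 e.2.1) else tadd (row acc e.1) (row V0 e.2.1))

/-- the code of `(1 + l) * M` -/
def mulS (l : SpT) (V : ℕ) : ℕ :=
  match V with
  | 0 => 0
  | V => l.foldr (stepE V) V

/-- the sign -/
def sg (b : Bool) : ZMod 3 := bif b then -1 else 1

section sem

variable (D : ChevalleyDatum)

/-- the matrix of a code -/
def semM (V : ℕ) : Matrix D.Idx D.Idx (ZMod 3) := Matrix.of fun i j => val (row V (pos D i)) (pos D j)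

theorem semM_apply (V : ℕ) (i j : D.Idx) : semM D V i j = val (row V (pos D i)) (pos D j) := rfl

/-- the sparse matrix -/
def semT (l : SpT) : Matrix D.Idx D.Idx (ZMod 3) :=
  Matrix.of fun i j => (l.map fun e => if e.1 = pos D i ∧ e.2.1 = pos D j then sg e.2.2 else 0).sum

theorem semT_apply (l : SpT) (i j : D.Idx) :
    semT D l i j = (l.map fun e => if e.1 = pos D i ∧ e.2.1 = pos D j then sg e.2.2 else 0).sum := rfl

theorem semT_nil : semT D [] = 0 := by ext i j; simp [semT_apply]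

theorem semT_cons (e : ℕ × ℕ × Bool) (l : SpT) : semT D (e :: l) = semT D [e] + semT D l := by
  ext i j
  rw [Matrix.add_apply, semT_apply, semT_apply, semT_apply]
  simp

variable {D}

theorem vld_step {V0 acc : ℕ} {e : ℕ × ℕ × Bool} (h0 : VldM V0) (h : VldM acc) :
    Vld (bif e.2.2 then tsub (row acc e.1) (row V0 e.2.1) else tadd (row acc e.1) (row V0 e.2.1)) := by
  cases e.2.2
  · exact vld_add (h _) (h0 _)
  · exact vld_sub (h _) (h0 _)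

theorem vldM_step {V0 acc : ℕ} {e : ℕ × ℕ × Bool} (h0 : VldM V0) (h : VldM acc) : VldM (stepE V0 e acc) :=
  vldM_put h (vld_step h0 h)

theorem sem_step (hD : sz D ≤ 256) {V0 acc : ℕ} {e : ℕ × ℕ × Bool} (h0 : VldM V0) (h : VldM acc) (he : e.2.1 < sz D) :
    semM D (stepE V0 e acc) = semM D acc + semT D [e] * semM D V0 := by
  obtain ⟨k, hk⟩ := (posOK D).surj e.2.1 he
  ext i j
  have hj : pos D j < 256 := ((posOK D).lt j).trans_le hD
  rw [Matrix.add_apply, Matrix.mul_apply, semM_apply, semM_apply, stepE, row_put (vld_step h0 h).lt,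
    Finset.sum_eq_single k]
  · rw [semT_apply, semM_apply]
    by_cases hi : pos D i = e.1
    · rw [if_pos hi]
      cases hc : e.2.2
      · rw [cond_false, val_add (h _) (h0 _) hj]
        simp [hi, hk, sg, hc]
      · rw [cond_true, val_sub (h _) (h0 _) hj]
        simp [hi, hk, sg, hc, sub_eq_add_neg]
    · rw [if_neg hi]
      have h' : ¬ (e.1 = pos D i) := fun e => hi e.symm
      simp [h']
  · intro b _ hb
    have : ¬ (e.2.1 = pos D b) := by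
      intro e
      apply hb
      apply (posOK D).inj
      rw [← e, hk]
    rw [semT_apply]
    simp [this]
  · intro h
    exact absurd (Finset.mem_univ _) h

/-- all columns are in range -/
def okS (n : ℕ) (l : SpT) : Bool := l.all fun e => Nat.blt e.2.1 n

theorem sem_mulS (hD : sz D ≤ 256) {l : SpT} (hl : okS (sz D) l = true) {V : ℕ} (hV : VldM V) :
    VldM (mulS l V) ∧ semM D (mulS l V) = (1 + semT D l) * semM D V := by
  have key : ∀ V : ℕ, VldM V → VldM (l.foldr (stepE V) V) ∧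
      semM D (l.foldr (stepE V) V) = (1 + semT D l) * semM D V := by
    intro V hV
    induction l with
    | nil => exact ⟨hV, by rw [semT_nil, add_zero, one_mul]; rfl⟩
    | cons e l ih =>
      have h1 : Nat.blt e.2.1 (sz D) = true ∧ okS (sz D) l = true := by
        simpa only [okS, List.all_cons, Bool.and_eq_true] using hl
      obtain ⟨h2, h3⟩ := ih h1.2
      rw [List.foldr_cons]
      refine ⟨vldM_step hV h2, ?_⟩
      rw [sem_step hD hV h2 (by simpa [Nat.blt_eq] using h1.1), h3, semT_cons D e l]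
      noncomm_ring
  unfold mulS
  cases V with
  | zero =>
    refine ⟨vldM_zero, ?_⟩
    have h0 : semM D 0 = 0 := by
      ext i j
      rw [semM_apply, row_zero, val_zero]; rfl
    rw [h0, mul_zero]
    exact h0
  | succ n => exact key (n + 1) hV

theorem sem_id (hD : sz D ≤ 256) : semM D (idM (sz D)) = 1 := by
  ext i j
  rw [semM_apply, row_id hD ((posOK D).lt i), val_un (((posOK D).lt i).trans_le hD), Matrix.one_apply]
  by_cases h : i = j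
  · subst h; simp
  · have h' : ¬ pos D j = pos D i := fun e => h ((posOK D).inj e).symm
    simp [h, h']

end sem

/-! ### tables of root elements -/

/-- reduction modulo 3 -/
def norm1 (e : ℕ × ℕ × ℤ) : Option (ℕ × ℕ × Bool) :=
  match (e.2.2 % 3).toNat with
  | 0 => none
  | 1 => some (e.1, e.2.1, false)
  | _ => some (e.1, e.2.1, true)

/-- reduction modulo 3 -/
def norm : SpZ → SpT
  | [] => []
  | e :: l => match norm1 e with
    | none => norm l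
    | some e' => e' :: norm l

theorem semT_norm (D : ChevalleyDatum) (l : SpZ) : semT D (norm l) = semZ D (ZMod 3) l := by
  induction l with
  | nil => ext i j; simp [semT_apply, semZ_apply, norm]
  | cons e l ih =>
    have h1 : semZ D (ZMod 3) (e :: l) = semZ D (ZMod 3) [e] + semZ D (ZMod 3) l := by
      ext i j
      rw [Matrix.add_apply, semZ_apply, semZ_apply, semZ_apply]
      simp
    rw [h1, ← ih]
    obtain ⟨a, b, c⟩ := e
    have hc : ((c : ℤ) : ZMod 3) = ((c % 3 : ℤ) : ZMod 3) := (ZMod.intCast_mod c 3).symm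
    have h3 : c % 3 = 0 ∨ c % 3 = 1 ∨ c % 3 = 2 := by omega
    rcases h3 with h | h | h
    · have h4 : norm1 (a, b, c) = none := by unfold norm1; rw [show ((a, b, c) : ℕ × ℕ × ℤ).2.2 = c from rfl, h]; rfl
      rw [norm, h4]
      ext i j
      rw [Matrix.add_apply, semZ_apply]
      simp [hc, h]
    · have h4 : norm1 (a, b, c) = some (a, b, false) := by
        unfold norm1; rw [show ((a, b, c) : ℕ × ℕ × ℤ).2.2 = c from rfl, h]; rfl
      rw [norm, h4]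
      show semT D ((a, b, false) :: norm l) = _
      rw [semT_cons]
      congr 1
      ext i j
      rw [semZ_apply, semT_apply]
      have h6 : ptZ (ZMod 3) (pos D i) (pos D j) (a, b, c) = if a = pos D i ∧ b = pos D j then ((c : ℤ) : ZMod 3) else 0 := rfl
      simp [h6, hc, h, sg]
    · have h4 : norm1 (a, b, c) = some (a, b, true) := by
        unfold norm1; rw [show ((a, b, c) : ℕ × ℕ × ℤ).2.2 = c from rfl, h]; rfl
      rw [norm, h4]
      show semT D ((a, b, true) :: norm l) = _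
      rw [semT_cons]
      congr 1
      ext i j
      rw [semZ_apply, semT_apply]
      have h5 : ((2 : ℤ) : ZMod 3) = -1 := by decide
      have h6 : ptZ (ZMod 3) (pos D i) (pos D j) (a, b, c) = if a = pos D i ∧ b = pos D j then ((c : ℤ) : ZMod 3) else 0 := rfl
      simp only [List.map_cons, List.map_nil, List.sum_cons, List.sum_nil, add_zero, h6, hc, h, sg, cond_true, h5]

/-- boolean equality -/
def beqT : SpT → SpT → Bool
  | [], [] => true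
  | a :: l, b :: m => Nat.beq a.1 b.1 && (Nat.beq a.2.1 b.2.1 && ((a.2.2 == b.2.2) && beqT l m))
  | _, _ => false

theorem eq_of_beqT : ∀ {l m : SpT}, beqT l m = true → l = m
  | [], [], _ => rfl
  | a :: l, b :: m, h => by
    unfold beqT at h
    rw [Bool.and_eq_true, Bool.and_eq_true, Bool.and_eq_true] at h
    obtain ⟨h1, h2, h3, h4⟩ := h
    rw [eq_of_beqT h4]
    obtain ⟨a1, a2, a3⟩ := a
    obtain ⟨b1, b2, b3⟩ := b
    have e1 : a1 = b1 := Nat.eq_of_beq_eq_true h1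
    have e2 : a2 = b2 := Nat.eq_of_beq_eq_true h2
    have e3 : a3 = b3 := eq_of_beq h3
    rw [e1, e2, e3]
  | [], b :: m, h => by exact absurd h (by simp [beqT])
  | a :: l, [], h => by exact absurd h (by simp [beqT])

/-- look up a root in the table -/
def look (X : List (ℕ × SpT)) (r : ℕ) : SpT :=
  match X with
  | [] => []
  | e :: X => bif Nat.beq e.1 r then e.2 else look X r

/-- the root is in the table -/
def hasR (X : List (ℕ × SpT)) (r : ℕ) : Bool :=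
  match X with
  | [] => false
  | e :: X => bif Nat.beq e.1 r then true else hasR X r

/-- the table is correct -/
def okT (D : ChevalleyDatum) (X : List (ℕ × SpT)) : Bool :=
  X.all fun e => Nat.blt e.1 D.nroots && okS (sz D) e.2 && beqT e.2 (norm (XlsZ D e.1))

theorem look_spec {D : ChevalleyDatum} {X : List (ℕ × SpT)} (hX : okT D X = true) {r : ℕ} (hr : hasR X r = true) :
    r < D.nroots ∧ okS (sz D) (look X r) = true ∧ look X r = norm (XlsZ D r) := by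
  induction X with
  | nil => exact absurd hr (by simp [hasR])
  | cons e X ih =>
    unfold okT at hX
    rw [List.all_cons, Bool.and_eq_true, Bool.and_eq_true, Bool.and_eq_true] at hX
    obtain ⟨⟨⟨h1, h2⟩, h3⟩, h4⟩ := hX
    unfold hasR at hr
    unfold look
    cases h : Nat.beq e.1 r with
    | true =>
      rw [cond_true]
      have h5 : e.1 = r := Nat.eq_of_beq_eq_true h
      subst h5
      exact ⟨by simpa [Nat.blt_eq] using h1, h2, eq_of_beqT h3⟩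
    | false =>
      rw [cond_false]
      rw [h, cond_false] at hr
      exact ih h4 hr

/-- the code of `x_r(1) * M` -/
def mulX (X : List (ℕ × SpT)) (r V : ℕ) : ℕ := mulS (look X r) V

/-- the code of `x_{r_1}(1) ⋯ x_{r_k}(1) * M` -/
def wc (X : List (ℕ × SpT)) (w : List ℕ) (V : ℕ) : ℕ := w.foldr (mulX X) V

theorem wc_nil (X : List (ℕ × SpT)) (V : ℕ) : wc X [] V = V := rfl
theorem wc_cons (X : List (ℕ × SpT)) (r : ℕ) (w : List ℕ) (V : ℕ) : wc X (r :: w) V = mulX X r (wc X w V) := rfl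
/-- all letters are in the table -/
def okW (X : List (ℕ × SpT)) (w : List ℕ) : Bool := w.all (hasR X)

theorem okW_cons {X : List (ℕ × SpT)} {r : ℕ} {w : List ℕ} (h : okW X (r :: w) = true) :
    hasR X r = true ∧ okW X w = true := by
  unfold okW at h ⊢
  rwa [List.all_cons, Bool.and_eq_true] at h

variable {D : ChevalleyDatum} (hD : InList D) (hs : sz D ≤ 256) {X : List (ℕ × SpT)} (hX : okT D X = true)

include hs hX

theorem sem_mulX {r : ℕ} (hr : hasR X r = true) {V : ℕ} (hV : VldM V) :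
    VldM (mulX X r V) ∧ semM D (mulX X r V) = D.x (ZMod 3) r 1 * semM D V := by
  obtain ⟨h1, h2, h3⟩ := look_spec hX hr
  have h4 := sem_mulS hs h2 hV
  refine ⟨h4.1, ?_⟩
  rw [mulX, h4.2, x_one_eqZ D h1, h3, semT_norm]

theorem sem_wc {w : List ℕ} (hw : okW X w = true) {V : ℕ} (hV : VldM V) :
    VldM (wc X w V) ∧ semM D (wc X w V) = (wG hD (ZMod 3) w : Matrix D.Idx D.Idx (ZMod 3)) * semM D V := by
  induction w with
  | nil => exact ⟨hV, by rw [wc_nil, wG_nil, Units.val_one, one_mul]⟩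
  | cons r w ih =>
    obtain ⟨h1, h2⟩ := okW_cons hw
    obtain ⟨h3, h4⟩ := ih h2
    obtain ⟨h5, h6⟩ := sem_mulX hs hX h1 h3
    exact ⟨h5, by rw [wc_cons, h6, h4, wG_cons, Units.val_mul, mul_assoc, coe_xG]⟩

include hD in
theorem vldM_wc {w : List ℕ} (hw : okW X w = true) : VldM (wc X w (idM (sz D))) :=
  (sem_wc hD hs hX hw (vldM_id hs)).1

theorem coe_wG {w : List ℕ} (hw : okW X w = true) :
    (wG hD (ZMod 3) w : Matrix D.Idx D.Idx (ZMod 3)) = semM D (wc X w (idM (sz D))) := by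
  rw [(sem_wc hD hs hX hw (vldM_id hs)).2, sem_id hs, mul_one]

end Cfsg.Agent.H74.E83.Code
end

-- part: H74/E83/Tab
section
/-!
# Table of the root elements of the subsystem `A₄ + A₄` of `E₈` modulo 3 (helper74, S5925, box J)

`TX` : `x_r(1) - 1` modulo 3 for the 40 roots of the tables `E1`, `E2` of `tools/plans/S5925_code/frame.txt`.
-/

set_option autoImplicit false
set_option maxRecDepth 100000

namespace Cfsg.Agent.H74.E83

open Cfsg.Agent.H74.E83.Code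

def t0 : SpT :=
  (beta% delta% lq26a1341ae9 fun a b d e f _ _ i _ _ _ _ _ _ _ =>
 (let c:=(let c:=(let c:=(let c:=(b (a 118<|a 243 d)<|b (a 122<|a 244 d)<|b (a 125<|a 245 d)<|b (a 127<|a 246 d)<|i);
 (b (a 96<|a 239 e)<|b (a 101<|a 240 d)<|b (a 107<|a 241 d)<|b (a 113<|a 242 d)<|
 c));
 (let c:=(b (a 86<|a 235 e)<|b (a 87<|a 236
 d)<|b (a 89<|a 237 e)<|b (a 92<|a 238 d)<|c);
 (b (a 67<|a 230 e)<|b (a 70<|a 231 d)<|b (a 74<|a 232 e)<|b (a 79<|a 233 d)<|c)));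
 (let c:=(let c:=(b (a 57<|a 225 d)<|b (a 60<|a 226 e)<|b (a 64<|a 228 e)<|
 b (a 65<|a 229 d)<|c);
 (b (a 49<|a 220
 d)<|b (a 51<|a 221 e)<|b (a 54<|a 223 d)<|b (a 55<|a 224 e)<|c));
 (let c:=(b (a 44<|a 214 e)<|b (a 45<|a 216 d)<|b (a 46<|a 217 e)<|b (a 48<|a 219 e)<|c);
 (b (a 36<|a 207 d)<|b (a 38<|a 209 d)<|b (a 39<|
 a 210 e)<|b (a 41<|a 211 d)<|c))));
 (let c:=(let c:=(let c:=(b (a 31<|a 200 d)<|b (a 32<|a 201 e)<|b (a 34<|a 204 d)<|b (a 35<|a 206 e)<|c);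
 (b (a 26<|a 190 e)<|b (a 27<|a 191 d)<|b (a 29<|a 195 d)<|b (a 30<|a 198
 e)<|c));
 (let c:=(b (a 22<|a 176 e)<|
 b (a 23<|a 181 d)<|b (a 24<|a 185 e)<|b (a 25<|a 188 d)<|c);
 (b (a 17<|a 163 e)<|b (a 18<|a 166 d)<|b (a 19<|a 168 e)<|b (a 20<|a 169 d)<|c)));
 (let c:=(let c:=(b (a 13<|a 142 e)<|b (a 14<|a 148 e)<|b (a 15<|a 154
 e)<|b (a 16<|a 159 d)<|c);
 (b (a 9<|a 128 e)<|b (a 10<|a 130 e)<|b (a 11<|a 133 e)<|b (a 12<|a 137 e)<|c));
 (f (a 8<|a 7 e)<|f (a 0<|a 247 e)<|f (a 2<|a 247 d)<|f (a 4<|a 247 e)<|f (a 5<|a 247 d)<|f (a 7<|a 247 e)<|f (a 8<|a 247 d)<|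
 c)))))

def t1 : SpT :=
  (beta% delta% lq26a1341ae9 fun a b d e f _ _ i _ _ _ _ _ _ _ =>
 (let c:=(let c:=(let c:=(let c:=(b (a 119<|a 243 d)<|b (a 123<|a 244 d)<|b (a 126<|a 245 d)<|b (a 128<|a 247 d)<|i);
 (b (a 97<|a 239 e)<|b (a 102<|a 240 d)<|b (a 108<|a 241 d)<|
 b (a 114<|a 242 d)<|c));
 (let c:=(b (a 86<|a 234
 e)<|b (a 88<|a 236 d)<|b (a 90<|a 237 e)<|b (a 93<|a 238 d)<|c);
 (b (a 68<|a 230 e)<|b (a 71<|a 231 d)<|b (a 75<|a 232 e)<|b (a 80<|a 233 d)<|c)));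
 (let c:=(let c:=(b (a 58<|a 225 d)<|b (a 61<|a 226 e)<|
 b (a 64<|a 227 e)<|b (a 66<|a 229 d)<|c);
 (b (a 50<|a 220 d)<|b (a 52<|a 221 e)<|b (a 54<|a 222 d)<|b (a 56<|a 224 e)<|c));
 (let c:=(b (a 44<|a 213 e)<|b (a 45<|a 215 d)<|b (a 47<|a 217 e)<|b (a 48<|a 218
 e)<|c);
 (b (a 37<|a 207 d)<|b (a 38<|
 a 208 d)<|b (a 40<|a 210 e)<|b (a 42<|a 211 d)<|c))));
 (let c:=(let c:=(let c:=(b (a 31<|a 199 d)<|b (a 33<|a 201 e)<|b (a 34<|a 203 d)<|b (a 35<|a 205 e)<|c);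
 (b (a 26<|a 189 e)<|b (a 28<|a 191 d)<|b (a 29<|a 194
 d)<|b (a 30<|a 197 e)<|c));
 (let c:=(b (a 22<|a 175 e)<|b (a 23<|a 180 d)<|b (a 24<|a 184 e)<|b (a 25<|a 187 d)<|c);
 (b (a 17<|a 162 e)<|b (a 18<|a 165 d)<|b (a 19<|a 167 e)<|b (a 21<|a 169 d)<|
 c)));
 (let c:=(let c:=(b (a 13<|a 141 e)<|b (a 14<|a 147
 e)<|b (a 15<|a 153 e)<|b (a 16<|a 158 d)<|c);
 (b (a 8<|a 127 e)<|b (a 10<|a 129 e)<|b (a 11<|a 132 e)<|b (a 12<|a 136 e)<|c));
 (let c:=(b (a 4<|a 246 e)<|b (a 5<|a 246 d)<|b (a 7<|a 246 d)<|b (a 9<|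
 a 246 d)<|c);
 (f (a 9<|a 6 e)<|f (a 9<|a 7 d)<|f (a 0<|a 246 e)<|f (a 2<|a 246 d)<|c))))))

def t2 : SpT :=
  (beta% delta% lq26a1341ae9 fun a b d e f _ _ i _ _ _ _ _ _ _ =>
 (let c:=(let c:=(let c:=(let c:=(b (a 115<|a 242 d)<|b (a 120<|a 243 d)<|b (a 124<|a 244 d)<|b (a 129<|a 246 d)<|b (a 130<|a 247 d)<|i);
 (b (a 94<|a 238 d)<|b (a 98<|a 239 e)<|b (a 103<|a 240 d)<|b (a 109<|a 241
 d)<|c));
 (let c:=(b (a 81<|a 233 d)<|
 b (a 87<|a 234 e)<|b (a 88<|a 235 d)<|b (a 91<|a 237 e)<|c);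
 (b (a 66<|a 228 d)<|b (a 69<|a 230 e)<|b (a 72<|a 231 d)<|b (a 76<|a 232 e)<|c)));
 (let c:=(let c:=(b (a 56<|a 223 e)<|b (a 59<|a 225 d)<|b (a 62<|a 226
 e)<|b (a 65<|a 227 e)<|c);
 (b (a 49<|a 218 e)<|b (a 50<|a 219 d)<|b (a 53<|a 221 e)<|b (a 55<|a 222 d)<|c));
 (let c:=(b (a 43<|a 211 d)<|b (a 44<|a 212 e)<|b (a 46<|a 215 d)<|b (a 47<|a 216 e)<|
 c);
 (b (a 36<|a 205 e)<|b (a 37<|
 a 206 d)<|b (a 39<|a 208 d)<|b (a 40<|a 209 e)<|c))));
 (let c:=(let c:=(let c:=(b (a 30<|a 196 e)<|b (a 32<|a 199 d)<|b (a 33<|a 200 e)<|b (a 34<|a 202 d)<|c);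
 (b (a 25<|a 186 d)<|b (a 27<|a 189 e)<|b (a 28<|a 190
 d)<|b (a 29<|a 193 d)<|c));
 (let c:=(b (a 21<|a 168 d)<|b (a 22<|a 174 e)<|b (a 23<|a 179 d)<|b (a 24<|a 183 e)<|c);
 (b (a 16<|a 157 d)<|b (a 17<|a 161 e)<|b (a 18<|a 164 d)<|b (a 20<|a 167 e)<|
 c)));
 (let c:=(let c:=(b (a 12<|a 135 e)<|b (a 13<|a 140
 e)<|b (a 14<|a 146 e)<|b (a 15<|a 152 e)<|c);
 (b (a 10<|a 245 d)<|b (a 8<|a 125 e)<|b (a 9<|a 126 e)<|b (a 11<|a 131 e)<|c));
 (let c:=(b (a 4<|a 245 e)<|b (a 5<|a 245 d)<|b (a 6<|a 245 e)<|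
 b (a 7<|a 245 d)<|c);
 (f (a 10<|a 5 e)<|f (a 10<|a 6 d)<|f (a 0<|a 245 e)<|f (a 2<|a 245 d)<|c))))))

def t3 : SpT :=
  (beta% delta% lq26a1341ae9 fun a b d e f _ _ i _ _ _ _ _ _ _ =>
 (let c:=(let c:=(let c:=(let c:=(b (a 121<|a 243 d)<|b (a 131<|a 245 d)<|b (a 132<|a 246 d)<|b (a 133<|a 247 d)<|i);
 (b (a 99<|a 239 e)<|b (a 104<|a 240 d)<|b (a 110<|a 241 d)<|
 b (a 116<|a 242 d)<|c));
 (let c:=(b (a 89<|a 234
 e)<|b (a 90<|a 235 d)<|b (a 91<|a 236 e)<|b (a 95<|a 238 d)<|c);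
 (b (a 69<|a 229 e)<|b (a 73<|a 231 d)<|b (a 77<|a 232 e)<|b (a 82<|a 233 d)<|c)));
 (let c:=(let c:=(b (a 59<|a 224 d)<|b (a 63<|a 226 e)<|
 b (a 67<|a 227 e)<|b (a 68<|a 228 d)<|c);
 (b (a 52<|a 219 d)<|b (a 53<|a 220 e)<|b (a 57<|a 222 d)<|b (a 58<|a 223 e)<|c));
 (let c:=(b (a 45<|a 212 e)<|b (a 46<|a 213 d)<|b (a 47<|a 214 e)<|b (a 51<|a 218
 e)<|c);
 (b (a 37<|a 204 d)<|b (a 41<|
 a 208 d)<|b (a 42<|a 209 e)<|b (a 43<|a 210 d)<|c))));
 (let c:=(let c:=(let c:=(b (a 32<|a 197 d)<|b (a 33<|a 198 e)<|b (a 35<|a 202 d)<|b (a 36<|a 203 e)<|c);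
 (b (a 27<|a 187 e)<|b (a 28<|a 188 d)<|b (a 29<|a 192
 d)<|b (a 31<|a 196 e)<|c));
 (let c:=(b (a 22<|a 173 e)<|b (a 23<|a 178 d)<|b (a 24<|a 182 e)<|b (a 26<|a 186 d)<|c);
 (b (a 17<|a 160 e)<|b (a 19<|a 164 d)<|b (a 20<|a 165 e)<|b (a 21<|a 166 d)<|
 c)));
 (let c:=(let c:=(b (a 13<|a 139 e)<|b (a 14<|a 145
 e)<|b (a 15<|a 151 e)<|b (a 16<|a 156 d)<|c);
 (b (a 8<|a 122 e)<|b (a 9<|a 123 e)<|b (a 10<|a 124 e)<|b (a 12<|a 134 e)<|c));
 (let c:=(b (a 4<|a 244 e)<|b (a 6<|a 244 e)<|b (a 7<|a 244 d)<|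
 b (a 11<|a 244 d)<|c);
 (f (a 11<|a 4 e)<|f (a 11<|a 5 d)<|f (a 0<|a 244 e)<|f (a 2<|a 244 d)<|c))))))

def t70 : SpT :=
  (beta% delta% lq26a1341ae9 fun a b d e f _ _ i _ _ _ _ _ _ _ =>
 (let c:=(let c:=(let c:=(let c:=(b (a 211<|a 237 d)<|b (a 226<|a 241 d)<|b (a 231<|a 242 d)<|b (a 232<|a 243 d)<|i);
 (b (a 169<|a 217 d)<|b (a 208<|a 234 d)<|b (a 209<|a 235 d)<|
 b (a 210<|a 236 d)<|c));
 (let c:=(b (a 165<|a 213
 d)<|b (a 166<|a 214 d)<|b (a 167<|a 215 d)<|b (a 168<|a 216 d)<|c);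
 (b (a 146<|a 193 d)<|b (a 147<|a 194 d)<|b (a 148<|a 195 d)<|b (a 164<|a 212 d)<|c)));
 (let c:=(let c:=(b (a 140<|a 183 e)<|b (a 141<|a 184 e)<|b (a 142<|
 a 185 e)<|b (a 145<|a 192 d)<|c);
 (b (a 135<|a 179 d)<|b (a 136<|a 180 d)<|b (a 137<|a 181 d)<|b (a 139<|a 182 e)<|c));
 (let c:=(b (a 100<|a 170 d)<|b (a 105<|a 171 e)<|b (a 106<|a 172 d)<|b (a 134<|a 178 d)<|
 c);
 (b (a 77<|a 121 e)<|b (a 83<|a 149
 e)<|b (a 84<|a 150 d)<|b (a 85<|a 155 e)<|c))));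
 (let c:=(let c:=(let c:=(b (a 73<|a 116 d)<|b (a 74<|a 118 e)<|b (a 75<|a 119 e)<|b (a 76<|a 120 e)<|c);
 (b (a 63<|a 110 e)<|b (a 70<|a 113 d)<|b (a 71<|a 114 d)<|
 b (a 72<|a 115 d)<|c));
 (let c:=(b (a 43<|a 91
 e)<|b (a 60<|a 107 e)<|b (a 61<|a 108 e)<|b (a 62<|a 109 e)<|c);
 (b (a 39<|a 87 e)<|b (a 40<|a 88 e)<|b (a 41<|a 89 e)<|b (a 42<|a 90 e)<|c)));
 (let c:=(let c:=(b (a 19<|a 45 e)<|b (a 20<|a 46 e)<|
 b (a 21<|a 47 e)<|b (a 38<|a 86 e)<|c);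
 (b (a 12<|a 23 e)<|b (a 13<|a 24 e)<|b (a 14<|a 29 e)<|b (a 18<|a 44 e)<|c));
 (let c:=(b (a 1<|a 177 d)<|b (a 2<|a 177 d)<|b (a 3<|a 177 d)<|b (a 78<|
 a 177 d)<|c);
 (f (a 78<|a 0 e)<|f (a 78<|a 1 e)<|f (a 78<|a 4 d)<|f (a 0<|a 177 d)<|c))))))

def t75 : SpT :=
  (beta% delta% lq26a1341ae9 fun a b d e f _ _ i _ _ _ _ _ _ _ =>
 (let c:=(let c:=(let c:=(let c:=(b (a 221<|a 237 e)<|b (a 226<|a 239 d)<|b (a 231<|a 240 d)<|b (a 233<|a 243 e)<|i);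
 (b (a 169<|a 207 d)<|b (a 218<|a 234 e)<|b (a 219<|a 235 e)<|b (a 220<|
 a 236 e)<|c));
 (let c:=(b (a 165<|a 203 d)<|
 b (a 166<|a 204 d)<|b (a 167<|a 205 d)<|b (a 168<|a 206 d)<|c);
 (b (a 157<|a 193 e)<|b (a 158<|a 194 e)<|b (a 159<|a 195 e)<|b (a 164<|a 202 d)<|c)));
 (let c:=(let c:=(b (a 152<|a 183 e)<|b (a 153<|a 184 e)<|b (a 154<|a 185 e)<|
 b (a 156<|a 192 e)<|c);
 (b (a 136<|a 175 d)<|
 b (a 137<|a 176 d)<|b (a 149<|a 177 d)<|b (a 151<|a 182 e)<|c));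
 (let c:=(b (a 111<|a 170 d)<|b (a 117<|a 171 d)<|b (a 134<|a 173 d)<|b (a 135<|a 174 d)<|c);
 (b (a 81<|a 120 e)<|b (a 82<|a 121 e)<|b (a 84<|a 138
 e)<|b (a 85<|a 144 e)<|c))));
 (let c:=(let c:=(let c:=(b (a 73<|a 104 d)<|b (a 78<|a 106 e)<|b (a 79<|a 118 e)<|b (a 80<|a 119 e)<|c);
 (b (a 63<|a 99 d)<|b (a 70<|a 101 d)<|b (a 71<|a 102 d)<|b (a 72<|a 103 d)<|
 c));
 (let c:=(b (a 53<|a 91 e)<|
 b (a 60<|a 96 d)<|b (a 61<|a 97 d)<|b (a 62<|a 98 d)<|c);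
 (b (a 49<|a 87 e)<|b (a 50<|a 88 e)<|b (a 51<|a 89 e)<|b (a 52<|a 90 e)<|c)));
 (let c:=(let c:=(b (a 19<|a 35 d)<|b (a 20<|a 36 d)<|b (a 21<|
 a 37 d)<|b (a 48<|a 86 e)<|c);
 (b (a 12<|a 22 d)<|b (a 15<|a 24 e)<|b (a 16<|a 29 e)<|b (a 18<|a 34 d)<|c));
 (let c:=(b (a 0<|a 172 d)<|b (a 2<|a 172 d)<|b (a 3<|a 172 d)<|b (a 83<|
 a 172 d)<|c);
 (f (a 83<|a 0 e)<|f (a 83<|a 1 d)<|f (a 83<|a 3 e)<|f (a 83<|a 4 d)<|c))))))

def t76 : SpT :=
  (beta% delta% lq26a1341ae9 fun a b d e f _ _ i _ _ _ _ _ _ _ =>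
 (let c:=(let c:=(let c:=(let c:=(b (a 225<|a 237
 d)<|b (a 226<|a 238 d)<|b (a 232<|a 240 e)<|b (a 233<|a 242 e)<|i);
 (b (a 169<|a 201 d)<|b (a 222<|a 234 d)<|b (a 223<|a 235 d)<|b (a 224<|a 236 d)<|c));
 (let c:=(b (a 165<|a 197 d)<|b (a 166<|a 198 d)<|b (a 167<|
 a 199 d)<|b (a 168<|a 200 d)<|c);
 (b (a 161<|a 193 d)<|b (a 162<|a 194 d)<|b (a 163<|a 195 d)<|b (a 164<|a 196 d)<|c)));
 (let c:=(let c:=(b (a 152<|a 179 e)<|b (a 153<|a 180 e)<|b (a 154<|a 181 e)<|b (a 160<|a 192 d)<|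
 c);
 (b (a 141<|a 175 d)<|b (a 142<|a 176 d)<|
 b (a 150<|a 177 e)<|b (a 151<|a 178 e)<|c));
 (b (a 82<|a 116 e)<|b (a 83<|a 117 e)<|b (a 85<|a 143
 e)<|b (a 112<|a 170 d)<|b (a 138<|a 172 d)<|b (a 139<|a 173 d)<|b (a 140<|a 174 d)<|c)));
 (let c:=(let c:=(let c:=(b (a 78<|
 a 105 d)<|b (a 79<|a 113 e)<|b (a 80<|a 114 e)<|b (a 81<|a 115 e)<|c);
 (b (a 74<|a 101 d)<|b (a 75<|a 102 d)<|b (a 76<|a 103 d)<|b (a 77<|a 104 d)<|c));
 (let c:=(b (a 60<|a 92 e)<|b (a 61<|a 93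
 e)<|b (a 62<|a 94 e)<|b (a 63<|a 95 e)<|c);
 (b (a 56<|a 88 e)<|b (a 57<|a 89 e)<|b (a 58<|a 90 e)<|b (a 59<|a 91 e)<|c)));
 (let c:=(let c:=(b (a 20<|a 32 e)<|b (a 21<|a 33 e)<|b (a 54<|a 86 e)<|
 b (a 55<|a 87 e)<|c);
 (b (a 15<|
 a 23 d)<|b (a 17<|a 29 e)<|b (a 18<|a 30 e)<|b (a 19<|a 31 e)<|c));
 (f (a 84<|a 0 e)<|f (a 84<|a 2 e)<|f (a 84<|a 3 d)<|f (a 0<|a 171 d)<|f (a 2<|a 171 d)<|f (a 84<|a 171 d)<|f (a 13<|a 22 d)<|c)))))

def t77 : SpT :=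
  (beta% delta% lq26a1341ae9 fun a b d e f _ _ i _ _ _ _ _ _ _ =>
 (let c:=(let c:=(let c:=(let c:=(b (a 230<|a 237 e)<|b (a 231<|a 238 e)<|b (a 232<|a 239 e)<|
 b (a 233<|a 241 e)<|i);
 (b (a 169<|a 191 d)<|
 b (a 227<|a 234 e)<|b (a 228<|a 235 e)<|b (a 229<|a 236 e)<|c));
 (b (a 162<|a 184 d)<|b (a 163<|a 185
 d)<|b (a 164<|a 186 d)<|b (a 165<|a 187 d)<|b (a 166<|a 188 d)<|b (a 167<|a 189 d)<|b (a 168<|a 190 d)<|c));
 (let c:=(let c:=(b (a 158<|a 180 d)<|b (a 159<|a 181 d)<|b (a 160<|a 182 d)<|b (a 161<|a 183 d)<|c);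
 (b (a 148<|a 176 d)<|b (a 155<|a 177 d)<|b (a 156<|a 178 d)<|b (a 157<|
 a 179 d)<|c));
 (b (a 83<|a 111 e)<|b (a 84<|a 112 e)<|b (a 143<|a 171 d)<|b (a 144<|a 172 d)<|
 b (a 145<|a 173 d)<|b (a 146<|a 174 d)<|b (a 147<|a 175 d)<|c)));
 (let c:=(let c:=(let c:=(b (a 79<|a 107 e)<|b (a 80<|a 108
 e)<|b (a 81<|a 109 e)<|b (a 82<|a 110 e)<|c);
 (b (a 75<|a 97 e)<|b (a 76<|a 98 e)<|b (a 77<|a 99 e)<|b (a 78<|a 100 e)<|c));
 (b (a 68<|a 90 e)<|b (a 69<|a 91 e)<|b (a 70<|a 92 e)<|b (a 71<|a 93 e)<|b (a 72<|a 94 e)<|b (a 73<|a 95 e)<|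
 b (a 74<|a 96 e)<|c));
 (let c:=(let c:=(b (a 64<|a 86 e)<|b (a 65<|a 87 e)<|b (a 66<|a 88 e)<|b (a 67<|
 a 89 e)<|c);
 (b (a 18<|
 a 25 d)<|b (a 19<|a 26 d)<|b (a 20<|a 27 d)<|b (a 21<|a 28 d)<|c));
 (f (a 85<|a 0 d)<|f (a 85<|a 2 d)<|f (a 0<|a 170 d)<|f (a 85<|a 170 d)<|f (a 14<|a 22 d)<|f (a 16<|a 23 d)<|f (a 17<|a 24 d)<|c)))))

def t92 : SpT :=
  (beta% delta% lq26a1341ae9 fun a b d e f _ _ i _ _ _ _ _ _ _ =>
 (let c:=(let c:=(let c:=(let c:=(b (a 211<|a 230 e)<|b (a 226<|a 233 e)<|b (a 238<|a 242 d)<|b (a 239<|a 243 d)<|i);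
 (b (a 191<|a 217 e)<|b (a 208<|a 227 e)<|b (a 209<|a 228 e)<|
 b (a 210<|a 229 e)<|c));
 (let c:=(b (a 187<|a 213 e)<|
 b (a 188<|a 214 e)<|b (a 189<|a 215 e)<|b (a 190<|a 216 e)<|c);
 (b (a 174<|a 193 e)<|b (a 175<|a 194 e)<|b (a 176<|a 195 e)<|b (a 186<|a 212 e)<|c)));
 (let c:=(let c:=(b (a 141<|a 162 e)<|b (a 142<|a 163 e)<|b (a 170<|a 177 e)<|
 b (a 173<|a 192 e)<|c);
 (b (a 136<|a 158 d)<|
 b (a 137<|a 159 d)<|b (a 139<|a 160 e)<|b (a 140<|a 161 e)<|c));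
 (let c:=(b (a 111<|a 149 e)<|b (a 112<|a 150 d)<|b (a 134<|a 156 d)<|b (a 135<|a 157 d)<|c);
 (b (a 98<|a 120 e)<|b (a 99<|a 121 e)<|b (a 105<|a 143
 e)<|b (a 106<|a 144 d)<|c))));
 (let c:=(let c:=(let c:=(b (a 94<|
 a 115 d)<|b (a 95<|a 116 d)<|b (a 96<|a 118 e)<|b (a 97<|a 119 e)<|c);
 (b (a 63<|a 82 d)<|b (a 78<|a 85 d)<|b (a 92<|a 113 d)<|b (a 93<|a 114 d)<|c));
 (let c:=(b (a 43<|a 69 d)<|b (a 60<|
 a 79 d)<|b (a 61<|a 80 d)<|b (a 62<|a 81 d)<|c);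
 (b (a 39<|a 65 d)<|b (a 40<|a 66 d)<|b (a 41<|a 67 d)<|b (a 42<|a 68 d)<|c)));
 (let c:=(let c:=(b (a 26<|a 45 d)<|b (a 27<|a 46 d)<|
 b (a 28<|a 47 d)<|b (a 38<|a 64 d)<|c);
 (b (a 12<|a 16 e)<|b (a 13<|a 17 e)<|b (a 22<|a 29 d)<|b (a 25<|a 44 d)<|c));
 (let c:=(b (a 1<|a 155 d)<|b (a 2<|a 155 d)<|b (a 3<|a 155 d)<|
 b (a 100<|a 155 d)<|c);
 (f (a 100<|a 0 d)<|f (a 100<|a 1 e)<|f (a 100<|a 2 e)<|f (a 100<|a 4 d)<|c))))))

def t97 : SpT :=
  (beta% delta% lq26a1341ae9 fun a b d e f _ _ i _ _ _ _ _ _ _ =>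
 (let c:=(let c:=(let c:=(let c:=(b (a 211<|a 225 e)<|b (a 231<|a 233 d)<|b (a 238<|a 241 d)<|b (a 240<|a 243 e)<|i);
 (b (a 201<|a 217 d)<|b (a 208<|a 222 e)<|b (a 209<|a 223 e)<|b (a 210<|
 a 224 e)<|c));
 (let c:=(b (a 197<|a 213 d)<|
 b (a 198<|a 214 d)<|b (a 199<|a 215 d)<|b (a 200<|a 216 d)<|c);
 (b (a 174<|a 183 e)<|b (a 175<|a 184 e)<|b (a 176<|a 185 e)<|b (a 196<|a 212 d)<|c)));
 (let c:=(let c:=(b (a 147<|a 162 e)<|b (a 148<|a 163 e)<|b (a 171<|a 177 d)<|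
 b (a 173<|a 182 e)<|c);
 (b (a 137<|a 154 d)<|
 b (a 143<|a 155 d)<|b (a 145<|a 160 e)<|b (a 146<|a 161 e)<|c));
 (let c:=(b (a 117<|a 149 d)<|b (a 134<|a 151 d)<|b (a 135<|a 152 d)<|b (a 136<|a 153 d)<|c);
 (b (a 102<|a 119 e)<|b (a 103<|a 120 e)<|b (a 104<|a 121
 e)<|b (a 106<|a 138 e)<|c))));
 (let c:=(let c:=(let c:=(b (a 94<|a 109
 d)<|b (a 95<|a 110 d)<|b (a 100<|a 112 e)<|b (a 101<|a 118 e)<|c);
 (b (a 73<|a 82 d)<|b (a 78<|a 84 e)<|b (a 92<|a 107 d)<|b (a 93<|a 108 d)<|c));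
 (let c:=(b (a 43<|a 59 e)<|b (a 70<|a 79
 d)<|b (a 71<|a 80 d)<|b (a 72<|a 81 d)<|c);
 (b (a 39<|a 55 e)<|b (a 40<|a 56 e)<|b (a 41<|a 57 e)<|b (a 42<|a 58 e)<|c)));
 (let c:=(let c:=(b (a 31<|a 45 d)<|b (a 32<|a 46 d)<|b (a 33<|a 47 d)<|
 b (a 38<|a 54 e)<|c);
 (b (a 12<|a 15 d)<|b (a 14<|a 17 e)<|b (a 22<|a 24 e)<|b (a 30<|a 44 d)<|c));
 (f (a 105<|a 1 e)<|f (a 105<|a 2 d)<|f (a 105<|a 3 e)<|f (a 105<|a 4 d)<|f (a 1<|a 150 d)<|f (a 3<|a 150 d)<|f (a 105<|a 150 d)<|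
 c)))))

def t98 : SpT :=
  (beta% delta% lq26a1341ae9 fun a b d e f _ _ i _ _ _ _ _ _ _ =>
 (let c:=(let c:=(let c:=(let c:=(b (a 211<|a 221 e)<|b (a 232<|a 233 e)<|b (a 239<|
 a 241 e)<|b (a 240<|a 242 e)<|i);
 (b (a 207<|
 a 217 e)<|b (a 208<|a 218 e)<|b (a 209<|a 219 e)<|b (a 210<|a 220 e)<|c));
 (b (a 175<|a 180 e)<|b (a 176<|
 a 181 e)<|b (a 202<|a 212 e)<|b (a 203<|a 213 e)<|b (a 204<|a 214 e)<|b (a 205<|a 215 e)<|b (a 206<|a 216 e)<|c));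
 (let c:=(let c:=(b (a 148<|a 159 e)<|b (a 172<|a 177 e)<|b (a 173<|a 178 e)<|b (a 174<|a 179 e)<|c);
 (b (a 144<|a 155 e)<|b (a 145<|a 156 e)<|b (a 146<|a 157 e)<|b (a 147<|
 a 158 e)<|c));
 (b (a 104<|a 116 e)<|b (a 105<|a 117 e)<|b (a 138<|a 150 d)<|b (a 139<|a 151 d)<|
 b (a 140<|a 152 d)<|b (a 141<|a 153 d)<|b (a 142<|a 154 d)<|c)));
 (let c:=(let c:=(let c:=(b (a 100<|a 111 d)<|b (a 101<|a 113 e)<|
 b (a 102<|a 114 e)<|b (a 103<|a 115 e)<|c);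
 (b (a 96<|a 107 d)<|b (a 97<|a 108 d)<|b (a 98<|a 109 d)<|b (a 99<|a 110 d)<|c));
 (b (a 42<|a 52 d)<|b (a 43<|a 53 d)<|b (a 74<|a 79 d)<|b (a 75<|a 80 d)<|b (a 76<|a 81 d)<|b (a 77<|a 82 d)<|b (a 78<|a 83
 d)<|c));
 (let c:=(let c:=(b (a 38<|a 48 d)<|b (a 39<|a 49 d)<|b (a 40<|a 50 d)<|b (a 41<|
 a 51 d)<|c);
 (b (a 34<|a 44 d)<|b (a 35<|a 45 d)<|b (a 36<|a 46 d)<|b (a 37<|a 47 d)<|c));
 (f (a 106<|a 1 d)<|f (a 106<|a 3 d)<|f (a 1<|a 149 d)<|f (a 106<|a 149 d)<|f (a 13<|a 15 d)<|f (a 14<|a 16 d)<|f (a 22<|a 23 d)<|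
 c)))))

def t103 : SpT :=
  (beta% delta% lq26a1341ae9 fun a b d e f _ _ i _ _ _ _ _ _ _ =>
 (let c:=(let c:=(let c:=(let c:=(b (a 221<|a 230 d)<|b (a 226<|a 232 e)<|b (a 238<|a 240 d)<|b (a 241<|a 243 e)<|i);
 (b (a 191<|a 207 e)<|b (a 218<|a 227
 d)<|b (a 219<|a 228 d)<|b (a 220<|a 229 d)<|c));
 (let c:=(b (a 187<|a 203 e)<|b (a 188<|a 204 e)<|b (a 189<|a 205 e)<|b (a 190<|a 206 e)<|c);
 (b (a 179<|a 193 d)<|b (a 180<|a 194 d)<|b (a 181<|a 195 d)<|b (a 186<|a 202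
 e)<|c)));
 (let c:=(let c:=(b (a 153<|a 162 e)<|b (a 154<|a 163
 e)<|b (a 170<|a 172 e)<|b (a 178<|a 192 d)<|c);
 (b (a 137<|a 148 d)<|b (a 149<|a 155 d)<|b (a 151<|a 160 e)<|b (a 152<|a 161 e)<|c));
 (let c:=(b (a 117<|a 143 d)<|b (a 134<|a 145 d)<|b (a 135<|a 146 d)<|b (a 136<|a 147
 d)<|c);
 (b (a 108<|a 119 e)<|b (a 109<|a 120
 e)<|b (a 110<|a 121 e)<|b (a 112<|a 138 e)<|c))));
 (let c:=(let c:=(let c:=(b (a 94<|a 103 d)<|b (a 95<|a 104 d)<|b (a 100<|a 106 e)<|b (a 107<|a 118 e)<|c);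
 (b (a 63<|a 77 e)<|b (a 83<|a 85 d)<|b (a 92<|a 101 d)<|b (a 93<|
 a 102 d)<|c));
 (let c:=(b (a 53<|a 69
 d)<|b (a 60<|a 74 e)<|b (a 61<|a 75 e)<|b (a 62<|a 76 e)<|c);
 (b (a 49<|a 65 d)<|b (a 50<|a 66 d)<|b (a 51<|a 67 d)<|b (a 52<|a 68 d)<|c)));
 (let c:=(let c:=(b (a 26<|a 35 e)<|b (a 27<|a 36
 e)<|b (a 28<|a 37 e)<|b (a 48<|a 64 d)<|c);
 (b (a 12<|a 14 d)<|b (a 15<|a 17 e)<|b (a 23<|a 29 d)<|b (a 25<|a 34 e)<|c));
 (let c:=(b (a 111<|a 4 d)<|b (a 2<|a 144 d)<|b (a 3<|a 144 d)<|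
 b (a 111<|a 144 d)<|c);
 (f (a 111<|a 0 d)<|f (a 111<|a 1 d)<|f (a 111<|a 2 e)<|f (a 111<|a 3 e)<|c))))))

def t104 : SpT :=
  (beta% delta% lq26a1341ae9 fun a b d e f _ _ i _ _ _ _ _ _ _ =>
 (let c:=(let c:=(let c:=(let c:=(b (a 225<|a 230 e)<|b (a 226<|a 231
 e)<|b (a 239<|a 240 e)<|b (a 241<|a 242 e)<|i);
 (b (a 191<|a 201 e)<|b (a 222<|a 227 e)<|b (a 223<|a 228 e)<|b (a 224<|a 229 e)<|c));
 (let c:=(b (a 187<|a 197 e)<|b (a 188<|a 198 e)<|b (a 189<|a 199 e)<|b (a 190<|a 200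
 e)<|c);
 (b (a 183<|a 193 e)<|b (a 184<|a 194
 e)<|b (a 185<|a 195 e)<|b (a 186<|a 196 e)<|c)));
 (let c:=(let c:=(b (a 153<|a 158 e)<|b (a 154<|a 159 e)<|b (a 170<|a 171 e)<|b (a 182<|a 192 e)<|c);
 (b (a 142<|a 148 d)<|b (a 150<|a 155 e)<|b (a 151<|a 156 e)<|b (a 152<|a 157
 e)<|c));
 (b (a 109<|a 115 e)<|b (a 110<|a 116 e)<|b (a 111<|a 117 e)<|b (a 138<|a 144 d)<|b (a 139<|
 a 145 d)<|b (a 140<|a 146 d)<|b (a 141<|a 147 d)<|c)));
 (let c:=(let c:=(let c:=(b (a 99<|a 104 d)<|b (a 100<|a 105 d)<|b (a 107<|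
 a 113 e)<|b (a 108<|a 114 e)<|c);
 (b (a 84<|a 85 d)<|b (a 96<|a 101 d)<|b (a 97<|a 102 d)<|b (a 98<|a 103 d)<|c));
 (b (a 57<|a 67 d)<|b (a 58<|a 68 d)<|b (a 59<|a 69 d)<|b (a 60<|a 70 d)<|b (a 61<|a 71 d)<|b (a 62<|a 72 d)<|b (a 63<|a 73
 d)<|c));
 (let c:=(let c:=(b (a 28<|a 33 d)<|b (a 54<|a 64 d)<|b (a 55<|a 65 d)<|b (a 56<|
 a 66 d)<|c);
 (b (a 24<|a 29 d)<|b (a 25<|a 30 d)<|b (a 26<|a 31 d)<|b (a 27<|a 32 d)<|c));
 (f (a 112<|a 0 d)<|f (a 112<|a 2 d)<|f (a 112<|a 3 d)<|f (a 2<|a 143 d)<|f (a 112<|a 143 d)<|f (a 13<|a 14 d)<|f (a 15<|a 16 d)<|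
 c)))))

def t109 : SpT :=
  (beta% delta% lq26a1341ae9 fun a b d e f _ _ i _ _ _ _ _ _ _ =>
 (let c:=(let c:=(let c:=(let c:=(b (a 221<|a 225
 e)<|b (a 231<|a 232 e)<|b (a 238<|a 239 e)<|b (a 242<|a 243 e)<|i);
 (b (a 201<|a 207 e)<|b (a 218<|a 222 e)<|b (a 219<|a 223 e)<|b (a 220<|a 224 e)<|c));
 (let c:=(b (a 197<|a 203 e)<|b (a 198<|a 204 e)<|b (a 199<|a 205
 e)<|b (a 200<|a 206 e)<|c);
 (b (a 179<|a 183
 e)<|b (a 180<|a 184 e)<|b (a 181<|a 185 e)<|b (a 196<|a 202 e)<|c)));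
 (let c:=(let c:=(b (a 158<|a 162 e)<|b (a 159<|a 163 e)<|b (a 171<|a 172 e)<|b (a 178<|a 182 e)<|c);
 (b (a 143<|a 144 e)<|b (a 149<|a 150 e)<|b (a 156<|a 160
 e)<|b (a 157<|a 161 e)<|c));
 (b (a 114<|a 119 e)<|b (a 115<|a 120 e)<|b (a 116<|a 121 e)<|b (a 134<|a 139
 d)<|b (a 135<|a 140 d)<|b (a 136<|a 141 d)<|b (a 137<|a 142 d)<|c)));
 (let c:=(let c:=(let c:=(b (a 95<|a 99 d)<|b (a 105<|a 106
 d)<|b (a 111<|a 112 d)<|b (a 113<|a 118 e)<|c);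
 (b (a 83<|a 84 d)<|b (a 92<|a 96 d)<|b (a 93<|a 97 d)<|b (a 94<|a 98 d)<|c));
 (let c:=(b (a 70<|a 74 d)<|b (a 71<|a 75 d)<|b (a 72<|a 76
 d)<|b (a 73<|a 77 d)<|c);
 (b (a 50<|a 56 d)<|b (a 51<|a 57 d)<|b (a 52<|a 58 d)<|b (a 53<|a 59 d)<|c)));
 (let c:=(let c:=(b (a 32<|a 36 d)<|b (a 33<|a 37 d)<|b (a 48<|a 54 d)<|b (a 49<|
 a 55 d)<|c);
 (b (a 16<|a 17 d)<|b (a 23<|a 24 d)<|b (a 30<|a 34 d)<|b (a 31<|a 35 d)<|c));
 (f (a 117<|a 1 d)<|f (a 117<|a 2 d)<|f (a 117<|a 3 d)<|f (a 117<|a 4 d)<|f (a 3<|a 138 d)<|f (a 117<|a 138 d)<|f (a 12<|a 13 d)<|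
 c)))))

def t114 : SpT :=
  (beta% delta% lq26a1341ae9 fun a b d e f _ _ i _ _ _ _ _ _ _ =>
 (let c:=(let c:=(let c:=(let c:=(b (a 222<|a 225 e)<|b (a 227<|a 230 e)<|b (a 234<|a 237 e)<|b (a 244<|a 247 e)<|i);
 (b (a 208<|a 211 e)<|b (a 212<|a 216 d)<|b (a 213<|a 217 d)<|b (a 218<|a 221 e)<|
 c));
 (let c:=(b (a 196<|a 200 d)<|b (a 197<|a 201
 d)<|b (a 202<|a 206 d)<|b (a 203<|a 207 d)<|c);
 (b (a 182<|a 185 e)<|b (a 186<|a 190 d)<|b (a 187<|a 191 d)<|b (a 192<|a 195 e)<|c)));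
 (let c:=(let c:=(b (a 164<|a 168 d)<|b (a 165<|a 169 d)<|b (a 173<|a 176 e)<|b (a 178<|a 181
 e)<|c);
 (b (a 145<|a 148 e)<|b (a 151<|a 154
 e)<|b (a 156<|a 159 e)<|b (a 160<|a 163 e)<|c));
 (let c:=(b (a 125<|a 131 d)<|b (a 127<|a 132 d)<|b (a 134<|a 137 e)<|b (a 139<|a 142 e)<|c);
 (b (a 113<|a 116 d)<|b (a 118<|a 121 d)<|b (a 123<|a 128 e)<|b (a 124<|
 a 130 e)<|c))));
 (let c:=(let c:=(let c:=(b (a 92<|a 95 d)<|
 b (a 96<|a 99 d)<|b (a 101<|a 104 d)<|b (a 107<|a 110 d)<|c);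
 (b (a 74<|a 77 d)<|b (a 79<|a 82 d)<|b (a 86<|a 90 e)<|b (a 87<|a 91 e)<|c));
 (let c:=(b (a 60<|a 63 d)<|b (a 64<|a 68 e)<|
 b (a 65<|a 69 e)<|b (a 70<|a 73 d)<|c);
 (b (a 48<|a 52 e)<|b (a 49<|a 53 e)<|b (a 54<|a 58 e)<|b (a 55<|a 59 e)<|c)));
 (let c:=(let c:=(b (a 34<|a 37 d)<|b (a 38<|a 42 e)<|b (a 39<|a 43 e)<|
 b (a 44<|a 47 d)<|c);
 (b (a 8<|a 11 d)<|b (a 18<|a 21 d)<|b (a 25<|a 28 d)<|b (a 30<|a 33 d)<|c));
 (f (a 122<|a 4 d)<|f (a 122<|a 5 e)<|f (a 122<|a 7 e)<|f (a 5<|a 133 d)<|f (a 6<|a 133 d)<|f (a 7<|a 133 d)<|f (a 122<|a 133 d)<|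
 c)))))

def t115 : SpT :=
  (beta% delta% lq26a1341ae9 fun a b d e f _ _ i _ _ _ _ _ _ _ =>
 (let c:=(let c:=(let c:=(let c:=(b (a 223<|a 225 d)<|b (a 228<|a 230 d)<|b (a 235<|a 237 d)<|b (a 244<|a 246 e)<|i);
 (b (a 209<|a 211 d)<|b (a 212<|a 215 d)<|b (a 214<|a 217 e)<|b (a 219<|a 221
 d)<|c));
 (let c:=(b (a 196<|a 199 d)<|b (a 198<|a 201
 e)<|b (a 202<|a 205 d)<|b (a 204<|a 207 e)<|c);
 (b (a 182<|a 184 e)<|b (a 186<|a 189 d)<|b (a 188<|a 191 e)<|b (a 192<|a 194 e)<|c)));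
 (let c:=(let c:=(b (a 164<|a 167 d)<|b (a 166<|a 169 e)<|b (a 173<|a 175 e)<|b (a 178<|a 180
 e)<|c);
 (b (a 145<|a 147 e)<|b (a 151<|a 153
 e)<|b (a 156<|a 158 e)<|b (a 160<|a 162 e)<|c));
 (let c:=(b (a 126<|a 131 d)<|b (a 128<|a 133 d)<|b (a 134<|a 136 e)<|b (a 139<|a 141 e)<|c);
 (b (a 114<|a 116 d)<|b (a 119<|a 121 d)<|b (a 122<|a 127 e)<|b (a 124<|
 a 129 e)<|c))));
 (let c:=(let c:=(let c:=(b (a 93<|a 95 d)<|
 b (a 97<|a 99 d)<|b (a 102<|a 104 d)<|b (a 108<|a 110 d)<|c);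
 (b (a 75<|a 77 d)<|b (a 80<|a 82 d)<|b (a 86<|a 89 d)<|b (a 88<|a 91 e)<|c));
 (let c:=(b (a 61<|a 63 d)<|b (a 64<|a 67 d)<|
 b (a 66<|a 69 e)<|b (a 71<|a 73 d)<|c);
 (b (a 48<|a 51 d)<|b (a 50<|a 53 e)<|b (a 54<|a 57 d)<|b (a 56<|a 59 e)<|c)));
 (let c:=(let c:=(b (a 34<|a 36 e)<|b (a 38<|a 41 d)<|b (a 40<|a 43 e)<|
 b (a 44<|a 46 e)<|c);
 (b (a 9<|a 11 d)<|b (a 18<|a 20 e)<|b (a 25<|a 27 e)<|b (a 30<|a 32 e)<|c));
 (f (a 123<|a 4 d)<|f (a 123<|a 5 e)<|f (a 123<|a 6 e)<|f (a 123<|a 7 d)<|f (a 5<|a 132 d)<|f (a 6<|a 132 d)<|f (a 123<|a 132 d)<|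
 c)))))

def t116 : SpT :=
  (beta% delta% lq26a1341ae9 fun a b d e f _ _ i _ _ _ _ _ _ _ =>
 (let c:=(let c:=(let c:=(let c:=(b (a 224<|a 225 e)<|b (a 229<|a 230 e)<|
 b (a 236<|a 237 e)<|b (a 244<|a 245 e)<|i);
 (b (a 210<|a 211 e)<|b (a 213<|a 215 e)<|b (a 214<|a 216 e)<|b (a 220<|a 221 e)<|c));
 (let c:=(b (a 197<|a 199 e)<|b (a 198<|a 200 e)<|b (a 203<|a 205 e)<|b (a 204<|a 206 e)<|
 c);
 (b (a 182<|a 183 e)<|b (a 187<|a 189 e)<|
 b (a 188<|a 190 e)<|b (a 192<|a 193 e)<|c)));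
 (let c:=(let c:=(b (a 165<|a 167 e)<|b (a 166<|a 168 e)<|b (a 173<|a 174 e)<|b (a 178<|a 179 e)<|c);
 (b (a 145<|a 146 e)<|b (a 151<|a 152 e)<|b (a 156<|a 157 e)<|b (a 160<|a 161 e)<|
 c));
 (b (a 120<|a 121 d)<|b (a 122<|a 125 e)<|b (a 123<|a 126 e)<|b (a 129<|a 132 d)<|b (a 130<|a 133 d)<|
 b (a 134<|a 135 e)<|b (a 139<|a 140 e)<|c)));
 (let c:=(let c:=(let c:=(b (a 98<|a 99 d)<|b (a 103<|a 104 d)<|b (a 109<|a 110
 d)<|b (a 115<|a 116 d)<|c);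
 (b (a 81<|a 82 d)<|b (a 87<|a 89 d)<|b (a 88<|a 90 d)<|b (a 94<|a 95 d)<|c));
 (b (a 55<|a 57 d)<|b (a 56<|a 58 d)<|b (a 62<|a 63 d)<|b (a 65<|a 67 d)<|b (a 66<|a 68 d)<|b (a 72<|a 73 d)<|b (a 76<|a 77
 d)<|c));
 (let c:=(let c:=(b (a 40<|a 42 d)<|b (a 44<|a 45 d)<|b (a 49<|a 51 d)<|b (a 50<|
 a 52 d)<|c);
 (b (a 25<|a 26 d)<|b (a 30<|a 31 d)<|b (a 34<|a 35 d)<|b (a 39<|a 41 d)<|c));
 (f (a 124<|a 4 d)<|f (a 124<|a 5 d)<|f (a 124<|a 6 d)<|f (a 5<|a 131 d)<|f (a 124<|a 131 d)<|f (a 10<|a 11 d)<|f (a 18<|a 19 d)<|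
 c)))))

def t117 : SpT :=
  (beta% delta% lq26a1341ae9 fun a b d e f _ _ i _ _ _ _ _ _ _ =>
 (let c:=(let c:=(let c:=(let c:=(b (a 222<|
 a 224 d)<|b (a 227<|a 229 d)<|b (a 234<|a 236 d)<|b (a 245<|a 247 e)<|i);
 (b (a 208<|a 210 d)<|b (a 212<|a 214 e)<|b (a 215<|a 217 d)<|b (a 218<|a 220 d)<|c));
 (let c:=(b (a 196<|a 198 e)<|b (a 199<|a 201 d)<|
 b (a 202<|a 204 e)<|b (a 205<|a 207 d)<|c);
 (b (a 183<|a 185 e)<|b (a 186<|a 188 e)<|b (a 189<|a 191 d)<|b (a 193<|a 195 e)<|c)));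
 (let c:=(let c:=(b (a 164<|a 166 e)<|b (a 167<|a 169 d)<|b (a 174<|a 176 e)<|b (a 179<|a 181 e)<|
 c);
 (b (a 146<|a 148 e)<|b (a 152<|a 154 e)<|
 b (a 157<|a 159 e)<|b (a 161<|a 163 e)<|c));
 (b (a 118<|a 120 d)<|b (a 122<|a 124 d)<|b (a 126<|a 128 e)<|
 b (a 127<|a 129 d)<|b (a 131<|a 133 e)<|b (a 135<|a 137 e)<|b (a 140<|a 142 e)<|c)));
 (let c:=(let c:=(let c:=(b (a 96<|a 98
 d)<|b (a 101<|a 103 d)<|b (a 107<|a 109 d)<|b (a 113<|a 115 d)<|c);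
 (b (a 79<|a 81 d)<|b (a 86<|a 88 e)<|b (a 89<|a 91 d)<|b (a 92<|a 94 d)<|c));
 (let c:=(b (a 64<|a 66 e)<|b (a 67<|a 69
 d)<|b (a 70<|a 72 d)<|b (a 74<|a 76 d)<|c);
 (b (a 51<|a 53 d)<|b (a 54<|a 56 e)<|b (a 57<|a 59 d)<|b (a 60<|a 62 d)<|c)));
 (let c:=(let c:=(b (a 38<|a 40 e)<|b (a 41<|a 43 d)<|b (a 45<|a 47
 e)<|b (a 48<|a 50 e)<|c);
 (b (a 19<|a 21 e)<|b (a 26<|a 28 e)<|b (a 31<|a 33 e)<|b (a 35<|a 37 e)<|c));
 (f (a 125<|a 5 d)<|f (a 125<|a 6 e)<|f (a 125<|a 7 e)<|f (a 6<|a 130 d)<|f (a 7<|a 130 d)<|f (a 125<|a 130 d)<|f (a 8<|a 10 d)<|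
 c)))))

def t118 : SpT :=
  (beta% delta% lq26a1341ae9 fun a b d e f _ _ i _ _ _ _ _ _ _ =>
 (let c:=(let c:=(let c:=(let c:=(b (a 223<|a 224 e)<|b (a 228<|a 229 e)<|
 b (a 235<|a 236 e)<|b (a 245<|a 246 e)<|i);
 (b (a 209<|a 210 e)<|b (a 212<|a 213 e)<|b (a 216<|a 217 e)<|b (a 219<|a 220 e)<|c));
 (let c:=(b (a 196<|a 197 e)<|b (a 200<|a 201 e)<|b (a 202<|a 203 e)<|b (a 206<|a 207 e)<|
 c);
 (b (a 183<|a 184 e)<|b (a 186<|a 187 e)<|
 b (a 190<|a 191 e)<|b (a 193<|a 194 e)<|c)));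
 (let c:=(let c:=(b (a 164<|a 165 e)<|b (a 168<|a 169 e)<|b (a 174<|a 175 e)<|b (a 179<|a 180 e)<|c);
 (b (a 146<|a 147 e)<|b (a 152<|a 153 e)<|b (a 157<|a 158 e)<|b (a 161<|a 162 e)<|
 c));
 (b (a 119<|a 120 d)<|b (a 123<|a 124 d)<|b (a 125<|a 127 e)<|b (a 128<|a 130 d)<|b (a 131<|a 132 e)<|
 b (a 135<|a 136 e)<|b (a 140<|a 141 e)<|c)));
 (let c:=(let c:=(let c:=(b (a 97<|a 98 d)<|b (a 102<|a 103 d)<|b (a 108<|a 109
 d)<|b (a 114<|a 115 d)<|c);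
 (b (a 80<|a 81 d)<|b (a 86<|a 87 d)<|b (a 90<|a 91 d)<|b (a 93<|a 94 d)<|c));
 (b (a 54<|a 55 d)<|b (a 58<|a 59 d)<|b (a 61<|a 62 d)<|b (a 64<|a 65 d)<|b (a 68<|a 69 d)<|b (a 71<|a 72 d)<|b (a 75<|a 76
 d)<|c));
 (let c:=(let c:=(b (a 42<|a 43 d)<|b (a 45<|a 46 d)<|b (a 48<|a 49 d)<|b (a 52<|
 a 53 d)<|c);
 (b (a 26<|a 27 d)<|b (a 31<|a 32 d)<|b (a 35<|a 36 d)<|b (a 38<|a 39 d)<|c));
 (f (a 126<|a 5 d)<|f (a 126<|a 6 d)<|f (a 126<|a 7 d)<|f (a 6<|a 129 d)<|f (a 126<|a 129 d)<|f (a 9<|a 10 d)<|f (a 19<|a 20 d)<|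
 c)))))

def t119 : SpT :=
  (beta% delta% lq26a1341ae9 fun a b d e f _ _ i _ _ _ _ _ _ _ =>
 (let c:=(let c:=(let c:=(let c:=(b (a 222<|a 223 e)<|b (a 227<|a 228 e)<|b (a 234<|a 235
 e)<|b (a 246<|a 247 e)<|i);
 (b (a 208<|a 209
 e)<|b (a 213<|a 214 e)<|b (a 215<|a 216 e)<|b (a 218<|a 219 e)<|c));
 (b (a 187<|a 188 e)<|b (a 189<|a 190
 e)<|b (a 194<|a 195 e)<|b (a 197<|a 198 e)<|b (a 199<|a 200 e)<|b (a 203<|a 204 e)<|b (a 205<|a 206 e)<|c));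
 (let c:=(let c:=(b (a 167<|a 168 e)<|b (a 175<|a 176 e)<|b (a 180<|a 181 e)<|b (a 184<|a 185 e)<|c);
 (b (a 153<|a 154 e)<|b (a 158<|a 159 e)<|b (a 162<|a 163 e)<|b (a 165<|a 166
 e)<|c));
 (b (a 122<|a 123 d)<|b (a 125<|a 126 d)<|b (a 129<|a 130 e)<|b (a 132<|a 133 e)<|b (a 136<|a 137
 e)<|b (a 141<|a 142 e)<|b (a 147<|a 148 e)<|c)));
 (let c:=(let c:=(let c:=(b (a 101<|a 102 d)<|b (a 107<|a 108 d)<|b (a 113<|
 a 114 d)<|b (a 118<|a 119 d)<|c);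
 (b (a 87<|a 88 d)<|b (a 89<|a 90 d)<|b (a 92<|a 93 d)<|b (a 96<|a 97 d)<|c));
 (b (a 57<|a 58 d)<|b (a 60<|a 61 d)<|b (a 65<|a 66 d)<|b (a 67<|a 68 d)<|b (a 70<|a 71 d)<|b (a 74<|a 75 d)<|b (a 79<|a 80
 d)<|c));
 (let c:=(let c:=(b (a 46<|a 47 d)<|b (a 49<|a 50 d)<|b (a 51<|a 52 d)<|b (a 55<|a 56
 d)<|c);
 (b (a 32<|
 a 33 d)<|b (a 36<|a 37 d)<|b (a 39<|a 40 d)<|b (a 41<|a 42 d)<|c));
 (f (a 127<|a 6 d)<|f (a 127<|a 7 d)<|f (a 7<|a 128 d)<|f (a 127<|a 128 d)<|f (a 8<|a 9 d)<|f (a 20<|a 21 d)<|f (a 27<|a 28 d)<|c)))))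

def t120 : SpT :=
  (beta% delta% lq26a1341ae9 fun a b d e f _ _ i _ _ _ _ _ _ _ =>
 (let c:=(let c:=(let c:=(let c:=(b (a 223<|a 222 e)<|b (a 228<|a 227 e)<|b (a 235<|a 234
 e)<|b (a 247<|a 246 e)<|i);
 (b (a 209<|a 208
 e)<|b (a 214<|a 213 e)<|b (a 216<|a 215 e)<|b (a 219<|a 218 e)<|c));
 (b (a 188<|a 187 e)<|b (a 190<|a 189
 e)<|b (a 195<|a 194 e)<|b (a 198<|a 197 e)<|b (a 200<|a 199 e)<|b (a 204<|a 203 e)<|b (a 206<|a 205 e)<|c));
 (let c:=(let c:=(b (a 168<|a 167 e)<|b (a 176<|a 175 e)<|b (a 181<|a 180 e)<|b (a 185<|a 184 e)<|c);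
 (b (a 154<|a 153 e)<|b (a 159<|a 158 e)<|b (a 163<|a 162 e)<|b (a 166<|a 165
 e)<|c));
 (b (a 123<|a 122 d)<|b (a 126<|a 125 d)<|b (a 130<|a 129 e)<|b (a 133<|a 132 e)<|b (a 137<|a 136
 e)<|b (a 142<|a 141 e)<|b (a 148<|a 147 e)<|c)));
 (let c:=(let c:=(let c:=(b (a 102<|a 101 d)<|b (a 108<|a 107 d)<|b (a 114<|
 a 113 d)<|b (a 119<|a 118 d)<|c);
 (b (a 88<|a 87 d)<|b (a 90<|a 89 d)<|b (a 93<|a 92 d)<|b (a 97<|a 96 d)<|c));
 (b (a 58<|a 57 d)<|b (a 61<|a 60 d)<|b (a 66<|a 65 d)<|b (a 68<|a 67 d)<|b (a 71<|a 70 d)<|b (a 75<|a 74 d)<|b (a 80<|a 79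
 d)<|c));
 (let c:=(let c:=(b (a 47<|a 46 d)<|b (a 50<|a 49 d)<|b (a 52<|a 51 d)<|b (a 56<|
 a 55 d)<|c);
 (b (a 33<|a 32 d)<|b (a 37<|a 36 d)<|b (a 40<|a 39 d)<|b (a 42<|a 41 d)<|c));
 (f (a 128<|a 6 e)<|f (a 128<|a 7 e)<|f (a 7<|a 127 e)<|f (a 128<|a 127 d)<|f (a 9<|a 8 d)<|f (a 21<|a 20 d)<|f (a 28<|a 27 d)<|
 c)))))

def t121 : SpT :=
  (beta% delta% lq26a1341ae9 fun a b d e f _ _ i _ _ _ _ _ _ _ =>
 (let c:=(let c:=(let c:=(let c:=(b (a 224<|a 223 e)<|b (a 229<|a 228 e)<|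
 b (a 236<|a 235 e)<|b (a 246<|a 245 e)<|i);
 (b (a 210<|a 209 e)<|b (a 213<|a 212 e)<|b (a 217<|a 216 e)<|b (a 220<|a 219 e)<|c));
 (let c:=(b (a 197<|a 196 e)<|b (a 201<|a 200 e)<|b (a 203<|a 202 e)<|b (a 207<|a 206 e)<|
 c);
 (b (a 184<|a 183 e)<|b (a 187<|a 186 e)<|
 b (a 191<|a 190 e)<|b (a 194<|a 193 e)<|c)));
 (let c:=(let c:=(b (a 165<|a 164 e)<|b (a 169<|a 168 e)<|b (a 175<|a 174 e)<|b (a 180<|a 179 e)<|c);
 (b (a 147<|a 146 e)<|b (a 153<|a 152 e)<|b (a 158<|a 157 e)<|b (a 162<|a 161 e)<|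
 c));
 (b (a 120<|a 119 d)<|b (a 124<|a 123 d)<|b (a 127<|a 125 e)<|b (a 130<|a 128 d)<|b (a 132<|a 131 e)<|
 b (a 136<|a 135 e)<|b (a 141<|a 140 e)<|c)));
 (let c:=(let c:=(let c:=(b (a 98<|a 97 d)<|b (a 103<|a 102 d)<|b (a 109<|a 108
 d)<|b (a 115<|a 114 d)<|c);
 (b (a 81<|a 80 d)<|b (a 87<|a 86 d)<|b (a 91<|a 90 d)<|b (a 94<|a 93 d)<|c));
 (b (a 55<|a 54 d)<|b (a 59<|a 58 d)<|b (a 62<|a 61 d)<|b (a 65<|a 64 d)<|b (a 69<|a 68 d)<|b (a 72<|a 71 d)<|b (a 76<|a 75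
 d)<|c));
 (let c:=(let c:=(b (a 43<|a 42 d)<|b (a 46<|a 45 d)<|b (a 49<|a 48 d)<|b (a 53<|
 a 52 d)<|c);
 (b (a 27<|a 26 d)<|b (a 32<|a 31 d)<|b (a 36<|a 35 d)<|b (a 39<|a 38 d)<|c));
 (f (a 129<|a 5 e)<|f (a 129<|a 6 e)<|f (a 129<|a 7 e)<|f (a 6<|a 126 e)<|f (a 129<|a 126 d)<|f (a 10<|a 9 d)<|f (a 20<|a 19 d)<|
 c)))))

def t122 : SpT :=
  (beta% delta% lq26a1341ae9 fun a b d e f _ _ i _ _ _ _ _ _ _ =>
 (let c:=(let c:=(let c:=(let c:=(b (a 224<|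
 a 222 d)<|b (a 229<|a 227 d)<|b (a 236<|a 234 d)<|b (a 247<|a 245 e)<|i);
 (b (a 210<|a 208 d)<|b (a 214<|a 212 e)<|b (a 217<|a 215 d)<|b (a 220<|a 218 d)<|c));
 (let c:=(b (a 198<|a 196 e)<|b (a 201<|a 199 d)<|
 b (a 204<|a 202 e)<|b (a 207<|a 205 d)<|c);
 (b (a 185<|a 183 e)<|b (a 188<|a 186 e)<|b (a 191<|a 189 d)<|b (a 195<|a 193 e)<|c)));
 (let c:=(let c:=(b (a 166<|a 164 e)<|b (a 169<|a 167 d)<|b (a 176<|a 174 e)<|b (a 181<|a 179 e)<|
 c);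
 (b (a 148<|a 146 e)<|b (a 154<|a 152 e)<|
 b (a 159<|a 157 e)<|b (a 163<|a 161 e)<|c));
 (b (a 120<|a 118 d)<|b (a 124<|a 122 d)<|b (a 128<|a 126 e)<|
 b (a 129<|a 127 d)<|b (a 133<|a 131 e)<|b (a 137<|a 135 e)<|b (a 142<|a 140 e)<|c)));
 (let c:=(let c:=(let c:=(b (a 98<|a 96
 d)<|b (a 103<|a 101 d)<|b (a 109<|a 107 d)<|b (a 115<|a 113 d)<|c);
 (b (a 81<|a 79 d)<|b (a 88<|a 86 e)<|b (a 91<|a 89 d)<|b (a 94<|a 92 d)<|c));
 (let c:=(b (a 66<|a 64 e)<|b (a 69<|a 67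
 d)<|b (a 72<|a 70 d)<|b (a 76<|a 74 d)<|c);
 (b (a 53<|a 51 d)<|b (a 56<|a 54 e)<|b (a 59<|a 57 d)<|b (a 62<|a 60 d)<|c)));
 (let c:=(let c:=(b (a 40<|a 38 e)<|b (a 43<|a 41 d)<|b (a 47<|a 45
 e)<|b (a 50<|a 48 e)<|c);
 (b (a 21<|a 19 e)<|b (a 28<|a 26 e)<|b (a 33<|a 31 e)<|b (a 37<|a 35 e)<|c));
 (f (a 130<|a 5 e)<|f (a 130<|a 6 d)<|f (a 130<|a 7 d)<|f (a 6<|a 125 e)<|f (a 7<|a 125 e)<|f (a 130<|a 125 d)<|f (a 10<|a 8 d)<|
 c)))))

def t123 : SpT :=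
  (beta% delta% lq26a1341ae9 fun a b d e f _ _ i _ _ _ _ _ _ _ =>
 (let c:=(let c:=(let c:=(let c:=(b (a 225<|a 224 e)<|
 b (a 230<|a 229 e)<|b (a 237<|a 236 e)<|b (a 245<|a 244 e)<|i);
 (b (a 211<|a 210 e)<|b (a 215<|a 213 e)<|b (a 216<|a 214 e)<|b (a 221<|a 220 e)<|c));
 (let c:=(b (a 199<|a 197 e)<|b (a 200<|a 198 e)<|b (a 205<|a 203 e)<|
 b (a 206<|a 204 e)<|c);
 (b (a 183<|a 182 e)<|
 b (a 189<|a 187 e)<|b (a 190<|a 188 e)<|b (a 193<|a 192 e)<|c)));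
 (let c:=(let c:=(b (a 167<|a 165 e)<|b (a 168<|a 166 e)<|b (a 174<|a 173 e)<|b (a 179<|a 178 e)<|c);
 (b (a 146<|a 145 e)<|b (a 152<|a 151 e)<|b (a 157<|a 156 e)<|
 b (a 161<|a 160 e)<|c));
 (b (a 121<|a 120 d)<|b (a 125<|a 122 e)<|b (a 126<|a 123 e)<|b (a 132<|a 129 d)<|
 b (a 133<|a 130 d)<|b (a 135<|a 134 e)<|b (a 140<|a 139 e)<|c)));
 (let c:=(let c:=(let c:=(b (a 99<|a 98 d)<|b (a 104<|a 103
 d)<|b (a 110<|a 109 d)<|b (a 116<|a 115 d)<|c);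
 (b (a 82<|a 81 d)<|b (a 89<|a 87 d)<|b (a 90<|a 88 d)<|b (a 95<|a 94 d)<|c));
 (b (a 57<|a 55 d)<|b (a 58<|a 56 d)<|b (a 63<|a 62 d)<|b (a 67<|a 65 d)<|b (a 68<|a 66 d)<|b (a 73<|a 72
 d)<|b (a 77<|a 76 d)<|c));
 (let c:=(let c:=(b (a 42<|a 40 d)<|b (a 45<|a 44 d)<|b (a 51<|a 49
 d)<|b (a 52<|a 50 d)<|c);
 (b (a 26<|a 25 d)<|b (a 31<|a 30 d)<|b (a 35<|a 34 d)<|b (a 41<|a 39 d)<|c));
 (f (a 131<|a 4 e)<|f (a 131<|a 5 e)<|f (a 131<|a 6 e)<|f (a 5<|a 124 e)<|f (a 131<|a 124 d)<|f (a 11<|a 10 d)<|f (a 19<|a 18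
 d)<|c)))))

def t124 : SpT :=
  (beta% delta% lq26a1341ae9 fun a b d e f _ _ i _ _ _ _ _ _ _ =>
 (let c:=(let c:=(let c:=(let c:=(b (a 225<|a 223 d)<|b (a 230<|a 228 d)<|b (a 237<|a 235 d)<|b (a 246<|a 244 e)<|i);
 (b (a 211<|a 209 d)<|b (a 215<|a 212 d)<|b (a 217<|a 214 e)<|b (a 221<|
 a 219 d)<|c));
 (let c:=(b (a 199<|a 196 d)<|
 b (a 201<|a 198 e)<|b (a 205<|a 202 d)<|b (a 207<|a 204 e)<|c);
 (b (a 184<|a 182 e)<|b (a 189<|a 186 d)<|b (a 191<|a 188 e)<|b (a 194<|a 192 e)<|c)));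
 (let c:=(let c:=(b (a 167<|a 164 d)<|b (a 169<|a 166 e)<|b (a 175<|a 173 e)<|
 b (a 180<|a 178 e)<|c);
 (b (a 147<|a 145 e)<|
 b (a 153<|a 151 e)<|b (a 158<|a 156 e)<|b (a 162<|a 160 e)<|c));
 (let c:=(b (a 131<|a 126 d)<|b (a 133<|a 128 d)<|b (a 136<|a 134 e)<|b (a 141<|a 139 e)<|c);
 (b (a 116<|a 114 d)<|b (a 121<|a 119 d)<|b (a 127<|a 122 e)<|
 b (a 129<|a 124 e)<|c))));
 (let c:=(let c:=(let c:=(b (a 95<|a 93
 d)<|b (a 99<|a 97 d)<|b (a 104<|a 102 d)<|b (a 110<|a 108 d)<|c);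
 (b (a 77<|a 75 d)<|b (a 82<|a 80 d)<|b (a 89<|a 86 d)<|b (a 91<|a 88 e)<|c));
 (let c:=(b (a 63<|a 61 d)<|b (a 67<|a 64
 d)<|b (a 69<|a 66 e)<|b (a 73<|a 71 d)<|c);
 (b (a 51<|a 48 d)<|b (a 53<|a 50 e)<|b (a 57<|a 54 d)<|b (a 59<|a 56 e)<|c)));
 (let c:=(let c:=(b (a 36<|a 34 e)<|b (a 41<|a 38 d)<|b (a 43<|a 40
 e)<|b (a 46<|a 44 e)<|c);
 (b (a 11<|a 9 d)<|b (a 20<|a 18 e)<|b (a 27<|a 25 e)<|b (a 32<|a 30 e)<|c));
 (f (a 132<|a 4 e)<|f (a 132<|a 5 d)<|f (a 132<|a 6 d)<|f (a 132<|a 7 e)<|f (a 5<|a 123 e)<|f (a 6<|a 123 e)<|f (a 132<|a 123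
 d)<|c)))))

def t125 : SpT :=
  (beta% delta% lq26a1341ae9 fun a b d e f _ _ i _ _ _ _ _ _ _ =>
 (let c:=(let c:=(let c:=(let c:=(b (a 225<|a 222 e)<|b (a 230<|a 227 e)<|b (a 237<|a 234 e)<|b (a 247<|a 244 e)<|i);
 (b (a 211<|a 208 e)<|b (a 216<|a 212 d)<|b (a 217<|a 213 d)<|b (a 221<|a 218
 e)<|c));
 (let c:=(b (a 200<|a 196 d)<|b (a 201<|
 a 197 d)<|b (a 206<|a 202 d)<|b (a 207<|a 203 d)<|c);
 (b (a 185<|a 182 e)<|b (a 190<|a 186 d)<|b (a 191<|a 187 d)<|b (a 195<|a 192 e)<|c)));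
 (let c:=(let c:=(b (a 168<|a 164 d)<|b (a 169<|a 165 d)<|b (a 176<|a 173 e)<|
 b (a 181<|a 178 e)<|c);
 (b (a 148<|a 145 e)<|
 b (a 154<|a 151 e)<|b (a 159<|a 156 e)<|b (a 163<|a 160 e)<|c));
 (let c:=(b (a 131<|a 125 d)<|b (a 132<|a 127 d)<|b (a 137<|a 134 e)<|b (a 142<|a 139 e)<|c);
 (b (a 116<|a 113 d)<|b (a 121<|a 118 d)<|b (a 128<|a 123 e)<|
 b (a 130<|a 124 e)<|c))));
 (let c:=(let c:=(let c:=(b (a 95<|a 92
 d)<|b (a 99<|a 96 d)<|b (a 104<|a 101 d)<|b (a 110<|a 107 d)<|c);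
 (b (a 77<|a 74 d)<|b (a 82<|a 79 d)<|b (a 90<|a 86 e)<|b (a 91<|a 87 e)<|c));
 (let c:=(b (a 63<|a 60 d)<|b (a 68<|a 64
 e)<|b (a 69<|a 65 e)<|b (a 73<|a 70 d)<|c);
 (b (a 52<|a 48 e)<|b (a 53<|a 49 e)<|b (a 58<|a 54 e)<|b (a 59<|a 55 e)<|c)));
 (let c:=(let c:=(b (a 37<|a 34 d)<|b (a 42<|a 38 e)<|b (a 43<|a 39
 e)<|b (a 47<|a 44 d)<|c);
 (b (a 11<|a 8 d)<|b (a 21<|a 18 d)<|b (a 28<|a 25 d)<|b (a 33<|a 30 d)<|c));
 (f (a 133<|a 4 e)<|f (a 133<|a 5 d)<|f (a 133<|a 7 d)<|f (a 5<|a 122 e)<|f (a 6<|a 122 e)<|f (a 7<|a 122 e)<|f (a 133<|a 122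
 d)<|c)))))

def t130 : SpT :=
  (beta% delta% lq26a1341ae9 fun a b d e f _ _ i _ _ _ _ _ _ _ =>
 (let c:=(let c:=(let c:=(let c:=(b (a 225<|a 221 e)<|b (a 232<|a 231 e)<|b (a 239<|a 238 e)<|b (a 243<|a 242 e)<|i);
 (b (a 207<|a 201 e)<|b (a 222<|a 218 e)<|b (a 223<|a 219 e)<|b (a 224<|a 220
 e)<|c));
 (let c:=(b (a 203<|a 197 e)<|b (a 204<|a 198
 e)<|b (a 205<|a 199 e)<|b (a 206<|a 200 e)<|c);
 (b (a 183<|a 179 e)<|b (a 184<|a 180 e)<|b (a 185<|a 181 e)<|b (a 202<|a 196 e)<|c)));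
 (let c:=(let c:=(b (a 162<|a 158 e)<|b (a 163<|a 159 e)<|b (a 172<|a 171 e)<|b (a 182<|a 178
 e)<|c);
 (b (a 144<|a 143 e)<|b (a 150<|a 149
 e)<|b (a 160<|a 156 e)<|b (a 161<|a 157 e)<|c));
 (b (a 119<|a 114 e)<|b (a 120<|a 115 e)<|b (a 121<|a 116
 e)<|b (a 139<|a 134 d)<|b (a 140<|a 135 d)<|b (a 141<|a 136 d)<|b (a 142<|a 137 d)<|c)));
 (let c:=(let c:=(let c:=(b (a 99<|a 95
 d)<|b (a 106<|a 105 d)<|b (a 112<|a 111 d)<|b (a 118<|a 113 e)<|c);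
 (b (a 84<|a 83 d)<|b (a 96<|a 92 d)<|b (a 97<|a 93 d)<|b (a 98<|a 94 d)<|c));
 (let c:=(b (a 74<|a 70 d)<|b (a 75<|a 71
 d)<|b (a 76<|a 72 d)<|b (a 77<|a 73 d)<|c);
 (b (a 56<|a 50 d)<|b (a 57<|a 51 d)<|b (a 58<|a 52 d)<|b (a 59<|a 53 d)<|c)));
 (let c:=(let c:=(b (a 36<|a 32 d)<|b (a 37<|a 33 d)<|b (a 54<|a 48
 d)<|b (a 55<|a 49 d)<|c);
 (b (a 17<|a 16 d)<|b (a 24<|a 23 d)<|b (a 34<|a 30 d)<|b (a 35<|a 31 d)<|c));
 (f (a 138<|a 1 e)<|f (a 138<|a 2 e)<|f (a 138<|a 3 e)<|f (a 138<|a 4 e)<|f (a 3<|a 117 e)<|f (a 138<|a 117 d)<|f (a 13<|a 12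
 d)<|c)))))

def t135 : SpT :=
  (beta% delta% lq26a1341ae9 fun a b d e f _ _ i _ _ _ _ _ _ _ =>
 (let c:=(let c:=(let c:=(let c:=(b (a 230<|a 225
 e)<|b (a 231<|a 226 e)<|b (a 240<|a 239 e)<|b (a 242<|a 241 e)<|i);
 (b (a 201<|a 191 e)<|b (a 227<|a 222 e)<|b (a 228<|a 223 e)<|b (a 229<|a 224 e)<|c));
 (let c:=(b (a 197<|a 187 e)<|b (a 198<|a 188 e)<|b (a 199<|a 189
 e)<|b (a 200<|a 190 e)<|c);
 (b (a 193<|a 183
 e)<|b (a 194<|a 184 e)<|b (a 195<|a 185 e)<|b (a 196<|a 186 e)<|c)));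
 (let c:=(let c:=(b (a 158<|a 153 e)<|b (a 159<|a 154 e)<|b (a 171<|a 170 e)<|b (a 192<|a 182 e)<|c);
 (b (a 148<|a 142 d)<|b (a 155<|a 150 e)<|b (a 156<|a 151
 e)<|b (a 157<|a 152 e)<|c));
 (b (a 115<|a 109 e)<|b (a 116<|a 110 e)<|b (a 117<|a 111 e)<|b (a 144<|
 a 138 d)<|b (a 145<|a 139 d)<|b (a 146<|a 140 d)<|b (a 147<|a 141 d)<|c)));
 (let c:=(let c:=(let c:=(b (a 104<|a 99 d)<|b (a 105<|
 a 100 d)<|b (a 113<|a 107 e)<|b (a 114<|a 108 e)<|c);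
 (b (a 85<|a 84 d)<|b (a 101<|a 96 d)<|b (a 102<|a 97 d)<|b (a 103<|a 98 d)<|c));
 (b (a 67<|a 57 d)<|b (a 68<|a 58 d)<|b (a 69<|a 59 d)<|b (a 70<|a 60 d)<|b (a 71<|a 61 d)<|b (a 72<|a 62
 d)<|b (a 73<|a 63 d)<|c));
 (let c:=(let c:=(b (a 33<|a 28 d)<|b (a 64<|a 54 d)<|b (a 65<|a 55
 d)<|b (a 66<|a 56 d)<|c);
 (b (a 29<|a 24 d)<|b (a 30<|a 25 d)<|b (a 31<|a 26 d)<|b (a 32<|a 27 d)<|c));
 (f (a 143<|a 0 e)<|f (a 143<|a 2 e)<|f (a 143<|a 3 e)<|f (a 2<|a 112 e)<|f (a 143<|a 112 d)<|f (a 14<|a 13 d)<|f (a 16<|a 15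
 d)<|c)))))

def t136 : SpT :=
  (beta% delta% lq26a1341ae9 fun a b d e f _ _ i _ _ _ _ _ _ _ =>
 (let c:=(let c:=(let c:=(let c:=(b (a 230<|a 221 d)<|b (a 232<|a 226 e)<|b (a 240<|a 238 d)<|b (a 243<|a 241 e)<|i);
 (b (a 207<|a 191 e)<|b (a 227<|a 218
 d)<|b (a 228<|a 219 d)<|b (a 229<|a 220 d)<|c));
 (let c:=(b (a 203<|a 187 e)<|b (a 204<|a 188 e)<|b (a 205<|a 189 e)<|b (a 206<|a 190 e)<|c);
 (b (a 193<|a 179 d)<|b (a 194<|a 180 d)<|b (a 195<|a 181 d)<|b (a 202<|a 186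
 e)<|c)));
 (let c:=(let c:=(b (a 162<|a 153 e)<|b (a 163<|a 154
 e)<|b (a 172<|a 170 e)<|b (a 192<|a 178 d)<|c);
 (b (a 148<|a 137 d)<|b (a 155<|a 149 d)<|b (a 160<|a 151 e)<|b (a 161<|a 152 e)<|c));
 (let c:=(b (a 143<|a 117 d)<|b (a 145<|a 134 d)<|b (a 146<|a 135 d)<|b (a 147<|a 136
 d)<|c);
 (b (a 119<|a 108 e)<|b (a 120<|a 109
 e)<|b (a 121<|a 110 e)<|b (a 138<|a 112 e)<|c))));
 (let c:=(let c:=(let c:=(b (a 103<|a 94 d)<|b (a 104<|a 95 d)<|b (a 106<|a 100 e)<|b (a 118<|a 107 e)<|c);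
 (b (a 77<|a 63 e)<|b (a 85<|a 83 d)<|b (a 101<|a 92 d)<|b (a 102<|
 a 93 d)<|c));
 (let c:=(b (a 69<|a 53
 d)<|b (a 74<|a 60 e)<|b (a 75<|a 61 e)<|b (a 76<|a 62 e)<|c);
 (b (a 65<|a 49 d)<|b (a 66<|a 50 d)<|b (a 67<|a 51 d)<|b (a 68<|a 52 d)<|c)));
 (let c:=(let c:=(b (a 35<|a 26 e)<|b (a 36<|a 27
 e)<|b (a 37<|a 28 e)<|b (a 64<|a 48 d)<|c);
 (b (a 14<|a 12 d)<|b (a 17<|a 15 e)<|b (a 29<|a 23 d)<|b (a 34<|a 25 e)<|c));
 (let c:=(b (a 144<|a 4 e)<|b (a 2<|a 111 e)<|b (a 3<|a 111 e)<|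
 b (a 144<|a 111 d)<|c);
 (f (a 144<|a 0 e)<|f (a 144<|a 1 e)<|f (a 144<|a 2 d)<|f (a 144<|a 3 d)<|c))))))

def t141 : SpT :=
  (beta% delta% lq26a1341ae9 fun a b d e f _ _ i _ _ _ _ _ _ _ =>
 (let c:=(let c:=(let c:=(let c:=(b (a 221<|a 211 e)<|b (a 233<|a 232 e)<|b (a 241<|
 a 239 e)<|b (a 242<|a 240 e)<|i);
 (b (a 217<|
 a 207 e)<|b (a 218<|a 208 e)<|b (a 219<|a 209 e)<|b (a 220<|a 210 e)<|c));
 (b (a 180<|a 175 e)<|b (a 181<|
 a 176 e)<|b (a 212<|a 202 e)<|b (a 213<|a 203 e)<|b (a 214<|a 204 e)<|b (a 215<|a 205 e)<|b (a 216<|a 206 e)<|c));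
 (let c:=(let c:=(b (a 159<|a 148 e)<|b (a 177<|a 172 e)<|b (a 178<|a 173 e)<|b (a 179<|a 174 e)<|c);
 (b (a 155<|a 144 e)<|b (a 156<|a 145 e)<|b (a 157<|a 146 e)<|b (a 158<|
 a 147 e)<|c));
 (b (a 116<|a 104 e)<|b (a 117<|a 105 e)<|b (a 150<|a 138 d)<|b (a 151<|a 139 d)<|
 b (a 152<|a 140 d)<|b (a 153<|a 141 d)<|b (a 154<|a 142 d)<|c)));
 (let c:=(let c:=(let c:=(b (a 111<|a 100 d)<|b (a 113<|a 101 e)<|
 b (a 114<|a 102 e)<|b (a 115<|a 103 e)<|c);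
 (b (a 107<|a 96 d)<|b (a 108<|a 97 d)<|b (a 109<|a 98 d)<|b (a 110<|a 99 d)<|c));
 (b (a 52<|a 42 d)<|b (a 53<|a 43 d)<|b (a 79<|a 74 d)<|b (a 80<|a 75 d)<|b (a 81<|a 76 d)<|b (a 82<|a 77 d)<|b (a 83<|a 78
 d)<|c));
 (let c:=(let c:=(b (a 48<|a 38 d)<|b (a 49<|a 39 d)<|b (a 50<|a 40 d)<|b (a 51<|
 a 41 d)<|c);
 (b (a 44<|a 34 d)<|b (a 45<|a 35 d)<|b (a 46<|a 36 d)<|b (a 47<|a 37 d)<|c));
 (f (a 149<|a 1 e)<|f (a 149<|a 3 e)<|f (a 1<|a 106 e)<|f (a 149<|a 106 d)<|f (a 15<|a 13 d)<|f (a 16<|a 14 d)<|f (a 23<|a 22 d)<|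
 c)))))

def t142 : SpT :=
  (beta% delta% lq26a1341ae9 fun a b d e f _ _ i _ _ _ _ _ _ _ =>
 (let c:=(let c:=(let c:=(let c:=(b (a 225<|a 211 e)<|b (a 233<|a 231 d)<|b (a 241<|a 238 d)<|b (a 243<|a 240 e)<|i);
 (b (a 217<|a 201 d)<|b (a 222<|a 208 e)<|b (a 223<|a 209 e)<|b (a 224<|
 a 210 e)<|c));
 (let c:=(b (a 213<|a 197 d)<|
 b (a 214<|a 198 d)<|b (a 215<|a 199 d)<|b (a 216<|a 200 d)<|c);
 (b (a 183<|a 174 e)<|b (a 184<|a 175 e)<|b (a 185<|a 176 e)<|b (a 212<|a 196 d)<|c)));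
 (let c:=(let c:=(b (a 162<|a 147 e)<|b (a 163<|a 148 e)<|b (a 177<|a 171 d)<|
 b (a 182<|a 173 e)<|c);
 (b (a 154<|a 137 d)<|
 b (a 155<|a 143 d)<|b (a 160<|a 145 e)<|b (a 161<|a 146 e)<|c));
 (let c:=(b (a 149<|a 117 d)<|b (a 151<|a 134 d)<|b (a 152<|a 135 d)<|b (a 153<|a 136 d)<|c);
 (b (a 119<|a 102 e)<|b (a 120<|a 103 e)<|b (a 121<|a 104
 e)<|b (a 138<|a 106 e)<|c))));
 (let c:=(let c:=(let c:=(b (a 109<|
 a 94 d)<|b (a 110<|a 95 d)<|b (a 112<|a 100 e)<|b (a 118<|a 101 e)<|c);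
 (b (a 82<|a 73 d)<|b (a 84<|a 78 e)<|b (a 107<|a 92 d)<|b (a 108<|a 93 d)<|c));
 (let c:=(b (a 59<|a 43 e)<|b (a 79<|
 a 70 d)<|b (a 80<|a 71 d)<|b (a 81<|a 72 d)<|c);
 (b (a 55<|a 39 e)<|b (a 56<|a 40 e)<|b (a 57<|a 41 e)<|b (a 58<|a 42 e)<|c)));
 (let c:=(let c:=(b (a 45<|a 31 d)<|b (a 46<|a 32 d)<|b (a 47<|a 33
 d)<|b (a 54<|a 38 e)<|c);
 (b (a 15<|a 12 d)<|b (a 17<|a 14 e)<|b (a 24<|a 22 e)<|b (a 44<|a 30 d)<|c));
 (f (a 150<|a 1 d)<|f (a 150<|a 2 e)<|f (a 150<|a 3 d)<|f (a 150<|a 4 e)<|f (a 1<|a 105 e)<|f (a 3<|a 105 e)<|f (a 150<|a 105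
 d)<|c)))))

def t147 : SpT :=
  (beta% delta% lq26a1341ae9 fun a b d e f _ _ i _ _ _ _ _ _ _ =>
 (let c:=(let c:=(let c:=(let c:=(b (a 230<|a 211 e)<|b (a 233<|a 226 e)<|b (a 242<|a 238 d)<|b (a 243<|a 239 d)<|i);
 (b (a 217<|a 191 e)<|b (a 227<|a 208 e)<|b (a 228<|a 209 e)<|
 b (a 229<|a 210 e)<|c));
 (let c:=(b (a 213<|a 187 e)<|
 b (a 214<|a 188 e)<|b (a 215<|a 189 e)<|b (a 216<|a 190 e)<|c);
 (b (a 193<|a 174 e)<|b (a 194<|a 175 e)<|b (a 195<|a 176 e)<|b (a 212<|a 186 e)<|c)));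
 (let c:=(let c:=(b (a 162<|a 141 e)<|b (a 163<|a 142 e)<|b (a 177<|a 170 e)<|
 b (a 192<|a 173 e)<|c);
 (b (a 158<|a 136 d)<|
 b (a 159<|a 137 d)<|b (a 160<|a 139 e)<|b (a 161<|a 140 e)<|c));
 (let c:=(b (a 149<|a 111 e)<|b (a 150<|a 112 d)<|b (a 156<|a 134 d)<|b (a 157<|a 135 d)<|c);
 (b (a 120<|a 98 e)<|b (a 121<|a 99 e)<|b (a 143<|a 105
 e)<|b (a 144<|a 106 d)<|c))));
 (let c:=(let c:=(let c:=(b (a 115<|
 a 94 d)<|b (a 116<|a 95 d)<|b (a 118<|a 96 e)<|b (a 119<|a 97 e)<|c);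
 (b (a 82<|a 63 d)<|b (a 85<|a 78 d)<|b (a 113<|a 92 d)<|b (a 114<|a 93 d)<|c));
 (let c:=(b (a 69<|a 43 d)<|b (a 79<|
 a 60 d)<|b (a 80<|a 61 d)<|b (a 81<|a 62 d)<|c);
 (b (a 65<|a 39 d)<|b (a 66<|a 40 d)<|b (a 67<|a 41 d)<|b (a 68<|a 42 d)<|c)));
 (let c:=(let c:=(b (a 45<|a 26 d)<|b (a 46<|a 27 d)<|
 b (a 47<|a 28 d)<|b (a 64<|a 38 d)<|c);
 (b (a 16<|a 12 e)<|b (a 17<|a 13 e)<|b (a 29<|a 22 d)<|b (a 44<|a 25 d)<|c));
 (let c:=(b (a 1<|a 100 e)<|b (a 2<|a 100 e)<|b (a 3<|a 100 e)<|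
 b (a 155<|a 100 d)<|c);
 (f (a 155<|a 0 e)<|f (a 155<|a 1 d)<|f (a 155<|a 2 d)<|f (a 155<|a 4 e)<|c))))))

def t162 : SpT :=
  (beta% delta% lq26a1341ae9 fun a b d e f _ _ i _ _ _ _ _ _ _ =>
 (let c:=(let c:=(let c:=(let c:=(b (a 237<|a 230 e)<|b (a 238<|a 231 e)<|b (a 239<|
 a 232 e)<|b (a 241<|a 233 e)<|i);
 (b (a 191<|
 a 169 d)<|b (a 234<|a 227 e)<|b (a 235<|a 228 e)<|b (a 236<|a 229 e)<|c));
 (b (a 184<|a 162 d)<|
 b (a 185<|a 163 d)<|b (a 186<|a 164 d)<|b (a 187<|a 165 d)<|b (a 188<|a 166 d)<|b (a 189<|a 167 d)<|b (a 190<|a 168 d)<|c));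
 (let c:=(let c:=(b (a 180<|a 158 d)<|b (a 181<|a 159 d)<|b (a 182<|a 160 d)<|b (a 183<|a 161 d)<|c);
 (b (a 176<|a 148 d)<|b (a 177<|a 155 d)<|b (a 178<|a 156
 d)<|b (a 179<|a 157 d)<|c));
 (b (a 111<|a 83 e)<|b (a 112<|a 84 e)<|b (a 171<|a 143 d)<|b (a 172<|
 a 144 d)<|b (a 173<|a 145 d)<|b (a 174<|a 146 d)<|b (a 175<|a 147 d)<|c)));
 (let c:=(let c:=(let c:=(b (a 107<|a 79 e)<|
 b (a 108<|a 80 e)<|b (a 109<|a 81 e)<|b (a 110<|a 82 e)<|c);
 (b (a 97<|a 75 e)<|b (a 98<|a 76 e)<|b (a 99<|a 77 e)<|b (a 100<|a 78 e)<|c));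
 (b (a 90<|a 68 e)<|b (a 91<|a 69 e)<|b (a 92<|a 70 e)<|b (a 93<|a 71 e)<|b (a 94<|a 72 e)<|b (a 95<|a 73
 e)<|b (a 96<|a 74 e)<|c));
 (let c:=(let c:=(b (a 86<|a 64 e)<|b (a 87<|a 65 e)<|b (a 88<|a 66 e)<|
 b (a 89<|a 67 e)<|c);
 (b (a 25<|a 18 d)<|b (a 26<|a 19 d)<|b (a 27<|a 20 d)<|b (a 28<|a 21 d)<|c));
 (f (a 170<|a 0 e)<|f (a 170<|a 2 e)<|f (a 0<|a 85 e)<|f (a 170<|a 85 d)<|f (a 22<|a 14 d)<|f (a 23<|a 16 d)<|f (a 24<|a 17 d)<|
 c)))))

def t163 : SpT :=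
  (beta% delta% lq26a1341ae9 fun a b d e f _ _ i _ _ _ _ _ _ _ =>
 (let c:=(let c:=(let c:=(let c:=(b (a 237<|a 225
 d)<|b (a 238<|a 226 d)<|b (a 240<|a 232 e)<|b (a 242<|a 233 e)<|i);
 (b (a 201<|a 169 d)<|b (a 234<|a 222 d)<|b (a 235<|a 223 d)<|b (a 236<|a 224 d)<|c));
 (let c:=(b (a 197<|a 165 d)<|b (a 198<|a 166 d)<|b (a 199<|
 a 167 d)<|b (a 200<|a 168 d)<|c);
 (b (a 193<|a 161 d)<|b (a 194<|a 162 d)<|b (a 195<|a 163 d)<|b (a 196<|a 164 d)<|c)));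
 (let c:=(let c:=(b (a 179<|a 152 e)<|b (a 180<|a 153 e)<|b (a 181<|a 154 e)<|b (a 192<|a 160 d)<|
 c);
 (b (a 175<|a 141 d)<|b (a 176<|a 142 d)<|
 b (a 177<|a 150 e)<|b (a 178<|a 151 e)<|c));
 (b (a 116<|a 82 e)<|b (a 117<|a 83 e)<|b (a 143<|a 85
 e)<|b (a 170<|a 112 d)<|b (a 172<|a 138 d)<|b (a 173<|a 139 d)<|b (a 174<|a 140 d)<|c)));
 (let c:=(let c:=(let c:=(b (a 105<|a 78 d)<|b (a 113<|a 79 e)<|b (a 114<|a 80 e)<|b (a 115<|a 81 e)<|c);
 (b (a 101<|a 74 d)<|b (a 102<|a 75 d)<|b (a 103<|a 76 d)<|b (a 104<|a 77 d)<|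
 c));
 (let c:=(b (a 92<|a 60 e)<|b (a 93<|
 a 61 e)<|b (a 94<|a 62 e)<|b (a 95<|a 63 e)<|c);
 (b (a 88<|a 56 e)<|b (a 89<|a 57 e)<|b (a 90<|a 58 e)<|b (a 91<|a 59 e)<|c)));
 (let c:=(let c:=(b (a 32<|a 20 e)<|b (a 33<|a 21 e)<|b (a 86<|a 54
 e)<|b (a 87<|a 55 e)<|c);
 (b (a 23<|a 15 d)<|b (a 29<|a 17 e)<|b (a 30<|a 18 e)<|b (a 31<|a 19 e)<|c));
 (f (a 171<|a 0 d)<|f (a 171<|a 2 d)<|f (a 171<|a 3 e)<|f (a 0<|a 84 e)<|f (a 2<|a 84 e)<|f (a 171<|a 84 d)<|f (a 22<|a 13 d)<|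
 c)))))

def t164 : SpT :=
  (beta% delta% lq26a1341ae9 fun a b d e f _ _ i _ _ _ _ _ _ _ =>
 (let c:=(let c:=(let c:=(let c:=(b (a 237<|a 221 e)<|b (a 239<|a 226 d)<|b (a 240<|a 231 d)<|b (a 243<|a 233 e)<|i);
 (b (a 207<|a 169 d)<|b (a 234<|a 218 e)<|b (a 235<|a 219 e)<|
 b (a 236<|a 220 e)<|c));
 (let c:=(b (a 203<|a 165
 d)<|b (a 204<|a 166 d)<|b (a 205<|a 167 d)<|b (a 206<|a 168 d)<|c);
 (b (a 193<|a 157 e)<|b (a 194<|a 158 e)<|b (a 195<|a 159 e)<|b (a 202<|a 164 d)<|c)));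
 (let c:=(let c:=(b (a 183<|a 152 e)<|b (a 184<|a 153 e)<|b (a 185<|a 154
 e)<|b (a 192<|a 156 e)<|c);
 (b (a 175<|
 a 136 d)<|b (a 176<|a 137 d)<|b (a 177<|a 149 d)<|b (a 182<|a 151 e)<|c));
 (let c:=(b (a 170<|a 111 d)<|b (a 171<|a 117 d)<|b (a 173<|a 134 d)<|b (a 174<|a 135 d)<|c);
 (b (a 120<|a 81 e)<|b (a 121<|a 82 e)<|
 b (a 138<|a 84 e)<|b (a 144<|a 85 e)<|c))));
 (let c:=(let c:=(let c:=(b (a 104<|a 73 d)<|b (a 106<|a 78 e)<|b (a 118<|a 79 e)<|b (a 119<|a 80 e)<|c);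
 (b (a 99<|a 63 d)<|b (a 101<|a 70 d)<|b (a 102<|a 71 d)<|b (a 103<|a 72
 d)<|c));
 (let c:=(b (a 91<|a 53
 e)<|b (a 96<|a 60 d)<|b (a 97<|a 61 d)<|b (a 98<|a 62 d)<|c);
 (b (a 87<|a 49 e)<|b (a 88<|a 50 e)<|b (a 89<|a 51 e)<|b (a 90<|a 52 e)<|c)));
 (let c:=(let c:=(b (a 35<|a 19 d)<|b (a 36<|a 20 d)<|
 b (a 37<|a 21 d)<|b (a 86<|a 48 e)<|c);
 (b (a 22<|a 12 d)<|b (a 24<|a 15 e)<|b (a 29<|a 16 e)<|b (a 34<|a 18 d)<|c));
 (let c:=(b (a 0<|a 83 e)<|b (a 2<|a 83 e)<|b (a 3<|a 83 e)<|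
 b (a 172<|a 83 d)<|c);
 (f (a 172<|a 0 d)<|f (a 172<|a 1 e)<|f (a 172<|a 3 d)<|f (a 172<|a 4 e)<|c))))))

def t169 : SpT :=
  (beta% delta% lq26a1341ae9 fun a b d e f _ _ i _ _ _ _ _ _ _ =>
 (let c:=(let c:=(let c:=(let c:=(b (a 237<|a 211 d)<|b (a 241<|a 226 d)<|b (a 242<|a 231 d)<|b (a 243<|a 232 d)<|i);
 (b (a 217<|a 169 d)<|b (a 234<|a 208 d)<|b (a 235<|
 a 209 d)<|b (a 236<|a 210 d)<|c));
 (let c:=(b (a 213<|a 165 d)<|b (a 214<|a 166 d)<|b (a 215<|a 167 d)<|b (a 216<|a 168 d)<|c);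
 (b (a 193<|a 146 d)<|b (a 194<|a 147 d)<|b (a 195<|a 148 d)<|b (a 212<|a 164 d)<|
 c)));
 (let c:=(let c:=(b (a 183<|a 140 e)<|b (a 184<|a 141
 e)<|b (a 185<|a 142 e)<|b (a 192<|a 145 d)<|c);
 (b (a 179<|a 135 d)<|b (a 180<|a 136 d)<|b (a 181<|a 137 d)<|b (a 182<|a 139 e)<|c));
 (let c:=(b (a 170<|a 100 d)<|b (a 171<|a 105 e)<|b (a 172<|a 106 d)<|b (a 178<|
 a 134 d)<|c);
 (b (a 121<|a 77 e)<|
 b (a 149<|a 83 e)<|b (a 150<|a 84 d)<|b (a 155<|a 85 e)<|c))));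
 (let c:=(let c:=(let c:=(b (a 116<|a 73 d)<|b (a 118<|a 74 e)<|b (a 119<|a 75 e)<|b (a 120<|a 76 e)<|c);
 (b (a 110<|a 63 e)<|b (a 113<|a 70 d)<|b (a 114<|a 71
 d)<|b (a 115<|a 72 d)<|c));
 (let c:=(b (a 91<|
 a 43 e)<|b (a 107<|a 60 e)<|b (a 108<|a 61 e)<|b (a 109<|a 62 e)<|c);
 (b (a 87<|a 39 e)<|b (a 88<|a 40 e)<|b (a 89<|a 41 e)<|b (a 90<|a 42 e)<|c)));
 (let c:=(let c:=(b (a 45<|a 19 e)<|b (a 46<|a 20
 e)<|b (a 47<|a 21 e)<|b (a 86<|a 38 e)<|c);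
 (b (a 23<|a 12 e)<|b (a 24<|a 13 e)<|b (a 29<|a 14 e)<|b (a 44<|a 18 e)<|c));
 (let c:=(b (a 1<|a 78 e)<|b (a 2<|a 78 e)<|b (a 3<|a 78 e)<|
 b (a 177<|a 78 d)<|c);
 (f (a 177<|a 0 d)<|f (a 177<|a 1 d)<|f (a 177<|a 4 e)<|f (a 0<|a 78 e)<|c))))))

def t236 : SpT :=
  (beta% delta% lq26a1341ae9 fun a b d e f _ _ i _ _ _ _ _ _ _ =>
 (let c:=(let c:=(let c:=(let c:=(b (a 243<|a 121 d)<|b (a 245<|a 131 d)<|b (a 246<|a 132 d)<|b (a 247<|a 133 d)<|i);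
 (b (a 239<|a 99 e)<|b (a 240<|a 104 d)<|b (a 241<|a 110 d)<|b (a 242<|a 116
 d)<|c));
 (let c:=(b (a 234<|a 89 e)<|
 b (a 235<|a 90 d)<|b (a 236<|a 91 e)<|b (a 238<|a 95 d)<|c);
 (b (a 229<|a 69 e)<|b (a 231<|a 73 d)<|b (a 232<|a 77 e)<|b (a 233<|a 82 d)<|c)));
 (let c:=(let c:=(b (a 224<|a 59 d)<|b (a 226<|a 63 e)<|b (a 227<|a 67
 e)<|b (a 228<|a 68 d)<|c);
 (b (a 219<|a 52 d)<|b (a 220<|a 53 e)<|b (a 222<|a 57 d)<|b (a 223<|a 58 e)<|c));
 (let c:=(b (a 212<|a 45 e)<|b (a 213<|a 46 d)<|b (a 214<|a 47 e)<|b (a 218<|a 51 e)<|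
 c);
 (b (a 204<|a 37 d)<|b (a 208<|a 41
 d)<|b (a 209<|a 42 e)<|b (a 210<|a 43 d)<|c))));
 (let c:=(let c:=(let c:=(b (a 197<|a 32 d)<|b (a 198<|a 33 e)<|b (a 202<|a 35 d)<|b (a 203<|a 36 e)<|c);
 (b (a 187<|a 27 e)<|b (a 188<|a 28 d)<|b (a 192<|a 29 d)<|
 b (a 196<|a 31 e)<|c));
 (let c:=(b (a 173<|a 22
 e)<|b (a 178<|a 23 d)<|b (a 182<|a 24 e)<|b (a 186<|a 26 d)<|c);
 (b (a 160<|a 17 e)<|b (a 164<|a 19 d)<|b (a 165<|a 20 e)<|b (a 166<|a 21 d)<|c)));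
 (let c:=(let c:=(b (a 139<|a 13 e)<|b (a 145<|a 14 e)<|
 b (a 151<|a 15 e)<|b (a 156<|a 16 d)<|c);
 (b (a 122<|a 8 e)<|b (a 123<|a 9 e)<|b (a 124<|a 10 e)<|b (a 134<|a 12 e)<|c));
 (let c:=(b (a 4<|a 11 d)<|b (a 6<|a 11 d)<|b (a 7<|a 11 e)<|b (a 244<|
 a 11 d)<|c);
 (f (a 244<|a 4 d)<|f (a 244<|a 5 e)<|f (a 0<|a 11 d)<|f (a 2<|a 11 e)<|c))))))

def t237 : SpT :=
  (beta% delta% lq26a1341ae9 fun a b d e f _ _ i _ _ _ _ _ _ _ =>
 (let c:=(let c:=(let c:=(let c:=(b (a 242<|a 115 d)<|b (a 243<|a 120 d)<|b (a 244<|a 124 d)<|b (a 246<|a 129 d)<|b (a 247<|a 130 d)<|i);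
 (b (a 238<|a 94 d)<|b (a 239<|a 98 e)<|b (a 240<|a 103 d)<|b (a 241<|a 109
 d)<|c));
 (let c:=(b (a 233<|a 81 d)<|
 b (a 234<|a 87 e)<|b (a 235<|a 88 d)<|b (a 237<|a 91 e)<|c);
 (b (a 228<|a 66 d)<|b (a 230<|a 69 e)<|b (a 231<|a 72 d)<|b (a 232<|a 76 e)<|c)));
 (let c:=(let c:=(b (a 223<|a 56 e)<|b (a 225<|a 59 d)<|b (a 226<|a 62
 e)<|b (a 227<|a 65 e)<|c);
 (b (a 218<|a 49 e)<|b (a 219<|a 50 d)<|b (a 221<|a 53 e)<|b (a 222<|a 55 d)<|c));
 (let c:=(b (a 211<|a 43 d)<|b (a 212<|a 44 e)<|b (a 215<|a 46 d)<|b (a 216<|a 47 e)<|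
 c);
 (b (a 205<|a 36 e)<|b (a 206<|a 37
 d)<|b (a 208<|a 39 d)<|b (a 209<|a 40 e)<|c))));
 (let c:=(let c:=(let c:=(b (a 196<|a 30 e)<|b (a 199<|a 32 d)<|b (a 200<|a 33 e)<|b (a 202<|a 34 d)<|c);
 (b (a 186<|a 25 d)<|b (a 189<|a 27 e)<|b (a 190<|a 28 d)<|
 b (a 193<|a 29 d)<|c));
 (let c:=(b (a 168<|a 21
 d)<|b (a 174<|a 22 e)<|b (a 179<|a 23 d)<|b (a 183<|a 24 e)<|c);
 (b (a 157<|a 16 d)<|b (a 161<|a 17 e)<|b (a 164<|a 18 d)<|b (a 167<|a 20 e)<|c)));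
 (let c:=(let c:=(b (a 135<|a 12 e)<|b (a 140<|a 13 e)<|
 b (a 146<|a 14 e)<|b (a 152<|a 15 e)<|c);
 (b (a 245<|a 10 d)<|b (a 125<|a 8 e)<|b (a 126<|a 9 e)<|b (a 131<|a 11 e)<|c));
 (let c:=(b (a 4<|a 10 d)<|b (a 5<|a 10 e)<|b (a 6<|a 10 d)<|b (a 7<|
 a 10 e)<|c);
 (f (a 245<|a 5 d)<|f (a 245<|a 6 e)<|f (a 0<|a 10 d)<|f (a 2<|a 10 e)<|c))))))

def t238 : SpT :=
  (beta% delta% lq26a1341ae9 fun a b d e f _ _ i _ _ _ _ _ _ _ =>
 (let c:=(let c:=(let c:=(let c:=(b (a 243<|a 119 d)<|b (a 244<|a 123 d)<|b (a 245<|a 126 d)<|b (a 247<|a 128 d)<|i);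
 (b (a 239<|a 97 e)<|b (a 240<|a 102 d)<|b (a 241<|a 108 d)<|b (a 242<|a 114
 d)<|c));
 (let c:=(b (a 234<|a 86 e)<|
 b (a 236<|a 88 d)<|b (a 237<|a 90 e)<|b (a 238<|a 93 d)<|c);
 (b (a 230<|a 68 e)<|b (a 231<|a 71 d)<|b (a 232<|a 75 e)<|b (a 233<|a 80 d)<|c)));
 (let c:=(let c:=(b (a 225<|a 58 d)<|b (a 226<|a 61 e)<|b (a 227<|a 64
 e)<|b (a 229<|a 66 d)<|c);
 (b (a 220<|a 50 d)<|b (a 221<|a 52 e)<|b (a 222<|a 54 d)<|b (a 224<|a 56 e)<|c));
 (let c:=(b (a 213<|a 44 e)<|b (a 215<|a 45 d)<|b (a 217<|a 47 e)<|b (a 218<|a 48 e)<|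
 c);
 (b (a 207<|a 37 d)<|b (a 208<|a 38
 d)<|b (a 210<|a 40 e)<|b (a 211<|a 42 d)<|c))));
 (let c:=(let c:=(let c:=(b (a 199<|a 31 d)<|b (a 201<|a 33 e)<|b (a 203<|a 34 d)<|b (a 205<|a 35 e)<|c);
 (b (a 189<|a 26 e)<|b (a 191<|a 28 d)<|b (a 194<|a 29 d)<|
 b (a 197<|a 30 e)<|c));
 (let c:=(b (a 175<|a 22
 e)<|b (a 180<|a 23 d)<|b (a 184<|a 24 e)<|b (a 187<|a 25 d)<|c);
 (b (a 162<|a 17 e)<|b (a 165<|a 18 d)<|b (a 167<|a 19 e)<|b (a 169<|a 21 d)<|c)));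
 (let c:=(let c:=(b (a 141<|a 13 e)<|b (a 147<|a 14 e)<|
 b (a 153<|a 15 e)<|b (a 158<|a 16 d)<|c);
 (b (a 127<|a 8 e)<|b (a 129<|a 10 e)<|b (a 132<|a 11 e)<|b (a 136<|a 12 e)<|c));
 (let c:=(b (a 4<|a 9 d)<|b (a 5<|a 9 e)<|b (a 7<|a 9 e)<|b (a 246<|a 9
 d)<|c);
 (f (a 246<|a 6 d)<|f (a 246<|a 7 e)<|f (a 0<|a 9 d)<|f (a 2<|a 9 e)<|c))))))

def t239 : SpT :=
  (beta% delta% lq26a1341ae9 fun a b d e f _ _ i _ _ _ _ _ _ _ =>
 (let c:=(let c:=(let c:=(let c:=(b (a 243<|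
 a 118 d)<|b (a 244<|a 122 d)<|b (a 245<|a 125 d)<|b (a 246<|a 127 d)<|i);
 (b (a 239<|a 96 e)<|b (a 240<|a 101 d)<|b (a 241<|a 107 d)<|b (a 242<|a 113 d)<|c));
 (let c:=(b (a 235<|a 86 e)<|b (a 236<|a 87 d)<|
 b (a 237<|a 89 e)<|b (a 238<|a 92 d)<|c);
 (b (a 230<|a 67 e)<|b (a 231<|a 70 d)<|b (a 232<|a 74 e)<|b (a 233<|a 79 d)<|c)));
 (let c:=(let c:=(b (a 225<|a 57 d)<|b (a 226<|a 60 e)<|b (a 228<|a 64 e)<|b (a 229<|a 65
 d)<|c);
 (b (a 220<|a 49 d)<|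
 b (a 221<|a 51 e)<|b (a 223<|a 54 d)<|b (a 224<|a 55 e)<|c));
 (let c:=(b (a 214<|a 44 e)<|b (a 216<|a 45 d)<|b (a 217<|a 46 e)<|b (a 219<|a 48 e)<|c);
 (b (a 207<|a 36 d)<|b (a 209<|a 38 d)<|b (a 210<|a 39
 e)<|b (a 211<|a 41 d)<|c))));
 (let c:=(let c:=(let c:=(b (a 200<|a 31 d)<|b (a 201<|a 32 e)<|b (a 204<|a 34 d)<|b (a 206<|a 35 e)<|c);
 (b (a 190<|a 26 e)<|b (a 191<|a 27 d)<|b (a 195<|a 29 d)<|b (a 198<|a 30 e)<|
 c));
 (let c:=(b (a 176<|a 22 e)<|b (a 181<|a 23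
 d)<|b (a 185<|a 24 e)<|b (a 188<|a 25 d)<|c);
 (b (a 163<|a 17 e)<|b (a 166<|a 18 d)<|b (a 168<|a 19 e)<|b (a 169<|a 20 d)<|c)));
 (let c:=(let c:=(b (a 142<|a 13 e)<|b (a 148<|a 14 e)<|b (a 154<|a 15 e)<|
 b (a 159<|a 16 d)<|c);
 (b (a 128<|a 9
 e)<|b (a 130<|a 10 e)<|b (a 133<|a 11 e)<|b (a 137<|a 12 e)<|c));
 (f (a 247<|a 7 d)<|f (a 0<|a 8 d)<|f (a 2<|a 8 e)<|f (a 4<|a 8 d)<|f (a 5<|a 8 e)<|f (a 7<|a 8 d)<|f (a 247<|a 8 d)<|c)))))

/-- the table -/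
def TX : List (ℕ × SpT) :=
  (beta% (fun (vq0 : List (ℕ × Cfsg.Agent.H74.E83.Code.SpT)) => (beta% delta% lq26a1341ae9 fun a _ _ _ f _ _ i _ _ _ _ _ _ _ =>
 (let c:type_of% vq0:=(let c:type_of% vq0:=(let c:type_of% vq0:=(f (a 169 t169)<|f (a 236 t236)<|f (a 237 t237)<|
 f (a 238 t238)<|f (a 239 t239)<|i);
 (f (a 142 t142)<|f (a 147 t147)<|f (a 162 t162)<|f (a 163 t163)<|f (a 164 t164)<|c));
 (let c:type_of% c:=(f (a 125 t125)<|f (a 130 t130)<|f (a 135 t135)<|f (a 136 t136)<|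
 f (a 141 t141)<|c);
 (f (a 120 t120)<|f (a 121 t121)<|f (a 122 t122)<|f (a 123 t123)<|f (a 124 t124)<|c)));
 (let c:type_of% c:=(let c:type_of% c:=(f (a 115 t115)<|f (a 116 t116)<|f (a 117 t117)<|f (a 118 t118)<|f (a 119 t119)<|
 c);
 (f (a 98 t98)<|
 f (a 103 t103)<|f (a 104 t104)<|f (a 109 t109)<|f (a 114 t114)<|c));
 (let c:type_of% c:=(f (a 75 t75)<|f (a 76 t76)<|f (a 77 t77)<|f (a 92 t92)<|f (a 97 t97)<|c);
 (f (a 0 t0)<|f (a 1 t1)<|f (a 2 t2)<|f (a 3 t3)<|f (a 70 t70)<|c)))) :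
 List (ℕ × Cfsg.Agent.H74.E83.Code.SpT))) _)

private noncomputable def _root_.Cfsg.Agent.LsF.fef2254_0 : {f // @Cfsg.Agent.H74.E83.Code.okS = f} := ⟨_, by first | (delta Cfsg.Agent.H74.E83.Code.okS; rewrite [Cfsg.Agent.LsF.all_eq]; exact rfl) | exact rfl⟩
private noncomputable def _root_.Cfsg.Agent.LsF.fef2254_1 : {f // @Cfsg.Agent.H751.Two.Word.sz = f} := ⟨_, by first | (delta Cfsg.Agent.H751.Two.Word.sz; rewrite [Cfsg.Agent.LsF.nadd_pat]; exact rfl) | exact rfl⟩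
private noncomputable def _root_.Cfsg.Agent.LsF.fef2254_2 : {f // @Cfsg.Agent.H74.E83.Code.beqT = f} := ⟨_, by first | (delta Cfsg.Agent.H74.E83.Code.beqT Cfsg.Agent.H74.E83.Code.beqT._f List.brecOn List.brecOn.go; rewrite [Cfsg.Agent.LsF.bbeq_pat, Cfsg.Agent.LsF.and_eq]; (try delta Cfsg.Agent.H74.E83.Code.beqT.match_1); (try delta Cfsg.Agent.H74.E83.Code.beqT._sparseCasesOn_1); (try delta Cfsg.Agent.H74.E83.Code.beqT._sparseCasesOn_2); (try delta List.casesOn); first | dsimp -zeta only | exact rfl) | exact rfl⟩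
private noncomputable def _root_.Cfsg.Agent.LsF.fef2254_3 : {f // @Cfsg.Agent.H74.E83.Code.norm1 = f} := ⟨_, by first | (delta Cfsg.Agent.H74.E83.Code.norm1; rewrite [Cfsg.Agent.LsF.imod_pat, Cfsg.Agent.LsF.toNat_eq]; (try delta Cfsg.Agent.H74.E83.Code.norm1.match_1); (try rewrite [Cfsg.Agent.LsF.instDecEq_eq, Cfsg.Agent.LsF.dite_eq]); exact rfl) | exact rfl⟩
private noncomputable def _root_.Cfsg.Agent.LsF.fef2254_4 : {f // @Cfsg.Agent.H74.E83.Code.norm = f} := ⟨_, by first | (delta Cfsg.Agent.H74.E83.Code.norm List.brecOn List.brecOn.go Cfsg.Agent.H74.E83.Code.norm._f; rewrite [Cfsg.Agent.LsF.fef2254_3.2]; (try delta Cfsg.Agent.H74.E83.Code.norm.match_2); (try delta Cfsg.Agent.H74.E83.Code.norm.match_1); (try delta List.casesOn Option.casesOn); first | dsimp -zeta only | exact rfl) | exact rfl⟩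
private noncomputable def _root_.Cfsg.Agent.LsF.fef2254_5 : {f // @Cfsg.Agent.H74.E83.Sp.colH = f} := ⟨_, by first | (delta Cfsg.Agent.H74.E83.Sp.colH; rewrite [Cfsg.Agent.LsF.nadd_pat, Cfsg.Agent.LsF.ineg_pat, Cfsg.Agent.LsF.map_eq, Cfsg.Agent.LsF.range_eq, Cfsg.Agent.LsF.agetD_eq]; exact rfl) | exact rfl⟩
private noncomputable def _root_.Cfsg.Agent.LsF.fef2254_6 : {f // @Cfsg.Agent.H74.E83.Sp.colN = f} := ⟨_, by first | (delta Cfsg.Agent.H74.E83.Sp.colN; rewrite [Cfsg.Agent.LsF.nadd_pat, Cfsg.Agent.LsF.ineg_pat, Cfsg.Agent.LsF.lappend_pat, Cfsg.Agent.LsF.instDecEq_eq, Cfsg.Agent.LsF.map_eq, Cfsg.Agent.LsF.range_eq, Cfsg.Agent.LsF.agetD_eq, Cfsg.Agent.LsF.ite_eq]; exact rfl) | exact rfl⟩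
private noncomputable def _root_.Cfsg.Agent.LsF.fef2254_7 : {f // @Cfsg.Agent.H74.E83.Sp.colC = f} := ⟨_, by first | (delta Cfsg.Agent.H74.E83.Sp.colC; rewrite [Cfsg.Agent.LsF.nadd_pat, Cfsg.Agent.LsF.instDecEq_eq, Cfsg.Agent.LsF.map_eq, Cfsg.Agent.LsF.flatMap_eq, Cfsg.Agent.LsF.filter_eq, Cfsg.Agent.LsF.agetD_eq, Cfsg.Agent.LsF.dAnd_eq, Cfsg.Agent.LsF.dNot_eq, Cfsg.Agent.LsF.decide_eq]; exact rfl) | exact rfl⟩
private noncomputable def _root_.Cfsg.Agent.LsF.fef2254_8 : {f // @Cfsg.Agent.H74.E83.Sp.XlsZ = f} := ⟨_, by first | (delta Cfsg.Agent.H74.E83.Sp.XlsZ; rewrite [Cfsg.Agent.LsF.fef2254_5.2, Cfsg.Agent.LsF.fef2254_6.2, Cfsg.Agent.LsF.fef2254_7.2, Cfsg.Agent.LsF.lappend_pat]; exact rfl) | exact rfl⟩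
private noncomputable def _root_.Cfsg.Agent.LsF.fef2254_9 : {f // @Cfsg.Agent.H74.E83.Code.okT = f} := ⟨_, by first | (delta Cfsg.Agent.H74.E83.Code.okT; rewrite [Cfsg.Agent.LsF.fef2254_0.2, Cfsg.Agent.LsF.fef2254_1.2, Cfsg.Agent.LsF.fef2254_2.2, Cfsg.Agent.LsF.fef2254_4.2, Cfsg.Agent.LsF.fef2254_8.2, Cfsg.Agent.LsF.and_eq, Cfsg.Agent.LsF.all_eq]; exact rfl) | exact rfl⟩
theorem TX_ok : okT Cfsg.Lie.chevE8 TX = true := by ((try (rewrite [Cfsg.Agent.LsF.fef2254_9.2])); decide +kernel)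

end Cfsg.Agent.H74.E83
end

-- part: H74/E83/Elim
section
/-!
# Elimination over `ZMod 3` on packed rows (helper74)

`elim rs cs` : Gaussian elimination on the rows `rs` with pivots in the columns `cs`; `elim_sound` : if it succeeds, a vector
killed by all the rows is zero in the columns `cs` (the rows being zero outside `cs`).
-/

set_option autoImplicit false
set_option exponentiation.threshold 600

namespace Cfsg.Agent.H74.E83.Elim

open Cfsg.Lie Cfsg.Agent.H74.E83.Trit Cfsg.Agent.H74.E83.Code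
open Cfsg.Agent.H751.Two.Word (sz pos posOK)
open Cfsg.Agent.H751.Two.Bits (PosOK)

/-- bit `c` -/
def bt (w c : ℕ) : ℕ := Nat.land (Nat.shiftRight w c) 1

theorem bt_eq (w c : ℕ) : (Nat.beq (bt w c) 1) = w.testBit c := by
  unfold bt
  rw [land_def, shr_def, Nat.and_one_is_mod]
  rcases h : w.testBit c with _ | _
  · rw [Nat.testBit_eq_decide_div_mod_eq, decide_eq_false_iff_not] at h
    rw [Nat.shiftRight_eq_div_pow]
    have : w / 2 ^ c % 2 = 0 := by omega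
    rw [this]; rfl
  · rw [Nat.testBit_eq_decide_div_mod_eq, decide_eq_true_iff] at h
    rw [Nat.shiftRight_eq_div_pow, h]; rfl

/-- coefficient `1` in column `c` (if it is `-1`: the negative row) -/
def nrm (r c : ℕ) : ℕ := bif Nat.beq (bt r c) 1 then r else tneg r

/-- clear column `c` of `s` with the row `r` (coefficient 1) -/
def red (r c s : ℕ) : ℕ := bif Nat.beq (bt s c) 1 then tsub s r else bif Nat.beq (bt s (256 + c)) 1 then tadd s r else s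

/-- elimination -/
def elim : List ℕ → List ℕ → Bool
  | [], [] => true
  | r :: rs, c :: cs => Nat.beq (bt (nrm r c) c) 1 && elim (rs.map (red (nrm r c) c)) cs
  | _, _ => false

section

variable {D : ChevalleyDatum}

/-- the value of a packed functional -/
def dotp (w : ℕ) (v : D.Idx → ZMod 3) : ZMod 3 := ∑ j, val w (pos D j) * v j

/-- a valid functional which kills `v` -/
def Ann (v : D.Idx → ZMod 3) (w : ℕ) : Prop := Vld w ∧ dotp w v = 0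

variable (hs : sz D ≤ 256) {v : D.Idx → ZMod 3}

include hs

theorem pos_lt (j : D.Idx) : pos D j < 256 := ((posOK D).lt j).trans_le hs

theorem Ann.neg {w : ℕ} (h : Ann v w) : Ann v (tneg w) := by
  refine ⟨vld_neg h.1, ?_⟩
  have h2 := h.2
  unfold dotp at h2 ⊢
  rw [Finset.sum_congr rfl fun j _ => by rw [val_neg h.1 (pos_lt hs j), neg_mul], Finset.sum_neg_distrib, h2, neg_zero]

theorem Ann.add {a b : ℕ} (ha : Ann v a) (hb : Ann v b) : Ann v (tadd a b) := by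
  refine ⟨vld_add ha.1 hb.1, ?_⟩
  have h1 := ha.2
  have h2 := hb.2
  unfold dotp at h1 h2 ⊢
  rw [Finset.sum_congr rfl fun j _ => by rw [val_add ha.1 hb.1 (pos_lt hs j), add_mul], Finset.sum_add_distrib, h1, h2,
    add_zero]

theorem Ann.sub {a b : ℕ} (ha : Ann v a) (hb : Ann v b) : Ann v (tsub a b) := by
  rw [tsub_eq hb.1.lt]; exact ha.add hs (hb.neg hs)

omit hs in
theorem tz_one {w c : ℕ} (h : Vld w) (hc : c < 256) (h1 : w.testBit c = true) : val w c = 1 := by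
  unfold val
  have h2 := h.ok c hc
  rw [h1, Bool.true_and] at h2
  rw [h1, h2]; rfl

theorem nrm_ann {r c : ℕ} (h : Ann v r) : Ann v (nrm r c) := by
  unfold nrm
  cases Nat.beq (bt r c) 1
  · exact h.neg hs
  · exact h

theorem nrm_zero {r c : ℕ} (h : Ann v r) {j : D.Idx} (hj : val r (pos D j) = 0) : val (nrm r c) (pos D j) = 0 := by
  unfold nrm
  cases Nat.beq (bt r c) 1
  · rw [cond_false, val_neg h.1 (pos_lt hs j), hj, neg_zero]
  · rw [cond_true, hj]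

theorem red_ann {r c s : ℕ} (hr : Ann v r) (h : Ann v s) : Ann v (red r c s) := by
  unfold red
  cases Nat.beq (bt s c) 1
  · rw [cond_false]
    cases Nat.beq (bt s (256 + c)) 1
    · exact h
    · exact h.add hs hr
  · exact h.sub hs hr

theorem red_zero {r c s : ℕ} (hr : Ann v r) (h : Ann v s) {j : D.Idx} (hj : val r (pos D j) = 0)
    (hj' : val s (pos D j) = 0) : val (red r c s) (pos D j) = 0 := by
  unfold red
  cases Nat.beq (bt s c) 1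
  · rw [cond_false]
    cases Nat.beq (bt s (256 + c)) 1
    · exact hj'
    · rw [cond_true, val_add h.1 hr.1 (pos_lt hs j), hj, hj', add_zero]
  · rw [cond_true, val_sub h.1 hr.1 (pos_lt hs j), hj, hj', sub_zero]

omit hs in
theorem red_piv {r c s : ℕ} (hr : Ann v r) (h : Ann v s) (hc : c < 256) (h1 : val r c = 1) : val (red r c s) c = 0 := by
  unfold red
  rw [bt_eq, bt_eq]
  rcases h2 : s.testBit c with _ | _
  · rw [cond_false]
    rcases h3 : s.testBit (256 + c) with _ | _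
    · rw [cond_false]; unfold val; rw [h2, h3]; rfl
    · rw [cond_true, val_add h.1 hr.1 hc, h1]
      unfold val; rw [h2, h3]; decide
  · rw [cond_true, val_sub h.1 hr.1 hc, h1, tz_one h.1 hc h2, sub_self]

theorem elim_sound : ∀ (cs rs : List ℕ), elim rs cs = true → (∀ w ∈ rs, Ann v w) →
    (∀ w ∈ rs, ∀ j : D.Idx, pos D j ∉ cs → val w (pos D j) = 0) → ∀ j : D.Idx, pos D j ∈ cs → v j = 0
  | [], _, _, _, _ => fun j hj => absurd hj List.not_mem_nil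
  | c :: cs, [], h, _, _ => by exact absurd h (by simp [elim])
  | c :: cs, r :: rs, h, hA, hZ => by
    unfold elim at h
    rw [Bool.and_eq_true, bt_eq] at h
    obtain ⟨h1, h2⟩ := h
    have hr : Ann v r := hA r List.mem_cons_self
    have hr' : Ann v (nrm r c) := nrm_ann hs hr
    have hrs : ∀ w ∈ rs, Ann v w := fun w hw => hA w (List.mem_cons_of_mem _ hw)
    have ih := elim_sound cs (rs.map (red (nrm r c) c)) h2 (by
      intro w hw
      obtain ⟨s, hs', rfl⟩ := List.mem_map.1 hw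
      exact red_ann hs hr' (hrs s hs')) (by
      intro w hw j hj
      obtain ⟨s, hs', rfl⟩ := List.mem_map.1 hw
      by_cases h3 : pos D j = c
      · rw [h3]
        have hc : c < 256 := by rw [← h3]; exact pos_lt hs j
        exact red_piv hr' (hrs s hs') hc (tz_one hr'.1 hc h1)
      · have h4 : pos D j ∉ c :: cs := fun h5 => (List.mem_cons.1 h5).elim h3 hj
        exact red_zero hs hr' (hrs s hs') (nrm_zero hs hr (hZ r List.mem_cons_self j h4))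
          (hZ s (List.mem_cons_of_mem _ hs') j h4))
    intro j hj
    rcases List.mem_cons.1 hj with h3 | h3
    · have hc : c < 256 := by rw [← h3]; exact pos_lt hs j
      have h4 := hr'.2
      unfold dotp at h4
      rw [Finset.sum_eq_single j] at h4
      · rw [h3, tz_one hr'.1 hc h1, one_mul] at h4
        exact h4
      · intro i _ hi
        by_cases h5 : pos D i ∈ cs
        · rw [ih i h5, mul_zero]
        · have h6 : pos D i ∉ c :: cs := fun h7 => (List.mem_cons.1 h7).elim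
            (fun h8 => hi ((posOK D).inj (h8.trans h3.symm))) h5
          rw [nrm_zero hs hr (hZ r List.mem_cons_self i h6), zero_mul]
      · intro h5
        exact absurd (Finset.mem_univ _) h5
    · exact ih j h3

/-- row `i` of `M - 1` -/
def fixRow (V i : ℕ) : ℕ := tsub (row V i) (tun i)

theorem ann_fixRow {V : ℕ} (hV : VldM V) (hv : (semM D V).mulVec v = v) {i : ℕ} (hi : i < sz D) : Ann v (fixRow V i) := by
  obtain ⟨k, rfl⟩ := (posOK D).surj i hi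
  have hk : pos D k < 256 := pos_lt hs k
  refine ⟨vld_sub (hV _) (vld_un hk), ?_⟩
  unfold dotp fixRow
  have h1 := congrFun hv k
  rw [Matrix.mulVec, dotProduct] at h1
  rw [Finset.sum_congr rfl fun j _ => by rw [val_sub (hV _) (vld_un hk) (pos_lt hs j), sub_mul], Finset.sum_sub_distrib]
  have h2 : ∑ j, val (tun (pos D k)) (pos D j) * v j = v k := by
    rw [Finset.sum_eq_single k]
    · rw [val_un hk, if_pos rfl, one_mul]
    · intro j _ hj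
      rw [val_un hk, if_neg (fun h => hj ((posOK D).inj h)), zero_mul]
    · intro h5
      exact absurd (Finset.mem_univ _) h5
  rw [h2, sub_eq_zero]
  exact h1

end

end Cfsg.Agent.H74.E83.Elim
end

-- part: H74/E83/NoFixDat
section
/-!
# Data for "no fixed vector" (helper74, S5925, box J)
-/

set_option autoImplicit false
set_option maxRecDepth 100000

namespace Cfsg.Agent.H74.E83

open Cfsg.Agent.H74.E83.Code Cfsg.Agent.H74.E83.Elim


/-- the word of `x` in the root elements `x_r(1)` -/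
def wX : List ℕ :=
  (beta% delta% lq26a1341ae9 fun _ _ _ _ f _ _ i _ _ _ _ _ _ _ =>
 (f 121<|f 121<|f 236<|f 123<|f 114<|f 114<|f 120<|f 2<|f 238<|f 1<|f 3<|f 3<|f 109<|f 169<|f 98<|f 98<|f 147<|f 104<|f 104<|f 75<|f 75<|f 163<|f 76<|f 70<|f 70<|i))

/-- the matrix of `x` -/
def mX : ℕ := wc TX wX (idM 248)

/-- the word of `y` in the root elements `x_r(1)` -/
def wY : List ℕ :=
  (beta% delta% lq26a1341ae9 fun _ _ _ _ f _ _ i _ _ _ _ _ _ _ =>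
 (f 124<|f 120<|f 120<|f 122<|f 122<|f 117<|f 2<|f 2<|f 121<|f 125<|f 116<|f 116<|f 97<|f 97<|f 104<|f 103<|f 103<|f 136<|f 75<|f 109<|f 109<|f 92<|f 92<|f 141<|i))

/-- the matrix of `y` -/
def mY : ℕ := wc TX wY (idM 248)

/-- the word of `t` in the root elements `x_r(1)` -/
def wT : List ℕ :=
  (beta% delta% lq26a1341ae9 fun _ _ _ _ f _ _ i _ _ _ _ _ _ _ =>
 (f 120<|f 120<|f 114<|f 114<|f 117<|f 0<|f 0<|f 120<|f 120<|f 122<|f 117<|f 122<|f 104<|f 147<|f 136<|f 77<|f 104<|f 103<|f 136<|f 103<|i))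

/-- the matrix of `t` -/
def mT : ℕ := wc TX wT (idM 248)

/-- rows (matrix, index) -/
def selL : List (ℕ × ℕ) :=
  (beta% delta% lq26a1341ae9 fun a _ _ _ f g _ i _ _ _ _ _ _ _ =>
 (let c:=(let c:=(let c:=(let c:=(let c:=(let c:=(g (a 2 108)<|g (a 1 102)<|g (a 0 61)<|g (a 0 75)<|i);
 (g (a 1 60)<|g (a 2 75)<|g (a 1 61)<|g (a 2 61)<|c));
 (let c:=(g (a 0 70)<|g (a 0 231)<|g (a 1 98)<|g (a 0
 107)<|c);
 (g (a 0 101)<|g (a 0 241)<|g (a 0 74)<|g (a 0 233)<|c)));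
 (let c:=(let c:=(g (a 1 76)<|g (a 0 243)<|g (a 1 62)<|g (a 0 113)<|c);
 (g (a 0 203)<|g (a 0 242)<|g (a 0 240)<|g (a 2
 79)<|c));
 (g (a 1 26)<|g (a 0 25)<|g (a 1 18)<|g (a 1 44)<|g (a 0 21)<|g (a 0 33)<|g (a 0 47)<|c)));
 (let c:=(let c:=(let c:=(g (a 2 45)<|g (a 0 20)<|
 g (a 2 19)<|g (a 1 37)<|c);
 (g (a 1 30)<|g (a 1 27)<|g (a 1 46)<|g (a 1 31)<|c));
 (let c:=(g (a 1 202)<|g (a 2 164)<|g (a 1 207)<|g (a 1 197)<|c);
 (g (a 1 187)<|g (a 2 31)<|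
 g (a 2 190)<|g (a 1 206)<|c)));
 (let c:=(let c:=(g (a 1 196)<|g (a 1 205)<|g (a 1 215)<|g (a 1 167)<|c);
 (g (a 1 20)<|g (a 2 166)<|g (a 1 199)<|g (a 2 214)<|c));
 (g (a 0 152)<|g (a 1 152)<|g (a 1 163)<|g (a 0 139)<|g (a 1 139)<|g (a 1
 165)<|g (a 1 169)<|c))));
 (let c:=(let c:=(let c:=(let c:=(g (a 1 134)<|g (a 2 140)<|g (a 0 184)<|g (a 0 162)<|c);
 (g (a 1 148)<|g (a 1 145)<|
 g (a 1 12)<|g (a 1 16)<|c));
 (let c:=(g (a 0 29)<|g (a 0 192)<|g (a 0 193)<|g (a 0 195)<|c);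
 (g (a 0 194)<|g (a 1 146)<|g (a 2 162)<|g (a 2 145)<|c)));
 (let c:=(let c:=(g (a 2 47)<|g (a 2 15)<|g (a 2
 14)<|g (a 1 200)<|c);
 (g (a 1 58)<|g (a 1 67)<|g (a 2 21)<|g (a 1 103)<|c));
 (g (a 1 225)<|
 g (a 2 68)<|g (a 0 67)<|g (a 0 230)<|g (a 2 57)<|g (a 0 222)<|g (a 0 54)<|c)));
 (let c:=(let c:=(let c:=(g (a 1 221)<|g (a 1 224)<|g (a 0 64)<|g (a 1 223)<|c);
 (g (a 0 237)<|g (a 0 88)<|g (a 1 229)<|g (a 0 91)<|c));
 (let c:=(g (a 2 48)<|
 g (a 0 236)<|g (a 0 235)<|g (a 1 210)<|c);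
 (g (a 2 38)<|g (a 0 87)<|g (a 0 86)<|g (a 0 89)<|c)));
 (let c:=(let c:=(g (a 2 196)<|g (a 2 65)<|g (a 0 227)<|g (a 1 120)<|c);
 (g (a 2 159)<|
 g (a 1 147)<|g (a 2 151)<|g (a 2 157)<|c));
 (g (a 2 187)<|g (a 2 59)<|g (a 1 81)<|g (a 2 203)<|g (a 1 109)<|g (a 1 189)<|g (a 2 70)<|c)))));
 (let c:=(let c:=(let c:=(let c:=(let c:=(g (a 1 24)<|g (a 1 192)<|g (a 1 181)<|g (a 2 183)<|c);
 (g (a 1 174)<|g (a 1 183)<|g (a 1 178)<|g (a 2 29)<|
 c));
 (let c:=(g (a 0 78)<|g (a 0 0)<|g (a 0 106)<|g (a 2 102)<|c);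
 (g (a 1 1)<|g (a 1 155)<|g (a 1 150)<|g (a 1 143)<|c)));
 (let c:=(let c:=(g (a 0 234)<|g (a 2 219)<|g (a 2 84)<|g (a 0 144)<|
 c);
 (g (a 0 128)<|g (a 0 4)<|g (a 0 6)<|g (a 1 123)<|c));
 (g (a 2 224)<|g (a 2 121)<|g (a 1
 7)<|g (a 0 8)<|g (a 0 246)<|g (a 0 129)<|g (a 0 124)<|c)));
 (let c:=(let c:=(let c:=(g (a 2 81)<|g (a 0 177)<|g (a 0 245)<|g (a 2 93)<|c);
 (g (a 2 27)<|g (a 2 98)<|g (a 1 179)<|g (a 2 192)<|c));
 (let c:=(g (a 2 49)<|g (a 2 198)<|g (a 2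
 77)<|g (a 1 23)<|c);
 (g (a 1 130)<|g (a 2 215)<|g (a 2 33)<|g (a 2 194)<|c)));
 (let c:=(let c:=(g (a 2 208)<|g (a 1 111)<|g (a 1 149)<|g (a 1 124)<|c);
 (g (a 1 180)<|g (a 2 147)<|g (a 1
 10)<|g (a 1 83)<|c));
 (g (a 2 169)<|g (a 2 217)<|g (a 2 40)<|g (a 2 127)<|g (a 2 143)<|g (a 2 230)<|g (a 2 178)<|c))));
 (let c:=(let c:=(let c:=(let c:=(g (a 2 23)<|g (a 1 220)<|
 g (a 2 153)<|g (a 2 167)<|c);
 (g (a 2 12)<|g (a 2 134)<|g (a 2 110)<|g (a 2 41)<|c));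
 (let c:=(g (a 2 149)<|g (a 1 129)<|g (a 2 10)<|g (a 2 124)<|c);
 (g (a 2 63)<|g (a 2 174)<|
 g (a 1 117)<|g (a 2 83)<|c)));
 (let c:=(let c:=(g (a 2 131)<|g (a 2 62)<|g (a 2 109)<|g (a 2 22)<|c);
 (g (a 1 90)<|g (a 2 1)<|g (a 2 106)<|g (a 2 11)<|c));
 (g (a 2 241)<|g (a 1 239)<|g (a 1 87)<|g (a 2 232)<|g (a 1
 232)<|g (a 1 91)<|g (a 2 88)<|c)));
 (let c:=(let c:=(let c:=(g (a 1 231)<|g (a 1 238)<|g (a 2 89)<|g (a 1 234)<|c);
 (g (a 1 236)<|
 g (a 1 242)<|g (a 2 234)<|g (a 1 233)<|c));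
 (let c:=(g (a 2 245)<|g (a 2 172)<|g (a 1 172)<|g (a 1 245)<|c);
 (g (a 2 210)<|g (a 2 231)<|g (a 2 236)<|g (a 2 240)<|c)));
 (let c:=(let c:=(g (a 2 129)<|g (a 2
 135)<|g (a 2 179)<|g (a 2 189)<|c);
 (g (a 2 73)<|g (a 2 91)<|g (a 2 104)<|g (a 2 111)<|c));
 (f (a 1 4)<|f (a 1 171)<|f (a 1 177)<|f (a 1 246)<|f (a 2 32)<|f (a 2 43)<|f (a 2 51)<|c)))))))

/-- pivot columns -/
def colL : List ℕ :=
  (beta% delta% lq26a1341ae9 fun _ _ _ _ f _ h i _ _ _ _ _ _ _ =>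
 (let c:=(let c:=(let c:=(let c:=(let c:=(let c:=(h 108<|h 114<|h 119<|h 80<|i);
 (h 71<|h 97<|h 61<|h 75<|c));
 (let c:=(h 118<|h 82<|h 92<|h 103<|c);
 (h 101<|h 99<|h 120<|h 115<|c)));
 (let c:=(let c:=(h 79<|
 h 121<|h 74<|h 113<|c);
 (h 25<|h 76<|h 77<|h 60<|c));
 (h 26<|h 19<|h 35<|h 36<|h 31<|h 203<|h 45<|c)));
 (let c:=(let c:=(let c:=(h 28<|h 37<|h 21<|h 204<|c);
 (h 44<|h 34<|h 30<|h 47<|c));
 (let c:=(h 186<|h 168<|h 196<|h 212<|c);
 (h 202<|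
 h 27<|h 190<|h 206<|c)));
 (let c:=(let c:=(h 188<|h 205<|h 197<|h 191<|c);
 (h 18<|h 166<|h 214<|h 213<|c));
 (h 141<|h 159<|h 161<|h 142<|h 139<|h 164<|h 165<|c))));
 (let c:=(let c:=(let c:=(let c:=(h 160<|h 140<|h 13<|h 163<|c);
 (h 152<|h 184<|h 17<|h 157<|c));
 (let c:=(h 158<|h 181<|h 146<|h 148<|
 c);
 (h 16<|h 156<|h 162<|h 145<|c)));
 (let c:=(let c:=(h 46<|h 15<|h 14<|h 216<|c);
 (h 54<|h 56<|h 20<|h 107<|c));
 (h 223<|h 65<|h 64<|h 66<|h 57<|h 55<|h 58<|c)));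
 (let c:=(let c:=(let c:=(h 228<|
 h 227<|h 68<|h 225<|c);
 (h 49<|h 209<|h 229<|h 38<|c));
 (let c:=(h 52<|h 50<|h 211<|h 222<|c);
 (h 42<|h 48<|h 219<|h 39<|c)));
 (let c:=(let c:=(h 200<|h 69<|h 67<|h 96<|c);
 (h 137<|h 151<|h 154<|h 135<|c));
 (h 187<|h 59<|h 81<|
 h 207<|h 109<|h 189<|h 70<|c)))));
 (let c:=(let c:=(let c:=(let c:=(let c:=(h 24<|h 182<|h 147<|h 179<|c);
 (h 185<|h 183<|h 193<|h 22<|c));
 (let c:=(h 84<|h 0<|h 1<|h 102<|c);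
 (h 150<|h 106<|h 138<|h 112<|c)));
 (let c:=(let c:=(h 51<|h 218<|h 78<|h 2<|c);
 (h 6<|h 4<|h 7<|h 128<|c));
 (h 224<|h 116<|h 126<|h 5<|h 131<|h 9<|h 123<|
 c)));
 (let c:=(let c:=(let c:=(h 62<|h 3<|h 11<|h 93<|c);
 (h 33<|h 98<|h 195<|h 173<|c));
 (let c:=(h 53<|h 198<|h 73<|h 29<|c);
 (h 124<|h 215<|h 32<|h 194<|c)));
 (let c:=(let c:=(h 208<|
 h 144<|h 149<|h 125<|c);
 (h 192<|h 175<|h 8<|h 85<|c));
 (h 169<|h 217<|h 40<|h 127<|h 143<|h 230<|h 178<|c))));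
 (let c:=(let c:=(let c:=(let c:=(h 23<|h 220<|h 153<|h 167<|c);
 (h 12<|h 134<|h 110<|h 41<|c));
 (let c:=(h 111<|h 122<|h 130<|h 10<|c);
 (h 63<|h 174<|h 155<|
 h 83<|c)));
 (let c:=(let c:=(h 132<|h 72<|h 94<|h 176<|c);
 (h 90<|h 100<|h 105<|h 133<|c));
 (h 241<|h 239<|h 86<|h 231<|h 226<|h 87<|h 88<|c)));
 (let c:=(let c:=(let c:=(h 233<|h 242<|h 89<|h 235<|c);
 (h 234<|
 h 243<|h 237<|h 232<|c));
 (let c:=(h 246<|h 171<|h 170<|h 247<|c);
 (h 210<|h 238<|h 236<|h 240<|c)));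
 (let c:=(let c:=(h 129<|h 136<|h 180<|h 199<|c);
 (h 95<|h 91<|h 104<|h 117<|c));
 (f 245<|f 177<|f 172<|f 244<|f 201<|f 43<|f 221<|c)))))))

/-- the selected row of `M - 1` -/
def selR (e : ℕ × ℕ) : ℕ :=
  match e.1 with
  | 0 => fixRow mX e.2
  | 1 => fixRow mY e.2
  | _ => fixRow mT e.2

private noncomputable def _root_.Cfsg.Agent.LsF.fef2254_10 : {f // @Cfsg.Agent.H74.E83.Trit.tneg = f} := ⟨_, by first | (delta Cfsg.Agent.H74.E83.Trit.tneg; rewrite [Cfsg.Agent.LsF.nsub_pat, Cfsg.Agent.LsF.npow_pat]; exact rfl) | exact rfl⟩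
private noncomputable def _root_.Cfsg.Agent.LsF.fef2254_11 : {f // @Cfsg.Agent.H74.E83.Elim.nrm = f} := ⟨_, by first | (delta Cfsg.Agent.H74.E83.Elim.nrm; rewrite [Cfsg.Agent.LsF.fef2254_10.2, Cfsg.Agent.LsF.cond_eq]; exact rfl) | exact rfl⟩
private noncomputable def _root_.Cfsg.Agent.LsF.fef2254_12 : {f // @Cfsg.Agent.H74.E83.Trit.tt = f} := ⟨_, by first | (delta Cfsg.Agent.H74.E83.Trit.tt; rewrite [Cfsg.Agent.LsF.nsub_pat, Cfsg.Agent.LsF.npow_pat]; exact rfl) | exact rfl⟩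
private noncomputable def _root_.Cfsg.Agent.LsF.fef2254_13 : {f // @Cfsg.Agent.H74.E83.Trit.tsub = f} := ⟨_, by first | (delta Cfsg.Agent.H74.E83.Trit.tsub; rewrite [Cfsg.Agent.LsF.fef2254_10.2, Cfsg.Agent.LsF.fef2254_12.2]; exact rfl) | exact rfl⟩
private noncomputable def _root_.Cfsg.Agent.LsF.fef2254_14 : {f // @Cfsg.Agent.H74.E83.Trit.tadd = f} := ⟨_, by first | (delta Cfsg.Agent.H74.E83.Trit.tadd; rewrite [Cfsg.Agent.LsF.fef2254_10.2, Cfsg.Agent.LsF.fef2254_12.2]; exact rfl) | exact rfl⟩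
private noncomputable def _root_.Cfsg.Agent.LsF.fef2254_15 : {f // @Cfsg.Agent.H74.E83.Elim.red = f} := ⟨_, by first | (delta Cfsg.Agent.H74.E83.Elim.red; rewrite [Cfsg.Agent.LsF.fef2254_13.2, Cfsg.Agent.LsF.fef2254_14.2, Cfsg.Agent.LsF.nadd_pat, Cfsg.Agent.LsF.cond_eq]; exact rfl) | exact rfl⟩
private noncomputable def _root_.Cfsg.Agent.LsF.fef2254_16 : {f // @Cfsg.Agent.H74.E83.Elim.elim = f} := ⟨_, by first | (delta Cfsg.Agent.H74.E83.Elim.elim List.brecOn List.brecOn.go Cfsg.Agent.H74.E83.Elim.elim._f; rewrite [Cfsg.Agent.LsF.fef2254_11.2, Cfsg.Agent.LsF.fef2254_15.2, Cfsg.Agent.LsF.and_eq, Cfsg.Agent.LsF.map_eq]; (try delta Cfsg.Agent.H74.E83.Elim.elim.match_1); (try delta Cfsg.Agent.H74.E83.Code.beqT._sparseCasesOn_1); (try delta Cfsg.Agent.H74.E83.Code.beqT._sparseCasesOn_2); (try delta List.casesOn); first | dsimp -zeta only | exact rfl) | exact rfl⟩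
private noncomputable def _root_.Cfsg.Agent.LsF.fef2254_17 : {f // @Cfsg.Agent.H74.E83.Code.row = f} := ⟨_, by first | (delta Cfsg.Agent.H74.E83.Code.row; rewrite [Cfsg.Agent.LsF.nsub_pat, Cfsg.Agent.LsF.npow_pat]; exact rfl) | exact rfl⟩
private noncomputable def _root_.Cfsg.Agent.LsF.fef2254_18 : {f // @Cfsg.Agent.H74.E83.Elim.fixRow = f} := ⟨_, by first | (delta Cfsg.Agent.H74.E83.Elim.fixRow; rewrite [Cfsg.Agent.LsF.fef2254_13.2, Cfsg.Agent.LsF.fef2254_17.2]; exact rfl) | exact rfl⟩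
private noncomputable def _root_.Cfsg.Agent.LsF.fef2254_19 : {f // @Cfsg.Agent.H74.E83.Code.put = f} := ⟨_, by first | (delta Cfsg.Agent.H74.E83.Code.put; rewrite [Cfsg.Agent.LsF.fef2254_17.2]; exact rfl) | exact rfl⟩
private noncomputable def _root_.Cfsg.Agent.LsF.fef2254_20 : {f // @Cfsg.Agent.H74.E83.Code.stepE = f} := ⟨_, by first | (delta Cfsg.Agent.H74.E83.Code.stepE; rewrite [Cfsg.Agent.LsF.fef2254_19.2, Cfsg.Agent.LsF.fef2254_13.2, Cfsg.Agent.LsF.fef2254_17.2, Cfsg.Agent.LsF.fef2254_14.2, Cfsg.Agent.LsF.cond_eq]; exact rfl) | exact rfl⟩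
private noncomputable def _root_.Cfsg.Agent.LsF.fef2254_21 : {f // @Cfsg.Agent.H74.E83.Code.mulS = f} := ⟨_, by first | (delta Cfsg.Agent.H74.E83.Code.mulS; rewrite [Cfsg.Agent.LsF.fef2254_20.2, Cfsg.Agent.LsF.foldr_eq]; (try delta Cfsg.Agent.H74.E83.Code.mulS.match_1); (try rewrite [Cfsg.Agent.LsF.instDecEq_eq, Cfsg.Agent.LsF.dite_eq]); exact rfl) | exact rfl⟩
private noncomputable def _root_.Cfsg.Agent.LsF.fef2254_22 : {f // @Cfsg.Agent.H74.E83.Code.look = f} := ⟨_, by first | (delta Cfsg.Agent.H74.E83.Code.look List.brecOn List.brecOn.go Cfsg.Agent.H74.E83.Code.look._f; rewrite [Cfsg.Agent.LsF.cond_eq]; (try delta Cfsg.Agent.H74.E83.Code.look.match_1); (try delta List.casesOn); first | dsimp -zeta only | exact rfl) | exact rfl⟩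
private noncomputable def _root_.Cfsg.Agent.LsF.fef2254_23 : {f // @Cfsg.Agent.H74.E83.Code.mulX = f} := ⟨_, by first | (delta Cfsg.Agent.H74.E83.Code.mulX; rewrite [Cfsg.Agent.LsF.fef2254_21.2, Cfsg.Agent.LsF.fef2254_22.2]; exact rfl) | exact rfl⟩
private noncomputable def _root_.Cfsg.Agent.LsF.fef2254_24 : {f // @Cfsg.Agent.H74.E83.Code.wc = f} := ⟨_, by first | (delta Cfsg.Agent.H74.E83.Code.wc; rewrite [Cfsg.Agent.LsF.fef2254_23.2, Cfsg.Agent.LsF.foldr_eq]; exact rfl) | exact rfl⟩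
private noncomputable def _root_.Cfsg.Agent.LsF.fef2254_25 : {f // @Cfsg.Agent.H74.E83.Code.idM = f} := ⟨_, by first | (delta Cfsg.Agent.H74.E83.Code.idM; rewrite [Cfsg.Agent.LsF.fef2254_19.2, Cfsg.Agent.LsF.foldr_eq, Cfsg.Agent.LsF.range_eq]; exact rfl) | exact rfl⟩
private noncomputable def _root_.Cfsg.Agent.LsF.fef2254_26 : {f // @Cfsg.Agent.H74.E83.mX = f} := ⟨_, by first | (delta Cfsg.Agent.H74.E83.mX; rewrite [Cfsg.Agent.LsF.fef2254_24.2, Cfsg.Agent.LsF.fef2254_25.2]; exact rfl) | exact rfl⟩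
private noncomputable def _root_.Cfsg.Agent.LsF.fef2254_27 : {f // @Cfsg.Agent.H74.E83.mY = f} := ⟨_, by first | (delta Cfsg.Agent.H74.E83.mY; rewrite [Cfsg.Agent.LsF.fef2254_24.2, Cfsg.Agent.LsF.fef2254_25.2]; exact rfl) | exact rfl⟩
private noncomputable def _root_.Cfsg.Agent.LsF.fef2254_28 : {f // @Cfsg.Agent.H74.E83.mT = f} := ⟨_, by first | (delta Cfsg.Agent.H74.E83.mT; rewrite [Cfsg.Agent.LsF.fef2254_24.2, Cfsg.Agent.LsF.fef2254_25.2]; exact rfl) | exact rfl⟩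
private noncomputable def _root_.Cfsg.Agent.LsF.fef2254_29 : {f // @Cfsg.Agent.H74.E83.selR = f} := ⟨_, by first | (delta Cfsg.Agent.H74.E83.selR; rewrite [Cfsg.Agent.LsF.fef2254_18.2, Cfsg.Agent.LsF.fef2254_26.2, Cfsg.Agent.LsF.fef2254_27.2, Cfsg.Agent.LsF.fef2254_28.2]; (try delta Cfsg.Agent.H74.E83.Code.norm1.match_1); (try rewrite [Cfsg.Agent.LsF.instDecEq_eq, Cfsg.Agent.LsF.dite_eq]); exact rfl) | exact rfl⟩
theorem elim_ok : elim (selL.map selR) colL = true := by ((try (rewrite [Cfsg.Agent.LsF.fef2254_16.2, Cfsg.Agent.LsF.fef2254_29.2, Cfsg.Agent.LsF.map_eq])); decide +kernel)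

end Cfsg.Agent.H74.E83
end

-- part: H74/E83/Trip
section
/-!
# The explicit triple in `E₈(3)` (helper74, S5925, box J)

* `ph : SL₅(3) →* E₈(3)`, `ph A = ph2 A * ph1 (A⁻ᵀ)`; `coe_ph` : the matrix of `ph (ev w)` is that of a word in the root
  elements, hence `semM chevE8 (wc TX …)`;
* `x1 y1 t1 fa1 fb1 s1` : the images of `Ax Ay At Afa Afb As`, with their relations;
* `noFix` : no non-zero vector of `chevE8.Idx → ZMod 3` is fixed by `x1`, `y1` and `t1`.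
-/

set_option autoImplicit false
set_option maxRecDepth 100000

namespace Cfsg.Agent.H74.E83.Trip

open Cfsg.Lie Cfsg.Agent.ChevalleyStructure.Elts
open Cfsg.Agent.H992.E8X
open Cfsg.Agent.H238.E8
open Cfsg.Agent.H788.E83
open Cfsg.Agent.H74.E83 Cfsg.Agent.H74.E83.Trit Cfsg.Agent.H74.E83.Code Cfsg.Agent.H74.E83.Elim
open Cfsg.Agent.H751.Two.Word (sz pos posOK)
open Cfsg.Agent.H751.Two.Code (wG wg wG_nil wG_cons wG_append wG_mem wg_nil wg_append)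

/-- the group `E₈(3)` -/
abbrev G3 : Type := ↥(chevE8.group (ZMod 3))

/-- the homomorphism -/
noncomputable def ph : SL5 →* G3 where
  toFun A := ph2 (ZMod 3) A * ph1 (ZMod 3) (it (ZMod 3) A)
  map_one' := by rw [map_one, map_one, map_one, one_mul]
  map_mul' A B := by
    rw [map_mul, map_mul, map_mul]
    have h := (ph_comm (K := ZMod 3) (it (ZMod 3) A) B).eq
    calc ph2 (ZMod 3) A * ph2 (ZMod 3) B * (ph1 (ZMod 3) (it (ZMod 3) A) * ph1 (ZMod 3) (it (ZMod 3) B))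
        = ph2 (ZMod 3) A * (ph2 (ZMod 3) B * ph1 (ZMod 3) (it (ZMod 3) A)) * ph1 (ZMod 3) (it (ZMod 3) B) := by
          simp only [mul_assoc]
      _ = _ := by rw [← h]; simp only [mul_assoc]

theorem ph_apply (A : SL5) : ph A = ph2 (ZMod 3) A * ph1 (ZMod 3) (it (ZMod 3) A) := rfl

/-! ### words -/

/-- the word of one letter -/
def pw (rt : Fin 5 → Fin 5 → ℕ) (sg : Fin 5 → Fin 5 → ℤ) (l : Lt) : List ℕ :=
  List.replicate (((sg l.1 l.2.1 : ZMod 3) * l.2.2).val) (rt l.1 l.2.1)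

/-- the word of a product -/
def pws (rt : Fin 5 → Fin 5 → ℕ) (sg : Fin 5 → Fin 5 → ℤ) (w : List Lt) : List ℕ := w.flatMap (pw rt sg)

/-- the word of `ph (ev w)` -/
def phw (w : List Lt) : List ℕ := pws rt2 sg2 w ++ pws rt1 sg1 (w.map trl)

theorem wG_replicate (n r : ℕ) : wG hE8 (ZMod 3) (List.replicate n r) = xG hE8 r (n : ZMod 3) := by
  induction n with
  | zero => rw [List.replicate_zero, wG_nil, Nat.cast_zero, xG_zero]
  | succ n ih => rw [List.replicate_succ, wG_cons, ih, xG_add, Nat.cast_succ, add_comm]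

/-- good letters -/
def gd (l : Lt) : Prop := l.1 ≠ l.2.1

instance : DecidablePred gd := fun l => inferInstanceAs (Decidable (l.1 ≠ l.2.1))

theorem wG_pw {rt : Fin 5 → Fin 5 → ℕ} {sg : Fin 5 → Fin 5 → ℤ}
    {φ : SL5 →* G3} (hφ : ∀ i j (hij : i ≠ j) (c : ZMod 3),
      φ (Matrix.SpecialLinearGroup.transvection hij c) = X (rt i j) ((sg i j : ZMod 3) * c)) {l : Lt} (hl : gd l) :
    (φ (tv l) : GL chevE8.Idx (ZMod 3)) = wG hE8 (ZMod 3) (pw rt sg l) := by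
  have hl' : l.1 ≠ l.2.1 := hl
  unfold tv pw
  rw [dif_pos hl', hφ, wG_replicate, coe_X, ZMod.natCast_zmod_val]

theorem wG_pws {rt : Fin 5 → Fin 5 → ℕ} {sg : Fin 5 → Fin 5 → ℤ}
    {φ : SL5 →* G3} (hφ : ∀ i j (hij : i ≠ j) (c : ZMod 3),
      φ (Matrix.SpecialLinearGroup.transvection hij c) = X (rt i j) ((sg i j : ZMod 3) * c)) {w : List Lt} (hw : ∀ l ∈ w, gd l) :
    (φ (ev w) : GL chevE8.Idx (ZMod 3)) = wG hE8 (ZMod 3) (pws rt sg w) := by
  induction w with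
  | nil => rw [ev_nil, map_one]; rfl
  | cons l w ih =>
    rw [ev_cons, map_mul, Subgroup.coe_mul, wG_pw hφ (hw l List.mem_cons_self),
      ih fun a ha => hw a (List.mem_cons_of_mem _ ha), ← wG_append]
    rfl

theorem coe_ph_wG {w : List Lt} (hw : ∀ l ∈ w, gd l) :
    (ph (ev w) : GL chevE8.Idx (ZMod 3)) = wG hE8 (ZMod 3) (phw w) := by
  have hw' : ∀ l ∈ w.map trl, gd l := by
    intro l hl
    obtain ⟨a, ha, rfl⟩ := List.mem_map.1 hl
    exact (hw a ha).symm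
  rw [ph_apply, Subgroup.coe_mul, it_ev, wG_pws (fun i j hij c => ph2_tv (ZMod 3) hij c) hw,
    wG_pws (fun i j hij c => ph1_tv (ZMod 3) hij c) hw', ← wG_append]
  rfl

theorem sz_le : sz chevE8 ≤ 256 := by decide +kernel

theorem sz_eq : sz chevE8 = 248 := by decide +kernel

/-- the matrix of `ph (ev w)` -/
theorem coe_ph {w : List Lt} (hw : ∀ l ∈ w, gd l) (h : okW TX (phw w) = true) :
    ((ph (ev w) : GL chevE8.Idx (ZMod 3)) : Matrix chevE8.Idx chevE8.Idx (ZMod 3)) =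
      semM chevE8 (wc TX (phw w) (idM 248)) := by
  rw [coe_ph_wG hw, coe_wG hE8 sz_le TX_ok h, sz_eq]

/-! ### the elements -/

/-- `x` -/
noncomputable def x1 : G3 := ph Ax
/-- `y` -/
noncomputable def y1 : G3 := ph Ay
/-- `t` -/
noncomputable def t1 : G3 := ph At
/-- `ŝ` -/
noncomputable def s1 : G3 := ph As

theorem coe_x1 : ((x1 : GL chevE8.Idx (ZMod 3)) : Matrix chevE8.Idx chevE8.Idx (ZMod 3)) = semM chevE8 mX :=
  coe_ph (w := wx) (by decide +kernel) (by decide +kernel)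

theorem coe_y1 : ((y1 : GL chevE8.Idx (ZMod 3)) : Matrix chevE8.Idx chevE8.Idx (ZMod 3)) = semM chevE8 mY :=
  coe_ph (w := wy) (by decide +kernel) (by decide +kernel)

theorem coe_t1 : ((t1 : GL chevE8.Idx (ZMod 3)) : Matrix chevE8.Idx chevE8.Idx (ZMod 3)) = semM chevE8 mT :=
  coe_ph (w := wt) (by decide +kernel) (by decide +kernel)

theorem vld_X : VldM mX := by
  have h := vldM_wc hE8 sz_le TX_ok (w := wX) (by decide +kernel)
  rw [sz_eq] at h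
  exact h

theorem vld_Y : VldM mY := by
  have h := vldM_wc hE8 sz_le TX_ok (w := wY) (by decide +kernel)
  rw [sz_eq] at h
  exact h

theorem vld_T : VldM mT := by
  have h := vldM_wc hE8 sz_le TX_ok (w := wT) (by decide +kernel)
  rw [sz_eq] at h
  exact h

/-! ### no fixed vector -/

theorem selL_lt : ∀ e ∈ selL, e.2 < 248 := by decide +kernel

private theorem mem_of_mask (l : List ℕ) (n : ℕ)
    (h : Nat.testBit (List.rec 0 (fun a _ ih => Nat.lor (Nat.shiftLeft 1 a) ih) l) n = true) : n ∈ l := by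
  induction l with
  | nil => exact absurd h (by rw [Nat.zero_testBit]; decide)
  | cons a l ih =>
    have h1 : Nat.testBit (1 <<< a ||| List.rec 0 (fun a _ ih => Nat.lor (Nat.shiftLeft 1 a) ih) l) n = true := h
    rw [Nat.testBit_or, Bool.or_eq_true, Nat.one_shiftLeft, Nat.testBit_two_pow] at h1
    exact h1.elim (fun e => of_decide_eq_true e ▸ List.mem_cons_self) fun e => List.mem_cons_of_mem _ (ih e)

theorem colL_all : ∀ n < 248, n ∈ colL := fun n h => mem_of_mask _ n (by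
  rw [show List.rec 0 (fun a _ ih => Nat.lor (Nat.shiftLeft 1 a) ih) colL = 2 ^ 248 - 1 from by decide +kernel,
    Nat.testBit_two_pow_sub_one]
  exact decide_eq_true h)

theorem noFix {v : chevE8.Idx → ZMod 3}
    (hx : ((x1 : GL chevE8.Idx (ZMod 3)) : Matrix chevE8.Idx chevE8.Idx (ZMod 3)).mulVec v = v)
    (hy : ((y1 : GL chevE8.Idx (ZMod 3)) : Matrix chevE8.Idx chevE8.Idx (ZMod 3)).mulVec v = v)
    (ht : ((t1 : GL chevE8.Idx (ZMod 3)) : Matrix chevE8.Idx chevE8.Idx (ZMod 3)).mulVec v = v) : v = 0 := by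
  rw [coe_x1] at hx
  rw [coe_y1] at hy
  rw [coe_t1] at ht
  have h248 : ∀ n, n < 248 → n < sz chevE8 := fun n hn => by rw [sz_eq]; exact hn
  have hA : ∀ w ∈ selL.map selR, Ann v w := by
    intro w hw
    obtain ⟨e, he, rfl⟩ := List.mem_map.1 hw
    have hlt := h248 _ (selL_lt e he)
    unfold selR
    split
    · exact ann_fixRow sz_le vld_X hx hlt
    · exact ann_fixRow sz_le vld_Y hy hlt
    · exact ann_fixRow sz_le vld_T ht hlt
  have hc : ∀ j : chevE8.Idx, pos chevE8 j ∈ colL := fun j => colL_all _ (by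
    have := (posOK chevE8).lt j
    rwa [sz_eq] at this)
  funext j
  exact elim_sound sz_le colL _ elim_ok hA (fun w _ j hj => absurd (hc j) hj) j (hc j)

/-! ### relations -/

theorem x1_pow : x1 ^ 11 = 1 := by unfold x1; rw [← map_pow, x_pow, map_one]

theorem y1_pow : y1 ^ 5 = 1 := by unfold y1; rw [← map_pow, y_pow, map_one]

theorem y1_x1 : y1 * x1 * y1⁻¹ = x1 ^ 3 := by
  unfold y1 x1; rw [← map_inv, ← map_mul, ← map_mul, y_x', map_pow]

theorem t1_y1 : t1 * y1 * t1 = y1⁻¹ := by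
  unfold y1 t1; rw [← map_mul, ← map_mul, t_y', map_inv]

theorem x1_t1 : (x1 * t1) ^ 3 = 1 := by
  unfold x1 t1; rw [← map_mul, ← map_pow, x_t, map_one]

/-! ### orders -/

theorem semM_ne_one {V a b : ℕ} (ha : a < 248) (hb : b < 248) (hab : a ≠ b) (h : val (row V a) b ≠ 0) :
    semM chevE8 V ≠ 1 := by
  intro h1
  obtain ⟨i, hi⟩ := (posOK chevE8).surj a (by rw [sz_eq]; exact ha)
  obtain ⟨j, hj⟩ := (posOK chevE8).surj b (by rw [sz_eq]; exact hb)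
  have h2 := congrFun (congrFun h1 i) j
  rw [semM_apply, hi, hj, Matrix.one_apply_ne (fun e => hab (by rw [← hi, ← hj, e]))] at h2
  exact h h2

theorem ne_one_of {g : G3} {V a b : ℕ}
    (hg : ((g : GL chevE8.Idx (ZMod 3)) : Matrix chevE8.Idx chevE8.Idx (ZMod 3)) = semM chevE8 V)
    (ha : a < 248) (hb : b < 248) (hab : a ≠ b) (h : val (row V a) b ≠ 0) : g ≠ 1 := by
  rintro rfl
  exact semM_ne_one ha hb hab h (hg.symm.trans (by rw [Subgroup.coe_one, Units.val_one]))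

theorem x1_ne : x1 ≠ 1 := ne_one_of coe_x1 (a := 0) (b := 3) (by norm_num) (by norm_num) (by norm_num) (by decide +kernel)

theorem y1_ne : y1 ≠ 1 := ne_one_of coe_y1 (a := 0) (b := 172) (by norm_num) (by norm_num) (by norm_num) (by decide +kernel)

end Cfsg.Agent.H74.E83.Trip
end

-- part: H738/E83/Eng
section
/-!
# A kernel engine for `E₈` over `𝔽₃` (helper738)

A state is a pair of bit planes holding a `248 × 248` matrix over `𝔽₃` (entry `1`: bit in the first plane, entry `2`: bit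
in the second plane, position `248 i + j`); row `i` is a linear form in a vector `v`.
-/

set_option autoImplicit false

namespace Cfsg.Agent.H738.E83

open Cfsg.Agent.ChevalleyStructure.JacTab
open Finset

/-- force the evaluation of a natural number -/
def frc {α : Type} (x : ℕ) (k : ℕ → α) : α :=
  Nat.rec (motive := fun _ => α) (k 0) (fun n _ => k (Nat.succ n)) x

theorem frc_eq {α : Type} (x : ℕ) (k : ℕ → α) : frc x k = k x := by cases x <;> rfl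

/-- two bit planes -/
abbrev St : Type := ℕ × ℕ

/-- the value of a bit -/
def bt (b : Bool) : ZMod 3 := if b = true then 1 else 0

/-- the value at a position -/
def vl (S : St) (b : ℕ) : ZMod 3 := bt (S.1.testBit b) - bt (S.2.testBit b)

/-- the planes are disjoint -/
def Pr (S : St) : Prop := ∀ b, (S.1.testBit b && S.2.testBit b) = false

/-- addition -/
def ad3 (S T : St) : St :=
  match S, T with
  | (a, b), (c, d) =>
    frc (Nat.xor (Nat.lor a d) (Nat.lor b c)) fun t => frc (Nat.xor (Nat.lor b d) t) fun p =>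
      frc (Nat.xor (Nat.lor a c) t) fun n => (p, n)

theorem bool3 : ∀ a b c d : Bool, (a && b) = false → (c && d) = false →
    ((((b || d) ^^ ((a || d) ^^ (b || c))) && ((a || c) ^^ ((a || d) ^^ (b || c)))) = false ∧
      bt ((b || d) ^^ ((a || d) ^^ (b || c))) - bt ((a || c) ^^ ((a || d) ^^ (b || c))) =
        (bt a - bt b) + (bt c - bt d)) := by
  decide

theorem ad3_eq (a b c d : ℕ) : ad3 (a, b) (c, d) =
    ((b ||| d) ^^^ ((a ||| d) ^^^ (b ||| c)), (a ||| c) ^^^ ((a ||| d) ^^^ (b ||| c))) := by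
  unfold ad3
  simp only [frc_eq]
  rfl

theorem Pr.ad3 {S T : St} (hS : Pr S) (hT : Pr T) : Pr (ad3 S T) := by
  obtain ⟨a, b⟩ := S
  obtain ⟨c, d⟩ := T
  intro x
  rw [ad3_eq]
  simp only [Nat.testBit_xor, Nat.testBit_or]
  exact (bool3 _ _ _ _ (hS x) (hT x)).1

theorem vl_ad3 {S T : St} (hS : Pr S) (hT : Pr T) (x : ℕ) : vl (ad3 S T) x = vl S x + vl T x := by
  obtain ⟨a, b⟩ := S
  obtain ⟨c, d⟩ := T
  rw [ad3_eq]
  unfold vl
  simp only [Nat.testBit_xor, Nat.testBit_or]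
  exact (bool3 _ _ _ _ (hS x) (hT x)).2

/-- negation -/
def ng (S : St) : St := match S with | (a, b) => (b, a)

theorem Pr.ng {S : St} (hS : Pr S) : Pr (ng S) := by
  obtain ⟨a, b⟩ := S
  intro x
  have h := hS x
  show (b.testBit x && a.testBit x) = false
  rw [Bool.and_comm]; exact h

theorem vl_ng (S : St) (x : ℕ) : vl (ng S) x = -vl S x := by
  obtain ⟨a, b⟩ := S
  show bt (b.testBit x) - bt (a.testBit x) = -(bt (a.testBit x) - bt (b.testBit x))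
  rw [neg_sub]

/-- zero -/
def st0 : St := (0, 0)

theorem pr_st0 : Pr st0 := fun x => by
  show ((0 : ℕ).testBit x && (0 : ℕ).testBit x) = false
  rw [Nat.zero_testBit]; rfl

theorem vl_st0 (x : ℕ) : vl st0 x = 0 := by
  show bt ((0 : ℕ).testBit x) - bt ((0 : ℕ).testBit x) = 0
  rw [sub_self]

/-- the mask of one row -/
def MK : ℕ := 452312848583266388373324160190187140051835877600158453279131187530910662655

theorem MK_eq : MK = 2 ^ 248 - 1 := by unfold MK; norm_num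

/-- the row number `z` -/
def gt (S : St) (z : ℕ) : St :=
  match S with
  | (p, n) => frc (Nat.land (Nat.shiftRight p (Nat.mul 248 z)) MK) fun a =>
      frc (Nat.land (Nat.shiftRight n (Nat.mul 248 z)) MK) fun b => (a, b)

theorem gt_eq (p n z : ℕ) : gt (p, n) z = ((p >>> (248 * z)) &&& (2 ^ 248 - 1), (n >>> (248 * z)) &&& (2 ^ 248 - 1)) := by
  unfold gt
  simp only [frc_eq]
  rw [MK_eq]; rfl

theorem tb_mask (p z j : ℕ) : ((p >>> (248 * z)) &&& (2 ^ 248 - 1)).testBit j =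
    (p.testBit (248 * z + j) && decide (j < 248)) := by
  rw [Nat.testBit_and, Nat.testBit_shiftRight, Nat.testBit_two_pow_sub_one]

theorem vl_gt (S : St) (z j : ℕ) : vl (gt S z) j = if j < 248 then vl S (248 * z + j) else 0 := by
  obtain ⟨p, n⟩ := S
  rw [gt_eq]
  unfold vl
  simp only [tb_mask]
  by_cases h : j < 248
  · rw [if_pos h]; simp only [h, decide_true, Bool.and_true]
  · rw [if_neg h]; simp only [h, decide_false, Bool.and_false, sub_self]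

theorem Pr.gt {S : St} (hS : Pr S) (z : ℕ) : Pr (gt S z) := by
  obtain ⟨p, n⟩ := S
  intro x
  rw [gt_eq]
  simp only [tb_mask]
  have h := hS (248 * z + x)
  simp only at h
  cases h1 : p.testBit (248 * z + x) <;> cases h2 : n.testBit (248 * z + x) <;> simp_all

/-- shift a row to position `k` -/
def pt (f : St) (k : ℕ) : St :=
  match f with
  | (a, b) => frc (Nat.shiftLeft a (Nat.mul 248 k)) fun a => frc (Nat.shiftLeft b (Nat.mul 248 k)) fun b => (a, b)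

theorem pt_eq (a b k : ℕ) : pt (a, b) k = (a <<< (248 * k), b <<< (248 * k)) := by
  unfold pt
  simp only [frc_eq]
  rfl

theorem vl_pt (f : St) (k x : ℕ) : vl (pt f k) x = if 248 * k ≤ x then vl f (x - 248 * k) else 0 := by
  obtain ⟨a, b⟩ := f
  rw [pt_eq]
  unfold vl
  simp only [Nat.testBit_shiftLeft]
  by_cases h : 248 * k ≤ x
  · rw [if_pos h]; simp only [h, decide_true, Bool.true_and]
  · rw [if_neg h]; simp only [h, decide_false, Bool.false_and, sub_self]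

theorem Pr.pt {f : St} (hf : Pr f) (k : ℕ) : Pr (pt f k) := by
  obtain ⟨a, b⟩ := f
  intro x
  rw [pt_eq]
  simp only [Nat.testBit_shiftLeft]
  have h := hf (x - 248 * k)
  simp only at h
  cases h1 : a.testBit (x - 248 * k) <;> cases h2 : b.testBit (x - 248 * k) <;> simp_all

/-- the residue mod 3 -/
def md (m : ℤ) : ℕ := Int.toNat (Int.emod m 3)

/-- multiplication by an integer -/
def sg (m : ℤ) (f : St) : St :=
  Nat.rec (motive := fun _ => St) st0 (fun k _ => Nat.rec (motive := fun _ => St) f (fun _ _ => ng f) k) (md m)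

theorem sg_spec (m : ℤ) (f : St) (hf : Pr f) : Pr (sg m f) ∧ ∀ x, vl (sg m f) x = (m : ZMod 3) * vl f x := by
  have h0 : (m : ZMod 3) = ((m % 3 : ℤ) : ZMod 3) := by
    have h := ZMod.intCast_mod m 3
    exact h.symm
  have h1 := Int.emod_nonneg m (show (3 : ℤ) ≠ 0 by norm_num)
  have h2 := Int.emod_lt_of_pos m (show (0 : ℤ) < 3 by norm_num)
  have h3 : m % 3 = 0 ∨ m % 3 = 1 ∨ m % 3 = 2 := by omega
  have hm : md m = (m % 3).toNat := rfl
  unfold sg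
  rcases h3 with h | h | h
  · rw [hm, h]
    refine ⟨pr_st0, fun x => ?_⟩
    show vl st0 x = _
    rw [vl_st0, h0, h]; simp
  · rw [hm, h]
    refine ⟨hf, fun x => ?_⟩
    show vl f x = _
    rw [h0, h]; simp
  · rw [hm, h]
    refine ⟨hf.ng, fun x => ?_⟩
    show vl (ng f) x = _
    rw [vl_ng, h0, h]
    have : ((2 : ℤ) : ZMod 3) = -1 := by decide
    rw [this]; ring

/-- the value of row `i` at the vector `v` -/
def cv (S : St) (v : ℕ → ZMod 3) (i : ℕ) : ZMod 3 := ∑ j ∈ range 248, vl S (248 * i + j) * v j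

/-- the value of a form -/
def fv (f : St) (v : ℕ → ZMod 3) : ZMod 3 := ∑ j ∈ range 248, vl f j * v j

theorem fv_gt (S : St) (v : ℕ → ZMod 3) (z : ℕ) : fv (gt S z) v = cv S v z := by
  unfold fv cv
  refine sum_congr rfl fun j hj => ?_
  rw [vl_gt, if_pos (mem_range.1 hj)]

theorem cv_ad3 {S T : St} (hS : Pr S) (hT : Pr T) (v : ℕ → ZMod 3) (i : ℕ) :
    cv (ad3 S T) v i = cv S v i + cv T v i := by
  unfold cv
  rw [← sum_add_distrib]
  refine sum_congr rfl fun j _ => ?_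
  rw [vl_ad3 hS hT]; ring

theorem cv_ng (S : St) (v : ℕ → ZMod 3) (i : ℕ) : cv (ng S) v i = -cv S v i := by
  unfold cv
  rw [← sum_neg_distrib]
  refine sum_congr rfl fun j _ => ?_
  rw [vl_ng]; ring

theorem cv_st0 (v : ℕ → ZMod 3) (i : ℕ) : cv st0 v i = 0 := by
  unfold cv
  refine sum_eq_zero fun j _ => ?_
  rw [vl_st0, zero_mul]

theorem cv_pt {f : St} (hf : ∀ j, 248 ≤ j → vl f j = 0) (k : ℕ) (v : ℕ → ZMod 3) (i : ℕ) :
    cv (pt f k) v i = if i = k then fv f v else 0 := by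
  unfold cv fv
  by_cases h : i = k
  · subst h
    rw [if_pos rfl]
    refine sum_congr rfl fun j _ => ?_
    rw [vl_pt, if_pos (Nat.le_add_right _ _), Nat.add_sub_cancel_left]
  · rw [if_neg h]
    refine sum_eq_zero fun j hj => ?_
    have hj' := mem_range.1 hj
    rw [vl_pt]
    by_cases h1 : 248 * k ≤ 248 * i + j
    · rw [if_pos h1, hf _ (by omega), zero_mul]
    · rw [if_neg h1, zero_mul]

/-- one column of a bracket -/
def stp (S : St) (z : ℕ) (l : List (ℕ × ℤ)) (acc : St) : St :=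
  List.rec (motive := fun _ => St) acc (fun e _ ih => ad3 (pt (sg e.2 (gt S z)) e.1) ih) l

theorem stp_nil (S : St) (z : ℕ) (acc : St) : stp S z [] acc = acc := rfl

theorem stp_cons (S : St) (z : ℕ) (e : ℕ × ℤ) (l : List (ℕ × ℤ)) (acc : St) :
    stp S z (e :: l) acc = ad3 (pt (sg e.2 (gt S z)) e.1) (stp S z l acc) := rfl

theorem pr_stp {S acc : St} (hS : Pr S) (ha : Pr acc) (z : ℕ) (l : List (ℕ × ℤ)) : Pr (stp S z l acc) := by
  induction l with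
  | nil => exact ha
  | cons e l ih => rw [stp_cons]; exact Pr.ad3 ((sg_spec e.2 _ (hS.gt z)).1.pt _) ih

/-- coefficient of `i` -/
def ce (l : List (ℕ × ℤ)) (i : ℕ) : ℤ := (l.map fun e => if i = e.1 then e.2 else 0).sum

theorem ce_cons (e : ℕ × ℤ) (l : List (ℕ × ℤ)) (i : ℕ) : ce (e :: l) i = (if i = e.1 then e.2 else 0) + ce l i := by
  unfold ce; rw [List.map_cons, List.sum_cons]

theorem cv_stp {S acc : St} (hS : Pr S) (ha : Pr acc) (z : ℕ) (l : List (ℕ × ℤ)) (v : ℕ → ZMod 3) (i : ℕ) :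
    cv (stp S z l acc) v i = (ce l i : ZMod 3) * cv S v z + cv acc v i := by
  induction l with
  | nil => rw [stp_nil]; simp [ce]
  | cons e l ih =>
    have h1 := sg_spec e.2 _ (hS.gt z)
    rw [stp_cons, cv_ad3 (h1.1.pt _) (pr_stp hS ha z l), ih, cv_pt, ce_cons]
    · have h2 : fv (sg e.2 (gt S z)) v = (e.2 : ZMod 3) * cv S v z := by
        rw [← fv_gt]
        unfold fv
        rw [mul_sum]
        refine sum_congr rfl fun j _ => ?_
        rw [h1.2]; ring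
      rw [h2]
      push_cast
      by_cases h : i = e.1
      · rw [if_pos h, if_pos h]; ring
      · rw [if_neg h, if_neg h]; ring
    · intro j hj
      rw [h1.2, vl_gt, if_neg (by omega), mul_zero]

/-- the bracket with a basis element, columns below `n` -/
def brkN (R : Row) (S : St) (n : ℕ) : St :=
  Nat.rec (motive := fun _ => St) st0 (fun z ih => stp S z (rbr R z) ih) n

theorem brkN_succ (R : Row) (S : St) (n : ℕ) : brkN R S (n + 1) = stp S n (rbr R n) (brkN R S n) := rfl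

theorem pr_brkN (R : Row) {S : St} (hS : Pr S) (n : ℕ) : Pr (brkN R S n) := by
  induction n with
  | zero => exact pr_st0
  | succ n ih => rw [brkN_succ]; exact pr_stp hS ih n _

theorem cv_brkN (R : Row) {S : St} (hS : Pr S) (v : ℕ → ZMod 3) (i n : ℕ) :
    cv (brkN R S n) v i = ∑ z ∈ range n, (ce (rbr R z) i : ZMod 3) * cv S v z := by
  induction n with
  | zero => rw [range_zero, sum_empty]; exact cv_st0 v i
  | succ n ih => rw [brkN_succ, cv_stp hS (pr_brkN R hS n), ih, sum_range_succ, add_comm]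

/-- the bracket with the basis element number `r` -/
def brk (rs : List Row) (r : ℕ) (S : St) : St :=
  match S with
  | (p, n) => match rowAt rs r with
    | ⟨a, h⟩ => brkN ⟨a, h⟩ (p, n) 248

theorem brk_eq (rs : List Row) (r : ℕ) (S : St) : brk rs r S = brkN (rowAt rs r) S 248 := by
  obtain ⟨p, n⟩ := S
  rfl

theorem Pr.brk {S : St} (hS : Pr S) (rs : List Row) (r : ℕ) : Pr (brk rs r S) := by
  rw [brk_eq]; exact pr_brkN _ hS _

theorem cv_brk {S : St} (hS : Pr S) (rs : List Row) (r : ℕ) (v : ℕ → ZMod 3) (i : ℕ) :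
    cv (brk rs r S) v i = ∑ z ∈ range 248, (ce (rbr (rowAt rs r) z) i : ZMod 3) * cv S v z := by
  rw [brk_eq]; exact cv_brkN _ hS v i 248

/-- the operator `∑ c [e_r, _]` -/
def aw (rs : List Row) (w : List (ℕ × Bool)) (S : St) : St :=
  match S with
  | (p, n) => List.rec (motive := fun _ => St) st0
      (fun l _ ih => ad3 (Bool.rec (motive := fun _ => St) (ng (brk rs l.1 (p, n))) (brk rs l.1 (p, n)) l.2) ih) w

theorem aw_nil (rs : List Row) (S : St) : aw rs [] S = st0 := by obtain ⟨p, n⟩ := S; rfl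

theorem aw_cons (rs : List Row) (l : ℕ × Bool) (w : List (ℕ × Bool)) (S : St) :
    aw rs (l :: w) S = ad3 (if l.2 = true then brk rs l.1 S else ng (brk rs l.1 S)) (aw rs w S) := by
  obtain ⟨p, n⟩ := S
  obtain ⟨r, c⟩ := l
  cases c <;> rfl

end Cfsg.Agent.H738.E83
end

-- part: H738/E83/Sem
section
/-!
# The kernel engine and the Lie algebra of `E₈` over `𝔽₃` (helper738)

`Sem S v u` : the state `S` evaluated at `v` is the vector `u`.
-/

set_option autoImplicit false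
set_option maxRecDepth 100000

namespace Cfsg.Agent.H738.E83

open Matrix Cfsg Cfsg.Lie
open Cfsg.Agent.ChevalleyStructure Cfsg.Agent.ChevalleyStructure.JacTab Cfsg.Agent.ChevalleyStructure.JacBridge
  Cfsg.Agent.ChevalleyStructure.JacMain Cfsg.Agent.ChevalleyStructure.JacDataE8 Cfsg.Agent.ChevalleyStructure.LieAbs
  Cfsg.Agent.ChevalleyStructure.LieAut
open Cfsg.Agent.H64.E83 (L3 mx er vec vec_nil vec_cons vec_append vec_smul eqv vec_eq er_eq)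

/-- the bracket -/
noncomputable def br (u v : L3) : L3 := adv (adR chevE8 (ZMod 3)) u *ᵥ v

theorem hE8 : chevE8 ∈ (beta% delta% lq26a1341ae9 fun _ _ _ _ f _ _ i j k l m n o p =>
 (f j<|f k<|f l<|f m<|f n<|f o<|f p<|i) :
 List Cfsg.Lie.ChevalleyDatum) := by simp

/-- equivariance -/
theorem mx_br (g : ↥(chevE8.group (ZMod 3))) (u v : L3) : mx g *ᵥ br u v = br (mx g *ᵥ u) (mx g *ᵥ v) := by
  have h := Cfsg.Agent.ChevalleyStructure.JacAll.group_mul_adv chevE8 hE8 (ZMod 3) g.1 g.2 u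
  unfold br
  rw [Matrix.mulVec_mulVec, h, ← Matrix.mulVec_mulVec]

theorem br_add_left (u v w : L3) : br (u + v) w = br u w + br v w := by
  unfold br; rw [adv_add, Matrix.add_mulVec]

theorem br_smul_left (a : ZMod 3) (v w : L3) : br (a • v) w = a • br v w := by
  unfold br; rw [adv_smul, Matrix.smul_mulVec]

theorem br_add_right (u v w : L3) : br u (v + w) = br u v + br u w := by
  unfold br; rw [Matrix.mulVec_add]

theorem br_smul_right (a : ZMod 3) (v w : L3) : br v (a • w) = a • br v w := by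
  unfold br; rw [Matrix.mulVec_smul]

theorem br_zero_left (w : L3) : br 0 w = 0 := by
  unfold br; rw [adv_zero, Matrix.zero_mulVec]

theorem br_zero_right (w : L3) : br w 0 = 0 := by
  unfold br; rw [Matrix.mulVec_zero]

abbrev ky : chevE8.Idx → ℕ := key chevE8

theorem nr : chevE8.nroots = 240 := by decide +kernel

theorem rk : chevE8.rank = 8 := by decide +kernel

theorem ky_lt (x : chevE8.Idx) : ky x < 248 := by
  have h := key_lt chevE8 x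
  rw [nr, rk] at h
  exact h

theorem sum_ky (F : ℕ → ZMod 3) : ∑ k ∈ Finset.range 248, F k = ∑ x : chevE8.Idx, F (ky x) := by
  classical
  have h : Finset.range 248 = Finset.univ.image ky := by
    ext k
    rw [Finset.mem_range, Finset.mem_image]
    constructor
    · intro hk
      obtain ⟨x, hx⟩ := key_surj chevE8 k (by rw [nr, rk]; exact hk)
      exact ⟨x, Finset.mem_univ _, hx⟩
    · rintro ⟨x, -, rfl⟩
      exact ky_lt x
  rw [h, Finset.sum_image fun a _ b _ hab => key_injective chevE8 hab]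

/-- the vector as a function on the naturals -/
noncomputable def toN (v : L3) (k : ℕ) : ZMod 3 := ∑ x : chevE8.Idx, if ky x = k then v x else 0

theorem toN_ky (v : L3) (x : chevE8.Idx) : toN v (ky x) = v x := by
  unfold toN
  rw [Finset.sum_eq_single x, if_pos rfl]
  · intro y _ hy
    rw [if_neg fun h => hy (key_injective chevE8 h)]
  · intro h; exact absurd (Finset.mem_univ _) h

theorem ad_entry (x y z : chevE8.Idx) : adA chevE8 x y z = ce (rbr (rowAt rows (ky x)) (ky z)) (ky y) := by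
  have hs : ∀ r < chevE8.nroots, Cfsg.Agent.ChevalleyStructure.Columns.sortedFrom 0 (Cfsg.Agent.ChevalleyStructure.Columns.row chevE8 r) = true := fun r hr =>
    (Cfsg.Agent.ChevalleyStructure.Good.goodAt_of_mem chevE8 (by simp) r hr).sorted
  have hn : ∀ r < chevE8.nroots, chevE8.neg r ≠ r := fun r hr =>
    (Cfsg.Agent.ChevalleyStructure.Good.goodAt_of_mem chevE8 (by simp) r hr).neg_ne
  have B := bridge_sound chevE8 Rs Hs JacE8.bridge_ok hs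
  rw [← AX_eq_adA B hn hs]
  rfl

/-- the state represents the vector -/
def Sem (S : St) (v : ℕ → ZMod 3) (u : L3) : Prop := Pr S ∧ ∀ x, cv S v (ky x) = u x

theorem Sem.ad3 {S T : St} {v : ℕ → ZMod 3} {u w : L3} (h : Sem S v u) (h' : Sem T v w) :
    Sem (Cfsg.Agent.H738.E83.ad3 S T) v (u + w) :=
  ⟨h.1.ad3 h'.1, fun x => by rw [cv_ad3 h.1 h'.1, h.2, h'.2]; rfl⟩

theorem Sem.ng {S : St} {v : ℕ → ZMod 3} {u : L3} (h : Sem S v u) : Sem (Cfsg.Agent.H738.E83.ng S) v (-u) :=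
  ⟨h.1.ng, fun x => by rw [cv_ng, h.2]; rfl⟩

theorem sem_zero (v : ℕ → ZMod 3) : Sem st0 v 0 := ⟨pr_st0, fun x => cv_st0 v _⟩

theorem Sem.brk {S : St} {v : ℕ → ZMod 3} {u : L3} (h : Sem S v u) (x : chevE8.Idx) :
    Sem (Cfsg.Agent.H738.E83.brk rows (ky x) S) v (adR chevE8 (ZMod 3) x *ᵥ u) := by
  refine ⟨h.1.brk _ _, fun y => ?_⟩
  have e : (adR chevE8 (ZMod 3) x *ᵥ u) y = ∑ z, adR chevE8 (ZMod 3) x y z * u z := by
    rw [Matrix.mulVec, dotProduct]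
  rw [cv_brk h.1, sum_ky, e]
  refine Finset.sum_congr rfl fun z _ => ?_
  rw [h.2, ← ad_entry, adR_def, Matrix.map_apply, Int.coe_castRingHom]

/-- the vector of a list with signs -/
def vb (w : List (ℕ × Bool)) : L3 := vec (w.map fun l => (l.1, if l.2 = true then 1 else -1))

theorem vb_cons (l : ℕ × Bool) (w : List (ℕ × Bool)) :
    vb (l :: w) = (if l.2 = true then er l.1 else -er l.1) + vb w := by
  unfold vb
  rw [List.map_cons, vec_cons]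
  congr 1
  split_ifs
  · show ((1 : ℤ) : ZMod 3) • _ = _
    rw [Int.cast_one, one_smul]
  · show ((-1 : ℤ) : ZMod 3) • _ = _
    rw [Int.cast_neg, Int.cast_one, neg_smul, one_smul]

/-- all indices are roots -/
def okw (w : List (ℕ × Bool)) : Bool := w.all fun l => Nat.blt l.1 240

theorem br_er {r : ℕ} (hr : r < chevE8.nroots) (u : L3) : br (er r) u = adR chevE8 (ZMod 3) (Sum.inr ⟨r, hr⟩) *ᵥ u := by
  unfold br
  rw [er_eq hr, adv_single_one]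

theorem br_neg_left (u v : L3) : br (-u) v = -br u v := by
  unfold br; rw [adv_neg, Matrix.neg_mulVec]

theorem Sem.aw {S : St} {v : ℕ → ZMod 3} {u : L3} (h : Sem S v u) {w : List (ℕ × Bool)} (hw : okw w = true) :
    Sem (Cfsg.Agent.H738.E83.aw rows w S) v (br (vb w) u) := by
  induction w with
  | nil =>
    rw [aw_nil]
    have : vb [] = 0 := rfl
    rw [this, br_zero_left]
    exact sem_zero v
  | cons l w ih =>
    unfold okw at hw
    rw [List.all_cons, Bool.and_eq_true] at hw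
    have hr : l.1 < chevE8.nroots := by
      rw [nr]; exact Nat.le_of_ble_eq_true hw.1
    have ih' := ih hw.2
    have h1 := h.brk (Sum.inr ⟨l.1, hr⟩)
    rw [aw_cons, vb_cons, br_add_left]
    refine Sem.ad3 ?_ ih'
    by_cases hl : l.2 = true
    · rw [if_pos hl, if_pos hl, br_er hr]; exact h1
    · rw [if_neg hl, if_neg hl, br_neg_left, br_er hr]; exact h1.ng

/-! ### the generic vector -/

/-- the identity matrix, rows below `n` -/
def idN (n : ℕ) : St := Nat.rec (motive := fun _ => St) st0 (fun i ih => ad3 (pt (Nat.shiftLeft 1 i, 0) i) ih) n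

theorem idN_succ (n : ℕ) : idN (n + 1) = ad3 (pt (1 <<< n, 0) n) (idN n) := rfl

theorem pr_one (n : ℕ) : Pr (1 <<< n, 0) := fun x => by
  show (_ && (0 : ℕ).testBit x) = false
  rw [Nat.zero_testBit, Bool.and_false]

theorem pr_idN (n : ℕ) : Pr (idN n) := by
  induction n with
  | zero => exact pr_st0
  | succ n ih => rw [idN_succ]; exact ((pr_one n).pt n).ad3 ih

theorem vl_one (n j : ℕ) : vl (1 <<< n, 0) j = if j = n then 1 else 0 := by
  unfold vl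
  simp only [Nat.zero_testBit, Nat.testBit_shiftLeft]
  have h0 : bt false = 0 := rfl
  have h1 : bt true = 1 := rfl
  rw [h0, sub_zero]
  by_cases h : j = n
  · subst h
    rw [if_pos rfl]
    simp [h1]
  · rw [if_neg h]
    by_cases h2 : n ≤ j
    · have h3 : ¬ (j - n = 0) := by omega
      have h4 : Nat.testBit 1 (j - n) = false := by
        rw [Bool.eq_false_iff]
        intro h5
        exact h3 (Nat.testBit_one_eq_true_iff_self_eq_zero.1 h5)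
      rw [h4, Bool.and_false, h0]
    · simp [h2, h0]

theorem cv_idN (v : ℕ → ZMod 3) {n : ℕ} (hn : n ≤ 248) (i : ℕ) : cv (idN n) v i = if i < n then v i else 0 := by
  induction n with
  | zero => rw [if_neg (Nat.not_lt_zero i)]; exact cv_st0 v i
  | succ n ih =>
    rw [idN_succ, cv_ad3 ((pr_one n).pt n) (pr_idN n), ih (by omega), cv_pt]
    · by_cases h : i = n
      · subst h
        rw [if_pos rfl, if_neg (lt_irrefl _), if_pos (Nat.lt_succ_self _), add_zero]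
        unfold fv
        rw [Finset.sum_eq_single i]
        · rw [vl_one, if_pos rfl, one_mul]
        · intro j _ hj
          rw [vl_one, if_neg hj, zero_mul]
        · intro h1
          exact absurd (Finset.mem_range.2 (by omega)) h1
      · rw [if_neg h, zero_add]
        by_cases h1 : i < n
        · rw [if_pos h1, if_pos (by omega)]
        · rw [if_neg h1, if_neg (by omega)]
    · intro j hj
      rw [vl_one, if_neg (by omega)]

theorem sem_id (u : L3) : Sem (idN 248) (toN u) u :=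
  ⟨pr_idN _, fun x => by rw [cv_idN _ le_rfl, if_pos (ky_lt x), toN_ky]⟩

/-- the zero test -/
def isz (S : St) : Bool := match S with | (p, n) => Nat.beq p 0 && Nat.beq n 0

theorem eq_of_isz {S : St} (h : isz S = true) : S = st0 := by
  obtain ⟨p, n⟩ := S
  unfold isz at h
  rw [Bool.and_eq_true] at h
  have h1 := Nat.eq_of_beq_eq_true h.1
  have h2 := Nat.eq_of_beq_eq_true h.2
  rw [h1, h2]; rfl

theorem Sem.eq_zero {S : St} {v : ℕ → ZMod 3} {u : L3} (h : Sem S v u) (h0 : isz S = true) : u = 0 := by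
  funext x
  rw [← h.2 x, eq_of_isz h0, cv_st0]; rfl

/-! ### explicit vectors -/

/-- the first basis function -/
def d0 : ℕ → ZMod 3 := fun j => if j = 0 then 1 else 0

theorem cv_d0 (S : St) (i : ℕ) : cv S d0 i = vl S (248 * i) := by
  unfold cv
  rw [Finset.sum_eq_single 0]
  · unfold d0; rw [if_pos rfl, mul_one, add_zero]
  · intro j _ hj
    unfold d0; rw [if_neg hj, mul_zero]
  · intro h; exact absurd (Finset.mem_range.2 (by norm_num)) h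

/-- the state of an explicit vector -/
def vs (w : List (ℕ × Bool)) : St :=
  List.rec (motive := fun _ => St) st0
    (fun l _ ih => ad3 (pt (Bool.rec (motive := fun _ => St) (0, 1) (1, 0) l.2) l.1) ih) w

theorem vs_cons (l : ℕ × Bool) (w : List (ℕ × Bool)) :
    vs (l :: w) = ad3 (pt (if l.2 = true then (1, 0) else ng (1, 0)) l.1) (vs w) := by
  obtain ⟨r, c⟩ := l
  cases c <;> rfl

theorem sem_pt {r : ℕ} (hr : r < 240) : Sem (pt (1, 0) r) d0 (er r) := by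
  have h1 : ((1, 0) : St) = (1 <<< 0, 0) := rfl
  rw [h1]
  refine ⟨(pr_one 0).pt r, fun x => ?_⟩
  rw [cv_d0, vl_pt, vl_one]
  rcases x with i | s
  · show _ = (0 : ZMod 3)
    have hk : ky (Sum.inl i) = chevE8.nroots + i.val := rfl
    rw [hk, nr]
    by_cases h : 248 * r ≤ 248 * (240 + i.val)
    · rw [if_pos h, if_neg]
      omega
    · rw [if_neg h]
  · show _ = if s.val = r then (1 : ZMod 3) else 0
    have hk : ky (Sum.inr s) = s.val := rfl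
    rw [hk]
    by_cases h : s.val = r
    · rw [if_pos h, if_pos (by omega), if_pos (by omega)]
    · rw [if_neg h]
      by_cases h2 : 248 * r ≤ 248 * s.val
      · rw [if_pos h2, if_neg (by omega)]
      · rw [if_neg h2]

theorem sem_vs {w : List (ℕ × Bool)} (hw : okw w = true) : Sem (vs w) d0 (vb w) := by
  induction w with
  | nil => exact sem_zero d0
  | cons l w ih =>
    unfold okw at hw
    rw [List.all_cons, Bool.and_eq_true] at hw
    have hr : l.1 < 240 := Nat.le_of_ble_eq_true hw.1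
    have ih' := ih hw.2
    rw [vs_cons, vb_cons]
    refine Sem.ad3 ?_ ih'
    by_cases hl : l.2 = true
    · rw [if_pos hl, if_pos hl]; exact sem_pt hr
    · rw [if_neg hl, if_neg hl]
      have h1 := (sem_pt hr).ng
      have h2 : Cfsg.Agent.H738.E83.ng (pt (1, 0) l.1) = pt (Cfsg.Agent.H738.E83.ng (1, 0)) l.1 := by
        show Cfsg.Agent.H738.E83.ng (pt (1, 0) l.1) = pt (0, 1) l.1
        rw [pt_eq, pt_eq]; rfl
      rw [h2] at h1
      exact h1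

/-- a nonzero coordinate in the first column -/
def nzc (S : St) : Bool :=
  match S with
  | (p, n) => Nat.rec (motive := fun _ => Bool) false
      (fun i ih => Bool.rec (motive := fun _ => Bool) ih true
        (Bool.or (Nat.testBit p (Nat.mul 248 i)) (Nat.testBit n (Nat.mul 248 i)))) 248

theorem exists_of_nzc {S : St} (h : nzc S = true) :
    ∃ i < 248, (S.1.testBit (248 * i) || S.2.testBit (248 * i)) = true := by
  have key : ∀ (p n : ℕ) (tb : ℕ → ℕ → Bool) (m : ℕ), (Nat.rec (motive := fun _ => Bool) false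
      (fun i ih => Bool.rec (motive := fun _ => Bool) ih true
        (Bool.or (tb p (Nat.mul 248 i)) (tb n (Nat.mul 248 i)))) m : Bool) = true →
      ∃ i < m, (tb p (248 * i) || tb n (248 * i)) = true := by
    intro p n tb m
    induction m with
    | zero => intro h1; exact absurd h1 Bool.false_ne_true
    | succ m ih =>
      intro h1
      cases hb : (tb p (248 * m) || tb n (248 * m)) with
      | true => exact ⟨m, Nat.lt_succ_self _, hb⟩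
      | false =>
        have h2 : Bool.rec (motive := fun _ => Bool) (Nat.rec (motive := fun _ => Bool) false
          (fun i ih => Bool.rec (motive := fun _ => Bool) ih true
            (Bool.or (tb p (Nat.mul 248 i)) (tb n (Nat.mul 248 i)))) m : Bool) true
            (tb p (248 * m) || tb n (248 * m)) = true := h1
        rw [hb] at h2
        obtain ⟨i, hi, hi'⟩ := ih h2
        exact ⟨i, Nat.lt_succ_of_lt hi, hi'⟩
  have key2 : ∀ (m : ℕ) (S : St), (match S with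
      | (p, n) => Nat.rec (motive := fun _ => Bool) false
        (fun i ih => Bool.rec (motive := fun _ => Bool) ih true
          (Bool.or (Nat.testBit p (Nat.mul 248 i)) (Nat.testBit n (Nat.mul 248 i)))) m : Bool) = true →
      ∃ i < m, (S.1.testBit (248 * i) || S.2.testBit (248 * i)) = true := by
    intro m S
    obtain ⟨p, n⟩ := S
    exact key p n Nat.testBit m
  exact key2 248 S ((congrFun (show nzc = delta% nzc from by delta nzc; rfl) S).symm.trans h)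

theorem Sem.ne_zero {S : St} {u : L3} (h : Sem S d0 u) (h0 : nzc S = true) : u ≠ 0 := by
  obtain ⟨i, hi, h1⟩ := exists_of_nzc h0
  obtain ⟨x, hx⟩ := key_surj chevE8 i (by rw [nr, rk]; exact hi)
  intro hu
  have h2 := h.2 x
  have hx' : ky x = i := hx
  rw [hx', cv_d0, hu] at h2
  have h3 : vl S (248 * i) = 0 := h2
  have h4 := h.1 (248 * i)
  unfold vl bt at h3
  revert h1 h3 h4
  cases S.1.testBit (248 * i) <;> cases S.2.testBit (248 * i) <;> decide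

end Cfsg.Agent.H738.E83
end

private theorem dce_d12ee8487927 : _root_.True := by
  try have : _root_.True := by simp only [_root_.Cfsg.Agent.H74.E83.Code.beqT.eq_2]
  try have : _root_.True := by simp only [_root_.Cfsg.Agent.H738.E83.ce.eq_1]
  try have : _root_.True := by simp only [_root_.Cfsg.Agent.H74.E83.Code.look.eq_def]
  try have : _root_.True := by simp only [_root_.Cfsg.Agent.H74.E83.Code.mulX.eq_1]
  try have : _root_.True := by simp only [_root_.Cfsg.Agent.H74.E83.Code.beqT.eq_1]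
  try have : _root_.True := by simp only [_root_.Cfsg.Agent.H74.E83.Trit.tz.eq_1]
  try have : _root_.True := by simp only [_root_.Cfsg.Agent.H74.E83.Code.beqT._sparseCasesOn_2.else_eq]
  try have : _root_.True := by simp only [_root_.Cfsg.Agent.H74.E83.Code.hasR.eq_2]
  try have : _root_.True := by simp only [_root_.Cfsg.Agent.H74.E83.Code.stepE.eq_1]
  try have : _root_.True := by simp only [_root_.Cfsg.Agent.H74.E83.Elim.elim.eq_1]
  try have : _root_.True := by simp only [_root_.Cfsg.Agent.H74.E83.Elim.elim.eq_2]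
  try have : _root_.True := by simp only [_root_.Cfsg.Agent.H74.E83.Code.norm.eq_def]
  try have : _root_.True := by simp only [_root_.Cfsg.Agent.H74.E83.Code.sg.eq_1]
  try have : _root_.True := by simp only [_root_.Cfsg.Agent.H74.E83.Code.beqT._sparseCasesOn_1.else_eq]
  try have : _root_.True := by simp only [_root_.Cfsg.Agent.H74.E83.Code.beqT.eq_def]
  try have : _root_.True := by simp only [_root_.Cfsg.Agent.H74.E83.Code.beqT.eq_3]
  try have : _root_.True := by simp only [_root_.Cfsg.Agent.H74.E83.Code.hasR.eq_1]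
  try have : _root_.True := by simp only [_root_.Cfsg.Agent.H74.E83.Elim.elim.eq_3]
  try have : _root_.True := by simp only [_root_.Cfsg.Agent.H74.E83.Code.norm.eq_1]
  try have : _root_.True := by simp only [_root_.Cfsg.Agent.H74.E83.Code.norm.eq_2]
  try have : _root_.True := by simp only [_root_.Cfsg.Agent.H74.E83.Code.okS.eq_1]
  try have : _root_.True := by simp only [_root_.Cfsg.Agent.H74.E83.Elim.elim.eq_def]
  try have : _root_.True := by simp only [_root_.Cfsg.Agent.H74.E83.Code.hasR.eq_def]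
  exact _root_.True.intro
end

-- part: H738/E83/Cube_mg
section
set_option linter.all false
open scoped Cfsg.Agent.FastGrp

-- part: H738/E83/Cube
section
/-!
# The cubes of the fixed vectors of the two `A₅` (helper738, S5925 box L)
-/

set_option autoImplicit false
set_option maxRecDepth 100000

namespace Cfsg.Agent.H738.E83

open Matrix Cfsg Cfsg.Lie
open Cfsg.Agent.ChevalleyStructure Cfsg.Agent.ChevalleyStructure.JacTab Cfsg.Agent.ChevalleyStructure.JacDataE8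
open Cfsg.Agent.H64.E83 (L3 mx er vec vec_nil vec_cons vec_append vec_smul eqv vec_eq er_eq)

/-- the cube of the adjoint operator -/
noncomputable def cu (v w : L3) : L3 := br v (br v (br v w))

/-- `q_I` -/
def wI : List (ℕ × Bool) := [(52, true), (63, true), (68, true), (74, true)]

/-- the second vector `q_I'` -/
def wI' : List (ℕ × Bool) := [(30, false), (31, true), (32, true), (33, true), (34, false), (40, true), (41, true),
  (42, false), (43, true), (44, true), (46, false), (47, false), (48, true), (49, false), (50, false), (51, true),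
  (56, false), (57, true), (59, true), (61, false), (200, false), (201, false), (203, false), (210, false),
  (212, false), (214, true), (215, true), (217, false), (219, false), (220, false), (221, false), (222, true)]

/-- `q_II` -/
def wII : List (ℕ × Bool) := [(14, true), (127, false), (133, true), (140, false), (165, true), (171, true),
  (176, true), (187, true)]

/-- the second vector `q_II'` -/
def wII' : List (ℕ × Bool) := [(10, true), (11, false), (13, true), (17, true), (18, true), (19, false), (22, true),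
  (24, false), (25, false), (26, true), (27, true), (28, false), (29, true), (36, true), (37, false), (39, true),
  (157, false), (158, true), (159, false), (161, false), (178, false), (179, false), (180, true), (181, false),
  (182, true), (183, false), (189, true), (190, false), (192, true), (195, false), (196, false), (197, true),
  (198, true), (205, true), (206, false), (207, true), (209, true)]

/-- negation of a list -/
def nl (w : List (ℕ × Bool)) : List (ℕ × Bool) := w.map fun l => (l.1, !l.2)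

theorem sem_cu {w : List (ℕ × Bool)} (hw : okw w = true) {S : St} {v : ℕ → ZMod 3} {u : L3} (h : Sem S v u) :
    Sem (aw rows w (aw rows w (aw rows w S))) v (cu (vb w) u) :=
  ((h.aw hw).aw hw).aw hw

theorem cube_I (u : L3) : cu (vb wI) u = 0 :=
  (sem_cu (w := wI) (by decide +kernel) (sem_id u)).eq_zero (by decide +kernel)

theorem cube_II (u : L3) : cu (vb wII) u = 0 :=
  (sem_cu (w := wII) (by decide +kernel) (sem_id u)).eq_zero (by decide +kernel)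

theorem cu_smul (d : ZMod 3) (v u : L3) : cu (d • v) u = (d ^ 3) • cu v u := by
  unfold cu
  rw [br_smul_left, br_smul_left, br_smul_left, br_smul_right, br_smul_right, smul_smul, br_smul_right, smul_smul]
  congr 1
  ring

theorem vb_append (w w' : List (ℕ × Bool)) : vb (w ++ w') = vb w + vb w' := by
  unfold vb
  rw [List.map_append, vec_append]

theorem vb_nl (w : List (ℕ × Bool)) : vb (nl w) = -vb w := by
  induction w with
  | nil => show (0 : L3) = -0; rw [neg_zero]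
  | cons l w ih =>
    have h : nl (l :: w) = (l.1, !l.2) :: nl w := rfl
    rw [h, vb_cons, vb_cons, ih]
    obtain ⟨r, c⟩ := l
    cases c <;> simp [add_comm]

theorem zmod3 (c : ZMod 3) : c = 0 ∨ c = 1 ∨ c = -1 := by revert c; decide

/-- the three combinations -/
theorem three {w w' : List (ℕ × Bool)} {u : L3} (h0 : cu (vb w') u ≠ 0) (h1 : cu (vb (w' ++ w)) u ≠ 0)
    (h2 : cu (vb (w' ++ nl w)) u ≠ 0) {c d : ZMod 3} (hd : d ≠ 0) : cu (c • vb w + d • vb w') u ≠ 0 := by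
  have key : ∀ c : ZMod 3, cu (c • vb w + vb w') u ≠ 0 := by
    intro c
    rcases zmod3 c with rfl | rfl | rfl
    · rw [zero_smul, zero_add]; exact h0
    · rw [one_smul, add_comm, ← vb_append]; exact h1
    · rw [neg_smul, one_smul, ← vb_nl, add_comm, ← vb_append]; exact h2
  have e : c • vb w + d • vb w' = d • ((d * c) • vb w + vb w') := by
    rw [smul_add, smul_smul]
    congr 2
    revert d c; decide
  rw [e, cu_smul]
  have hd3 : d ^ 3 ≠ 0 := pow_ne_zero 3 hd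
  exact smul_ne_zero hd3 (key _)

theorem er_vb (r : ℕ) : vb [(r, true)] = er r := by
  rw [vb_cons]
  have : vb [] = 0 := rfl
  rw [this, add_zero]
  rfl

theorem sem_er {r : ℕ} (hr : okw [(r, true)] = true) : Sem (vs [(r, true)]) d0 (er r) := by
  have h := sem_vs hr
  rw [er_vb] at h
  exact h

private noncomputable def _root_.Cfsg.Agent.KO98e5b6f.k1 : (by first | exact type_of% @Cfsg.Agent.H738.E83.frc | exact Unit : Sort _) := by first | (refine @Subtype.val _ (fun g => @Cfsg.Agent.H738.E83.frc = @g) (@Subtype.mk _ _ (@(fun (x0 : Type) (x1 : @Nat) (x2 : (@Nat → x0)) => @Nat.rec.{1} @(fun (x3 : @Nat) => x0) (@x2 (nat_lit 0)) @(fun (x3 : @Nat) (x4 : x0) => @x2 (@Nat.succ @x3)) @x1)) ?_); rfl') | exact @Cfsg.Agent.H738.E83.frc | exact ()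
private theorem _root_.Cfsg.Agent.KO98e5b6f.e1 : (by first | exact @Cfsg.Agent.H738.E83.frc = @_root_.Cfsg.Agent.KO98e5b6f.k1 | exact True : Prop) := by first | (delta _root_.Cfsg.Agent.KO98e5b6f.k1; exact @Subtype.property _ (fun g => @Cfsg.Agent.H738.E83.frc = @g) _) | rfl | trivial
private noncomputable def _root_.Cfsg.Agent.KO98e5b6f.k2 : (by first | exact type_of% @Cfsg.Agent.H738.E83.ad3 | exact Unit : Sort _) := by first | (refine @Subtype.val _ (fun g => @Cfsg.Agent.H738.E83.ad3 = @g) (@Subtype.mk _ _ (@(fun (x0 : @Cfsg.Agent.H738.E83.St) (x1 : @Cfsg.Agent.H738.E83.St) => @Prod.rec.{1, 0, 0} @Nat @Nat @(fun (x2 : @Cfsg.Agent.H738.E83.St) => @Cfsg.Agent.H738.E83.St) @(fun (x2 : @Nat) (x3 : @Nat) => @Prod.rec.{1, 0, 0} @Nat @Nat @(fun (x4 : @Cfsg.Agent.H738.E83.St) => @Cfsg.Agent.H738.E83.St) @(fun (x4 : @Nat) (x5 : @Nat) => @Cfsg.Agent.KO98e5b6f.k1 @Cfsg.Agent.H738.E83.St (@Nat.xor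 (@Nat.lor @x2 @x5) (@Nat.lor @x3 @x4)) @(fun (x6 : @Nat) => @Cfsg.Agent.KO98e5b6f.k1 @Cfsg.Agent.H738.E83.St (@Nat.xor (@Nat.lor @x3 @x5) @x6) @(fun (x7 : @Nat) => @Cfsg.Agent.KO98e5b6f.k1 @Cfsg.Agent.H738.E83.St (@Nat.xor (@Nat.lor @x2 @x4) @x6) @(fun (x8 : @Nat) => @Prod.mk.{0, 0} @Nat @Nat @x7 @x8)))) @x1) @x0)) ?_); rewrite [← Cfsg.Agent.KO98e5b6f.e1]; (try delta Cfsg.Agent.H738.E83.ad3); (try generalize @Cfsg.Agent.H738.E83.frc = g0); rfl') | exact @Cfsg.Agent.H738.E83.ad3 | exact ()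
private theorem _root_.Cfsg.Agent.KO98e5b6f.e2 : (by first | exact @Cfsg.Agent.H738.E83.ad3 = @_root_.Cfsg.Agent.KO98e5b6f.k2 | exact True : Prop) := by first | (delta _root_.Cfsg.Agent.KO98e5b6f.k2; exact @Subtype.property _ (fun g => @Cfsg.Agent.H738.E83.ad3 = @g) _) | rfl | trivial
private noncomputable def _root_.Cfsg.Agent.KO98e5b6f.k3 : (by first | exact type_of% @Cfsg.Agent.H738.E83.pt | exact Unit : Sort _) := by first | (refine @Subtype.val _ (fun g => @Cfsg.Agent.H738.E83.pt = @g) (@Subtype.mk _ _ (@(fun (x0 : @Cfsg.Agent.H738.E83.St) (x1 : @Nat) => @Prod.rec.{1, 0, 0} @Nat @Nat @(fun (x2 : @Cfsg.Agent.H738.E83.St) => @Cfsg.Agent.H738.E83.St) @(fun (x2 : @Nat) (x3 : @Nat) => @Cfsg.Agent.KO98e5b6f.k1 @Cfsg.Agent.H738.E83.St (@Nat.shiftLeft @x2 (@Nat.mul (nat_lit 248) @x1)) @(fun (x4 : @Nat) => @Cfsg.Agent.KO98e5b6f.k1 @Cfsg.Agent.H738.E83.St (@Nat.shiftLeft @x3 (@Nat.mul (nat_lit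 248) @x1)) @(fun (x5 : @Nat) => @Prod.mk.{0, 0} @Nat @Nat @x4 @x5))) @x0)) ?_); rewrite [← Cfsg.Agent.KO98e5b6f.e1]; (try delta Cfsg.Agent.H738.E83.pt); (try generalize @Cfsg.Agent.H738.E83.frc = g0); rfl') | exact @Cfsg.Agent.H738.E83.pt | exact ()
private theorem _root_.Cfsg.Agent.KO98e5b6f.e3 : (by first | exact @Cfsg.Agent.H738.E83.pt = @_root_.Cfsg.Agent.KO98e5b6f.k3 | exact True : Prop) := by first | (delta _root_.Cfsg.Agent.KO98e5b6f.k3; exact @Subtype.property _ (fun g => @Cfsg.Agent.H738.E83.pt = @g) _) | rfl | trivial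
private noncomputable def _root_.Cfsg.Agent.KO98e5b6f.k4 : (by first | exact type_of% @Cfsg.Agent.H738.E83.sg | exact Unit : Sort _) := by first | (refine @Subtype.val _ (fun g => @Cfsg.Agent.H738.E83.sg = @g) (@Subtype.mk _ _ (@(fun (x0 : @Int) (x1 : @Cfsg.Agent.H738.E83.St) => @Nat.rec.{1} @(fun (x2 : @Nat) => @Cfsg.Agent.H738.E83.St) @Cfsg.Agent.H738.E83.st0 @(fun (x2 : @Nat) (x3 : @Cfsg.Agent.H738.E83.St) => @Nat.rec.{1} @(fun (x4 : @Nat) => @Cfsg.Agent.H738.E83.St) @x1 @(fun (x4 : @Nat) (x5 : @Cfsg.Agent.H738.E83.St) => @Prod.rec.{1, 0, 0} @Nat @Nat @(fun (x6 : @Cfsg.Agent.H738.E83.St) => @Cfsg.Agent.H738.E83.St) @(fun (x6 : @Nat) (x7 : @Nat) => @Prod.mk.{0, 0} @Nat @Nat @x7 @x6) @x1) @x2) (@Int.rec.{1} @(fun (x2 : @Int) => @Nat) @(fun (x2 : @Nat) => x2) @(fun (x2 : @Nat) => nat_lit 0) (@Int.rec.{1} @(fun (x2 : @Int) => @Int) @(fun (x2 : @Nat) => @Int.ofNat (@Nat.mod @x2 (nat_lit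 3))) @(fun (x2 : @Nat) => @Nat.rec.{1} @(fun (x3 : @Nat) => @Int) (@Int.ofNat (@Nat.sub (nat_lit 3) (@Nat.succ (@Nat.mod @x2 (nat_lit 3))))) @(fun (x3 : @Nat) (x4 : @Int) => @Int.negSucc @x3) (@Nat.sub (@Nat.succ (@Nat.mod @x2 (nat_lit 3))) (nat_lit 3))) @x0)))) ?_); (try delta Cfsg.Agent.H738.E83.sg Cfsg.Agent.H738.E83.md Cfsg.Agent.H738.E83.ng); (try generalize @Cfsg.Agent.H738.E83.st0 = g0); rfl') | exact @Cfsg.Agent.H738.E83.sg | exact ()
private theorem _root_.Cfsg.Agent.KO98e5b6f.e4 : (by first | exact @Cfsg.Agent.H738.E83.sg = @_root_.Cfsg.Agent.KO98e5b6f.k4 | exact True : Prop) := by first | (delta _root_.Cfsg.Agent.KO98e5b6f.k4; exact @Subtype.property _ (fun g => @Cfsg.Agent.H738.E83.sg = @g) _) | rfl | trivial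
private noncomputable def _root_.Cfsg.Agent.KO98e5b6f.k5 : (by first | exact type_of% @Cfsg.Agent.H738.E83.gt | exact Unit : Sort _) := by first | (refine @Subtype.val _ (fun g => @Cfsg.Agent.H738.E83.gt = @g) (@Subtype.mk _ _ (@(fun (x0 : @Cfsg.Agent.H738.E83.St) (x1 : @Nat) => @Prod.rec.{1, 0, 0} @Nat @Nat @(fun (x2 : @Cfsg.Agent.H738.E83.St) => @Cfsg.Agent.H738.E83.St) @(fun (x2 : @Nat) (x3 : @Nat) => @Cfsg.Agent.KO98e5b6f.k1 @Cfsg.Agent.H738.E83.St (@Nat.land (@Nat.shiftRight @x2 (@Nat.mul (nat_lit 248) @x1)) @Cfsg.Agent.H738.E83.MK) @(fun (x4 : @Nat) => @Cfsg.Agent.KO98e5b6f.k1 @Cfsg.Agent.H738.E83.St (@Nat.land (@Nat.shiftRight @x3 (@Nat.mul (nat_lit 248) @x1)) @Cfsg.Agent.H738.E83.MK) @(fun (x5 : @Nat) => @Prod.mk.{0, 0} @Nat @Nat @x4 @x5))) @x0)) ?_); rewrite [← Cfsg.Agent.KO98e5b6f.e1]; (try delta Cfsg.Agent.H738.E83.gt); (try generalize @Cfsg.Agent.H738.E83.frc = g0); (try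 generalize @Cfsg.Agent.H738.E83.MK = g1); rfl') | exact @Cfsg.Agent.H738.E83.gt | exact ()
private theorem _root_.Cfsg.Agent.KO98e5b6f.e5 : (by first | exact @Cfsg.Agent.H738.E83.gt = @_root_.Cfsg.Agent.KO98e5b6f.k5 | exact True : Prop) := by first | (delta _root_.Cfsg.Agent.KO98e5b6f.k5; exact @Subtype.property _ (fun g => @Cfsg.Agent.H738.E83.gt = @g) _) | rfl | trivial
private noncomputable def _root_.Cfsg.Agent.KO98e5b6f.k6 : (by first | exact type_of% @Cfsg.Agent.H738.E83.stp | exact Unit : Sort _) := by first | (refine @Subtype.val _ (fun g => @Cfsg.Agent.H738.E83.stp = @g) (@Subtype.mk _ _ (@(fun (x0 : @Cfsg.Agent.H738.E83.St) (x1 : @Nat) (x2 : @List.{0} (@Prod.{0, 0} @Nat @Int)) (x3 : @Cfsg.Agent.H738.E83.St) => @List.rec.{1, 0} (@Prod.{0, 0} @Nat @Int) @(fun (x4 : @List.{0} (@Prod.{0, 0} @Nat @Int)) => @Cfsg.Agent.H738.E83.St) @x3 @(fun (x4 : @Prod.{0, 0} @Nat @Int) (x5 : @List.{0}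 (@Prod.{0, 0} @Nat @Int)) (x6 : @Cfsg.Agent.H738.E83.St) => @Cfsg.Agent.KO98e5b6f.k2 (@Cfsg.Agent.KO98e5b6f.k3 (@Cfsg.Agent.KO98e5b6f.k4 (@Prod.snd.{0, 0} @Nat @Int @x4) (@Cfsg.Agent.KO98e5b6f.k5 @x0 @x1)) (@Prod.fst.{0, 0} @Nat @Int @x4)) @x6) @x2)) ?_); rewrite [← Cfsg.Agent.KO98e5b6f.e2, ← Cfsg.Agent.KO98e5b6f.e3, ← Cfsg.Agent.KO98e5b6f.e4, ← Cfsg.Agent.KO98e5b6f.e5]; (try delta Cfsg.Agent.H738.E83.stp); (try generalize @Cfsg.Agent.H738.E83.ad3 = g0); (try generalize @Cfsg.Agent.H738.E83.pt = g1); (try generalize @Cfsg.Agent.H738.E83.sg = g2); (try generalize @Cfsg.Agent.H738.E83.gt = g3); rfl') | exact @Cfsg.Agent.H738.E83.stp | exact ()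
private theorem _root_.Cfsg.Agent.KO98e5b6f.e6 : (by first | exact @Cfsg.Agent.H738.E83.stp = @_root_.Cfsg.Agent.KO98e5b6f.k6 | exact True : Prop) := by first | (delta _root_.Cfsg.Agent.KO98e5b6f.k6; exact @Subtype.property _ (fun g => @Cfsg.Agent.H738.E83.stp = @g) _) | rfl | trivial
private noncomputable def _root_.Cfsg.Agent.KO98e5b6f.k8 : (by first | exact type_of% @Cfsg.Agent.ChevalleyStructure.JacTab.rowAt | exact Unit : Sort _) := by first | (refine @Subtype.val _ (fun g => @Cfsg.Agent.ChevalleyStructure.JacTab.rowAt = @g) (@Subtype.mk _ _ (@(fun (x0 : @List.{0} @Cfsg.Agent.ChevalleyStructure.JacTab.Row) (x1 : @Nat) => @List.rec.{1, 0} @Cfsg.Agent.ChevalleyStructure.JacTab.Row @(fun (x2 : @List.{0} @Cfsg.Agent.ChevalleyStructure.JacTab.Row) => (@Nat → @Cfsg.Agent.ChevalleyStructure.JacTab.Row)) @(fun (x2 : @Nat) => @Cfsg.Agent.ChevalleyStructure.JacTab.Row.mk (nat_lit 0) (@List.nil.{0}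 (@Prod.{0, 0} @Nat @Int))) @(fun (x2 : @Cfsg.Agent.ChevalleyStructure.JacTab.Row) (x3 : @List.{0} @Cfsg.Agent.ChevalleyStructure.JacTab.Row) (x4 : (@Nat → @Cfsg.Agent.ChevalleyStructure.JacTab.Row)) (x5 : @Nat) => @Nat.rec.{1} @(fun (x6 : @Nat) => @Cfsg.Agent.ChevalleyStructure.JacTab.Row) @x2 @(fun (x6 : @Nat) (x7 : @Cfsg.Agent.ChevalleyStructure.JacTab.Row) => @x4 @x6) @x5) @x0 @x1)) ?_); rfl') | exact @Cfsg.Agent.ChevalleyStructure.JacTab.rowAt | exact ()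
private theorem _root_.Cfsg.Agent.KO98e5b6f.e8 : (by first | exact @Cfsg.Agent.ChevalleyStructure.JacTab.rowAt = @_root_.Cfsg.Agent.KO98e5b6f.k8 | exact True : Prop) := by first | (delta _root_.Cfsg.Agent.KO98e5b6f.k8; exact @Subtype.property _ (fun g => @Cfsg.Agent.ChevalleyStructure.JacTab.rowAt = @g) _) | rfl | trivial
private noncomputable def _root_.Cfsg.Agent.KO98e5b6f.k9 : (by first | exact type_of% @Cfsg.Agent.H738.E83.brk | exact Unit : Sort _) := by first | (refine @Subtype.val _ (fun g => @Cfsg.Agent.H738.E83.brk = @g) (@Subtype.mk _ _ (@(fun (x0 : @List.{0} @Cfsg.Agent.ChevalleyStructure.JacTab.Row) (x1 : @Nat) (x2 : @Cfsg.Agent.H738.E83.St) => @Prod.rec.{1, 0, 0} @Nat @Nat @(fun (x3 : @Cfsg.Agent.H738.E83.St) => @Cfsg.Agent.H738.E83.St) @(fun (x3 : @Nat) (x4 : @Nat) => @Cfsg.Agent.ChevalleyStructure.JacTab.Row.rec.{1} @(fun (x5 : @Cfsg.Agent.ChevalleyStructure.JacTab.Row)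 => @Cfsg.Agent.H738.E83.St) @(fun (x5 : @Nat) (x6 : @List.{0} (@Prod.{0, 0} @Nat @Int)) => @Nat.rec.{1} @(fun (x7 : @Nat) => @Cfsg.Agent.H738.E83.St) @Cfsg.Agent.H738.E83.st0 @(fun (x7 : @Nat) (x8 : @Cfsg.Agent.H738.E83.St) => @Cfsg.Agent.KO98e5b6f.k6 (@Prod.mk.{0, 0} @Nat @Nat @x3 @x4) @x7 (@Cfsg.Agent.ChevalleyStructure.JacTab.rbr (@Cfsg.Agent.ChevalleyStructure.JacTab.Row.mk @x5 @x6) @x7) @x8) (nat_lit 248)) (@Cfsg.Agent.KO98e5b6f.k8 @x0 @x1)) @x2)) ?_); rewrite [← Cfsg.Agent.KO98e5b6f.e6, ← Cfsg.Agent.KO98e5b6f.e8]; (try delta Cfsg.Agent.H738.E83.brk Cfsg.Agent.H738.E83.brkN); (try generalize @Cfsg.Agent.H738.E83.st0 = g0); (try generalize @Cfsg.Agent.H738.E83.stp = g1); (try generalize @Cfsg.Agent.ChevalleyStructure.JacTab.rbr = g2); (try generalize @Cfsg.Agent.ChevalleyStructure.JacTab.rowAt = g3); rfl') | exact @Cfsg.Agent.H738.E83.brk | exact ()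
private theorem _root_.Cfsg.Agent.KO98e5b6f.e9 : (by first | exact @Cfsg.Agent.H738.E83.brk = @_root_.Cfsg.Agent.KO98e5b6f.k9 | exact True : Prop) := by first | (delta _root_.Cfsg.Agent.KO98e5b6f.k9; exact @Subtype.property _ (fun g => @Cfsg.Agent.H738.E83.brk = @g) _) | rfl | trivial
private noncomputable def _root_.Cfsg.Agent.KO98e5b6f.k10 : (by first | exact type_of% @Cfsg.Agent.H738.E83.aw | exact Unit : Sort _) := by first | (refine @Subtype.val _ (fun g => @Cfsg.Agent.H738.E83.aw = @g) (@Subtype.mk _ _ (@(fun (x0 : @List.{0} @Cfsg.Agent.ChevalleyStructure.JacTab.Row) (x1 : @List.{0} (@Prod.{0, 0} @Nat @Bool)) (x2 : @Cfsg.Agent.H738.E83.St) => @Prod.rec.{1, 0, 0} @Nat @Nat @(fun (x3 : @Cfsg.Agent.H738.E83.St) => @Cfsg.Agent.H738.E83.St) @(fun (x3 : @Nat) (x4 : @Nat) => @List.rec.{1, 0} (@Prod.{0, 0} @Nat @Bool) @(fun (x5 : @List.{0} (@Prod.{0, 0} @Nat @Bool)) => @Cfsg.Agent.H738.E83.St)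 @Cfsg.Agent.H738.E83.st0 @(fun (x5 : @Prod.{0, 0} @Nat @Bool) (x6 : @List.{0} (@Prod.{0, 0} @Nat @Bool)) (x7 : @Cfsg.Agent.H738.E83.St) => @Cfsg.Agent.KO98e5b6f.k2 (@Bool.rec.{1} @(fun (x8 : @Bool) => @Cfsg.Agent.H738.E83.St) (@Prod.rec.{1, 0, 0} @Nat @Nat @(fun (x8 : @Cfsg.Agent.H738.E83.St) => @Cfsg.Agent.H738.E83.St) @(fun (x8 : @Nat) (x9 : @Nat) => @Prod.mk.{0, 0} @Nat @Nat @x9 @x8) (@Cfsg.Agent.KO98e5b6f.k9 @x0 (@Prod.fst.{0, 0} @Nat @Bool @x5) (@Prod.mk.{0, 0} @Nat @Nat @x3 @x4))) (@Cfsg.Agent.KO98e5b6f.k9 @x0 (@Prod.fst.{0, 0} @Nat @Bool @x5) (@Prod.mk.{0, 0} @Nat @Nat @x3 @x4)) (@Prod.snd.{0, 0} @Nat @Bool @x5)) @x7) @x1) @x2)) ?_); rewrite [← Cfsg.Agent.KO98e5b6f.e2, ← Cfsg.Agent.KO98e5b6f.e9]; (try delta Cfsg.Agent.H738.E83.aw Cfsg.Agent.H738.E83.ng); (try generalize @Cfsg.Agent.H738.E83.st0 = g0); (try generalize @Cfsg.Agent.H738.E83.ad3 = g1); (try generalize @Cfsg.Agent.H738.E83.brk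 = g2); rfl') | exact @Cfsg.Agent.H738.E83.aw | exact ()
private theorem _root_.Cfsg.Agent.KO98e5b6f.e10 : (by first | exact @Cfsg.Agent.H738.E83.aw = @_root_.Cfsg.Agent.KO98e5b6f.k10 | exact True : Prop) := by first | (delta _root_.Cfsg.Agent.KO98e5b6f.k10; exact @Subtype.property _ (fun g => @Cfsg.Agent.H738.E83.aw = @g) _) | rfl | trivial
private noncomputable def _root_.Cfsg.Agent.KO98e5b6f.k14 : (by first | exact type_of% @Cfsg.Agent.H738.E83.vs | exact Unit : Sort _) := by first | (refine @Subtype.val _ (fun g => @Cfsg.Agent.H738.E83.vs = @g) (@Subtype.mk _ _ (@(fun (x0 : @List.{0} (@Prod.{0, 0} @Nat @Bool)) => @List.rec.{1, 0} (@Prod.{0, 0} @Nat @Bool) @(fun (x1 : @List.{0} (@Prod.{0, 0} @Nat @Bool)) => @Cfsg.Agent.H738.E83.St) @Cfsg.Agent.H738.E83.st0 @(fun (x1 : @Prod.{0, 0} @Nat @Bool) (x2 : @List.{0} (@Prod.{0, 0} @Nat @Bool)) (x3 : @Cfsg.Agent.H738.E83.St) => @Cfsg.Agent.KO98e5b6f.k2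 (@Cfsg.Agent.KO98e5b6f.k3 (@Bool.rec.{1} @(fun (x4 : @Bool) => @Cfsg.Agent.H738.E83.St) (@Prod.mk.{0, 0} @Nat @Nat (nat_lit 0) (nat_lit 1)) (@Prod.mk.{0, 0} @Nat @Nat (nat_lit 1) (nat_lit 0)) (@Prod.snd.{0, 0} @Nat @Bool @x1)) (@Prod.fst.{0, 0} @Nat @Bool @x1)) @x3) @x0)) ?_); rewrite [← Cfsg.Agent.KO98e5b6f.e2, ← Cfsg.Agent.KO98e5b6f.e3]; (try delta Cfsg.Agent.H738.E83.vs); (try generalize @Cfsg.Agent.H738.E83.st0 = g0); (try generalize @Cfsg.Agent.H738.E83.ad3 = g1); (try generalize @Cfsg.Agent.H738.E83.pt = g2); rfl') | exact @Cfsg.Agent.H738.E83.vs | exact ()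
private theorem _root_.Cfsg.Agent.KO98e5b6f.e14 : (by first | exact @Cfsg.Agent.H738.E83.vs = @_root_.Cfsg.Agent.KO98e5b6f.k14 | exact True : Prop) := by first | (delta _root_.Cfsg.Agent.KO98e5b6f.k14; exact @Subtype.property _ (fun g => @Cfsg.Agent.H738.E83.vs = @g) _) | rfl | trivial
private theorem _root_.Cfsg.Agent.KO98e5b6f.e15.{ku, kv} {α : Type kv} {M : List α → Sort ku} (φ : ∀ l, M l) {z : M List.nil} {s : ∀ a l, M l → M (List.cons a l)} (h0 : φ List.nil = z) (hs : ∀ a l, φ (List.cons a l) = s a l (φ l)) (l : List α) : φ l = @List.rec α M z s l := List.rec h0 (fun a l ih => (hs a l).trans (congrArg (s a l) ih)) l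
private noncomputable def _root_.Cfsg.Agent.KO98e5b6f.k16.{ku0, ku1} : ((x0 : Sort (ku0+1)) → ((x1 : Sort (ku1+1)) → ((x0 → x1) → ((@List.{ku0} @x0) → @List.{ku1} @x1)))) := @(fun (x0 : Sort (ku0+1)) (x1 : Sort (ku1+1)) (x2 : (x0 → x1)) (x3 : @List.{ku0} @x0) => @List.rec.{(ku1+1), ku0} @x0 @(fun (x4 : @List.{ku0} @x0) => @List.{ku1} @x1) (@List.nil.{ku1} @x1) @(fun (x4 : x0) (x5 : @List.{ku0} @x0) (x6 : @List.{ku1} @x1) => @List.cons.{ku1} @x1 (@x2 @x4) @x6) @x3)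
private theorem _root_.Cfsg.Agent.KO98e5b6f.e16.{ku0, ku1} : @List.map.{ku0, ku1} = @_root_.Cfsg.Agent.KO98e5b6f.k16.{ku0, ku1} := by delta _root_.Cfsg.Agent.KO98e5b6f.k16; funext a0 a1 a2 a3; refine (_root_.Cfsg.Agent.KO98e5b6f.e15 (fun a3 => @List.map.{ku0, ku1} a0 a1 a2 a3) ?_ (fun c0 c1 => ?_) a3 :) <;> (rfl')
private noncomputable def _root_.Cfsg.Agent.KO98e5b6f.k17 : (by first | exact type_of% @Cfsg.Agent.H738.E83.nl | exact Unit : Sort _) := by first | (refine @Subtype.val _ (fun g => @Cfsg.Agent.H738.E83.nl = @g) (@Subtype.mk _ _ (@(fun (x0 : @List.{0} (@Prod.{0, 0} @Nat @Bool)) => @Cfsg.Agent.KO98e5b6f.k16.{0, 0} (@Prod.{0, 0} @Nat @Bool) (@Prod.{0, 0} @Nat @Bool) @(fun (x1 : @Prod.{0, 0} @Nat @Bool) => @Prod.mk.{0, 0} @Nat @Bool (@Prod.fst.{0, 0} @Nat @Bool @x1) (@Bool.rec.{1} @(fun (x2 : @Bool) => @Bool) @Bool.true @Bool.false (@Prod.snd.{0, 0} @Nat @Bool @x1))) @x0)) ?_);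 rewrite [← Cfsg.Agent.KO98e5b6f.e16.{0, 0}]; rfl') | exact @Cfsg.Agent.H738.E83.nl | exact ()
private theorem _root_.Cfsg.Agent.KO98e5b6f.e17 : (by first | exact @Cfsg.Agent.H738.E83.nl = @_root_.Cfsg.Agent.KO98e5b6f.k17 | exact True : Prop) := by first | (delta _root_.Cfsg.Agent.KO98e5b6f.k17; exact @Subtype.property _ (fun g => @Cfsg.Agent.H738.E83.nl = @g) _) | rfl | trivial

theorem ncube_I {c d : ZMod 3} (hd : d ≠ 0) : cu (c • vb wI + d • vb wI') (er 14) ≠ 0 :=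
  three ((sem_cu (w := wI') (by decide +kernel) (sem_er (by decide +kernel))).ne_zero (by (first | (rewrite [Cfsg.Agent.KO98e5b6f.e10, Cfsg.Agent.KO98e5b6f.e14]; decide +kernel) | decide +kernel)))
    ((sem_cu (w := wI' ++ wI) (by decide +kernel) (sem_er (by decide +kernel))).ne_zero (by decide +kernel))
    ((sem_cu (w := wI' ++ nl wI) (by decide +kernel) (sem_er (by decide +kernel))).ne_zero (by (first | (rewrite [Cfsg.Agent.KO98e5b6f.e10, Cfsg.Agent.KO98e5b6f.e17, Cfsg.Agent.KO98e5b6f.e14]; decide +kernel) | decide +kernel))) hd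

theorem ncube_II {c d : ZMod 3} (hd : d ≠ 0) : cu (c • vb wII + d • vb wII') (er 0) ≠ 0 :=
  three ((sem_cu (w := wII') (by decide +kernel) (sem_er (by decide +kernel))).ne_zero (by decide +kernel))
    ((sem_cu (w := wII' ++ wII) (by decide +kernel) (sem_er (by decide +kernel))).ne_zero (by decide +kernel))
    ((sem_cu (w := wII' ++ nl wII) (by decide +kernel) (sem_er (by decide +kernel))).ne_zero (by decide +kernel)) hd

/-- equivariance of the cube -/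
theorem mx_cu (g : ↥(chevE8.group (ZMod 3))) (v u : L3) : mx g *ᵥ cu v u = cu (mx g *ᵥ v) (mx g *ᵥ u) := by
  unfold cu
  rw [mx_br, mx_br, mx_br]

end Cfsg.Agent.H738.E83
end

-- part: H455/E83/FixDat
section
/-!
# Data for the fixed spaces of the two `A₅` (helper455, S5925, box L)

Engine: helper74 (`H74/E83`). Rows `(1, i)` : `y - 1`, `(2, i)` : `t - 1`, `(3, i)` : `t x - x` (resp. `t x⁻¹ - x⁻¹`),
`(4, i)` : the coordinate `i`.
-/

set_option autoImplicit false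
set_option maxRecDepth 100000

namespace Cfsg.Agent.H455.E83

open Cfsg.Agent.H74.E83 Cfsg.Agent.H74.E83.Trit Cfsg.Agent.H74.E83.Code Cfsg.Agent.H74.E83.Elim

/-- the word of `x⁻¹` in the root elements `x_r(1)` -/
def wXi : List ℕ :=
  [3, 1, 1, 238, 238, 2, 2, 120, 120, 114, 123, 123, 236, 236, 121, 70, 76, 76, 163, 163, 75, 104, 147, 147, 98,
   169, 169, 109, 109]

/-- the matrix of `x⁻¹` -/
def mXi : ℕ := wc TX wXi (idM 248)

/-- the word of `t x⁻¹` in the root elements `x_r(1)` -/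
def wTXi : List ℕ :=
  [120, 120, 114, 114, 117, 0, 0, 120, 120, 122, 117, 122, 3, 1, 1, 238, 238, 2, 2, 120, 120, 114, 123, 123, 236,
   236, 121, 104, 147, 136, 77, 104, 103, 136, 103, 70, 76, 76, 163, 163, 75, 104, 147, 147, 98, 169, 169, 109,
   109]

/-- the matrix of `t x⁻¹` -/
def mTXi : ℕ := wc TX wTXi (idM 248)

/-- rows, second case -/
def selJ : List (ℕ × ℕ) :=
  [(1, 4), (2, 32), (2, 43), (2, 51), (2, 73), (2, 91), (2, 104), (2, 111), (2, 129), (2, 135), (1, 171), (1, 177),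
   (2, 179), (2, 189), (2, 210), (2, 231), (2, 236), (2, 240), (1, 246), (4, 195), (4, 217), (2, 245), (2, 172),
   (1, 172), (1, 236), (1, 242), (1, 245), (2, 217), (2, 234), (1, 233), (1, 231), (1, 238), (2, 169), (2, 89), (1,
   234), (2, 241), (1, 239), (1, 87), (2, 232), (1, 232), (1, 91), (2, 88), (1, 90), (2, 1), (2, 11), (2, 22), (2,
   41), (2, 62), (2, 106), (2, 109), (2, 131), (2, 147), (2, 174), (2, 194), (2, 208), (1, 220), (2, 33), (2, 198),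
   (2, 63), (2, 110), (2, 83), (1, 117), (2, 149), (2, 10), (2, 124), (1, 129), (2, 12), (2, 134), (2, 23), (2,
   178), (1, 180), (2, 153), (2, 167), (2, 215), (2, 40), (1, 179), (2, 127), (2, 143), (2, 27), (2, 187), (2,
   230), (3, 143), (1, 149), (1, 111), (1, 83), (3, 127), (1, 124), (1, 130), (1, 10), (2, 192), (1, 7), (2, 8),
   (3, 125), (1, 8), (3, 11), (3, 131), (3, 9), (1, 11), (2, 128), (1, 23), (2, 49), (2, 98), (1, 178), (1, 181),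
   (2, 29), (1, 192), (1, 195), (3, 158), (1, 185), (1, 29), (1, 182), (2, 145), (2, 14), (2, 36), (2, 203), (2,
   219), (2, 77), (2, 121), (2, 31), (2, 196), (2, 224), (2, 102), (2, 190), (2, 70), (2, 81), (1, 199), (1, 205),
   (2, 85), (3, 1), (2, 155), (2, 84), (1, 3), (1, 150), (3, 155), (1, 85), (3, 106), (2, 162), (2, 157), (2, 214),
   (1, 215), (1, 189), (1, 148), (1, 200), (1, 167), (2, 166), (1, 197), (1, 201), (1, 196), (2, 212), (1, 202),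
   (1, 204), (3, 30), (1, 206), (1, 169), (1, 164), (1, 30), (1, 33), (1, 32), (2, 45), (1, 37), (1, 47), (1, 34),
   (1, 45), (3, 189), (3, 196), (3, 31), (1, 18), (1, 28), (1, 20), (2, 19), (3, 166), (2, 159), (2, 113), (2, 93),
   (2, 52), (2, 59), (1, 81), (1, 103), (1, 109), (1, 221), (1, 219), (2, 228), (1, 210), (1, 218), (3, 39), (2,
   222), (1, 225), (3, 87), (2, 57), (2, 38), (2, 65), (3, 65), (1, 49), (1, 50), (1, 53), (3, 89), (3, 48), (1,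
   41), (2, 56), (1, 48), (3, 224), (3, 41), (3, 230), (3, 86), (2, 68), (3, 91), (2, 96), (1, 158), (1, 153), (1,
   136), (1, 147), (2, 151), (3, 147), (2, 140), (3, 185), (1, 140), (2, 160), (1, 162), (1, 146), (3, 153), (3,
   148), (3, 194), (3, 161), (3, 140), (1, 16), (1, 17), (1, 62), (1, 94), (1, 115), (1, 72), (1, 98), (1, 102),
   (1, 120), (3, 93), (1, 104), (1, 108), (3, 231), (3, 113), (3, 102), (3, 121), (3, 104), (3, 99), (3, 110), (2,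
   108), (1, 79), (1, 80), (3, 60), (3, 243)]

/-- pivot columns, second case -/
def colJ : List ℕ :=
  [245, 201, 43, 221, 95, 91, 104, 117, 129, 136, 177, 172, 180, 199, 210, 238, 236, 240, 244, 195, 217, 246, 171,
   170, 234, 243, 247, 191, 237, 232, 233, 242, 169, 89, 235, 241, 239, 86, 231, 226, 87, 88, 90, 100, 133, 176,
   41, 72, 105, 115, 132, 147, 174, 194, 211, 220, 33, 198, 63, 110, 83, 143, 149, 10, 124, 127, 12, 137, 23, 178,
   192, 153, 167, 189, 40, 179, 131, 106, 27, 187, 208, 144, 111, 155, 85, 125, 130, 122, 8, 173, 126, 11, 9, 6, 4,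
   5, 123, 7, 128, 29, 53, 94, 181, 193, 22, 182, 184, 183, 185, 24, 175, 148, 14, 36, 203, 219, 77, 116, 31, 196,
   224, 102, 190, 73, 62, 213, 188, 78, 0, 3, 112, 150, 138, 2, 84, 1, 141, 158, 214, 204, 215, 152, 216, 166, 165,
   212, 197, 200, 186, 202, 207, 205, 206, 164, 168, 45, 46, 30, 26, 37, 47, 25, 35, 32, 34, 44, 19, 28, 18, 20,
   21, 159, 121, 93, 52, 59, 74, 107, 109, 229, 230, 209, 222, 228, 227, 225, 223, 218, 57, 42, 69, 65, 49, 50, 64,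
   55, 56, 66, 67, 68, 39, 51, 48, 54, 38, 58, 96, 162, 145, 135, 151, 154, 146, 140, 163, 142, 156, 139, 134, 161,
   160, 157, 15, 16, 17, 13, 79, 103, 118, 70, 113, 108, 92, 99, 101, 119, 97, 81, 76, 82, 120, 98, 60, 114, 75,
   80, 61, 71]

/-- the selected row -/
def rwJ (e : ℕ × ℕ) : ℕ :=
  match e.1 with
  | 1 => fixRow mY e.2
  | 2 => fixRow mT e.2
  | 3 => tsub (row mTXi e.2) (row mXi e.2)
  | _ => tun e.2

private noncomputable def _root_.Cfsg.Agent.KO98e5b6f.k18 : (by first | exact type_of% @Cfsg.Agent.H74.E83.Trit.tneg | exact Unit : Sort _) := by first | (refine @Subtype.val _ (fun g => @Cfsg.Agent.H74.E83.Trit.tneg = @g) (@Subtype.mk _ _ (@(fun (x0 : @Nat) => @Nat.lor (@Nat.shiftRight @x0 (nat_lit 256)) (@Nat.shiftLeft (@Nat.land @x0 (@Nat.sub (@Nat.pow (nat_lit 2) (nat_lit 256)) (nat_lit 1))) (nat_lit 256)))) ?_); rfl') | exact @Cfsg.Agent.H74.E83.Trit.tneg | exact ()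
private theorem _root_.Cfsg.Agent.KO98e5b6f.e18 : (by first | exact @Cfsg.Agent.H74.E83.Trit.tneg = @_root_.Cfsg.Agent.KO98e5b6f.k18 | exact True : Prop) := by first | (delta _root_.Cfsg.Agent.KO98e5b6f.k18; exact @Subtype.property _ (fun g => @Cfsg.Agent.H74.E83.Trit.tneg = @g) _) | rfl | trivial
private noncomputable def _root_.Cfsg.Agent.KO98e5b6f.k19 : (by first | exact type_of% @Cfsg.Agent.H74.E83.Trit.dbl | exact Unit : Sort _) := by first | (refine @Subtype.val _ (fun g => @Cfsg.Agent.H74.E83.Trit.dbl = @g) (@Subtype.mk _ _ (@(fun (x0 : @Nat) => @Nat.lor @x0 (@Nat.shiftLeft @x0 (nat_lit 256)))) ?_); rfl') | exact @Cfsg.Agent.H74.E83.Trit.dbl | exact ()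
private theorem _root_.Cfsg.Agent.KO98e5b6f.e19 : (by first | exact @Cfsg.Agent.H74.E83.Trit.dbl = @_root_.Cfsg.Agent.KO98e5b6f.k19 | exact True : Prop) := by first | (delta _root_.Cfsg.Agent.KO98e5b6f.k19; exact @Subtype.property _ (fun g => @Cfsg.Agent.H74.E83.Trit.dbl = @g) _) | rfl | trivial
private noncomputable def _root_.Cfsg.Agent.KO98e5b6f.k20 : (by first | exact type_of% @Cfsg.Agent.H74.E83.Trit.tt | exact Unit : Sort _) := by first | (refine @Subtype.val _ (fun g => @Cfsg.Agent.H74.E83.Trit.tt = @g) (@Subtype.mk _ _ (@(fun (x0 : @Nat) => @Nat.land (@Nat.xor @x0 (@Nat.shiftRight @x0 (nat_lit 256))) (@Nat.sub (@Nat.pow (nat_lit 2) (nat_lit 256)) (nat_lit 1)))) ?_); rfl') | exact @Cfsg.Agent.H74.E83.Trit.tt | exact ()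
private theorem _root_.Cfsg.Agent.KO98e5b6f.e20 : (by first | exact @Cfsg.Agent.H74.E83.Trit.tt = @_root_.Cfsg.Agent.KO98e5b6f.k20 | exact True : Prop) := by first | (delta _root_.Cfsg.Agent.KO98e5b6f.k20; exact @Subtype.property _ (fun g => @Cfsg.Agent.H74.E83.Trit.tt = @g) _) | rfl | trivial
private noncomputable def _root_.Cfsg.Agent.KO98e5b6f.k21 : (by first | exact type_of% @Cfsg.Agent.H74.E83.Trit.tadd | exact Unit : Sort _) := by first | (refine @Subtype.val _ (fun g => @Cfsg.Agent.H74.E83.Trit.tadd = @g) (@Subtype.mk _ _ (@(fun (x0 : @Nat) (x1 : @Nat) => @Nat.xor (@Cfsg.Agent.KO98e5b6f.k18 (@Nat.lor @x0 @x1)) (@Cfsg.Agent.KO98e5b6f.k19 (@Cfsg.Agent.KO98e5b6f.k20 (@Nat.lor @x0 (@Cfsg.Agent.KO98e5b6f.k18 @x1)))))) ?_); rewrite [← Cfsg.Agent.KO98e5b6f.e18, ← Cfsg.Agent.KO98e5b6f.e19, ← Cfsg.Agent.KO98e5b6f.e20]; (try delta Cfsg.Agent.H74.E83.Trit.tadd); (try generalize @Cfsg.Agent.H74.E83.Trit.tneg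 = g0); (try generalize @Cfsg.Agent.H74.E83.Trit.dbl = g1); (try generalize @Cfsg.Agent.H74.E83.Trit.tt = g2); rfl') | exact @Cfsg.Agent.H74.E83.Trit.tadd | exact ()
private theorem _root_.Cfsg.Agent.KO98e5b6f.e21 : (by first | exact @Cfsg.Agent.H74.E83.Trit.tadd = @_root_.Cfsg.Agent.KO98e5b6f.k21 | exact True : Prop) := by first | (delta _root_.Cfsg.Agent.KO98e5b6f.k21; exact @Subtype.property _ (fun g => @Cfsg.Agent.H74.E83.Trit.tadd = @g) _) | rfl | trivial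
private noncomputable def _root_.Cfsg.Agent.KO98e5b6f.k22 : (by first | exact type_of% @Cfsg.Agent.H74.E83.Trit.tsub | exact Unit : Sort _) := by first | (refine @Subtype.val _ (fun g => @Cfsg.Agent.H74.E83.Trit.tsub = @g) (@Subtype.mk _ _ (@(fun (x0 : @Nat) (x1 : @Nat) => @Nat.xor (@Cfsg.Agent.KO98e5b6f.k18 (@Nat.lor @x0 (@Cfsg.Agent.KO98e5b6f.k18 @x1))) (@Cfsg.Agent.KO98e5b6f.k19 (@Cfsg.Agent.KO98e5b6f.k20 (@Nat.lor @x0 @x1))))) ?_); rewrite [← Cfsg.Agent.KO98e5b6f.e18, ← Cfsg.Agent.KO98e5b6f.e19, ← Cfsg.Agent.KO98e5b6f.e20]; (try delta Cfsg.Agent.H74.E83.Trit.tsub); (try generalize @Cfsg.Agent.H74.E83.Trit.tneg = g0); (try generalize @Cfsg.Agent.H74.E83.Trit.dbl = g1); (try generalize @Cfsg.Agent.H74.E83.Trit.tt = g2); rfl') | exact @Cfsg.Agent.H74.E83.Trit.tsub | exact ()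
private theorem _root_.Cfsg.Agent.KO98e5b6f.e22 : (by first | exact @Cfsg.Agent.H74.E83.Trit.tsub = @_root_.Cfsg.Agent.KO98e5b6f.k22 | exact True : Prop) := by first | (delta _root_.Cfsg.Agent.KO98e5b6f.k22; exact @Subtype.property _ (fun g => @Cfsg.Agent.H74.E83.Trit.tsub = @g) _) | rfl | trivial
private noncomputable def _root_.Cfsg.Agent.KO98e5b6f.k23 : (by first | exact type_of% @Cfsg.Agent.H74.E83.Elim.red | exact Unit : Sort _) := by first | (refine @Subtype.val _ (fun g => @Cfsg.Agent.H74.E83.Elim.red = @g) (@Subtype.mk _ _ (@(fun (x0 : @Nat) (x1 : @Nat) (x2 : @Nat) => @Bool.rec.{1} @(fun (x3 : @Bool) => @Nat) (@Bool.rec.{1} @(fun (x3 : @Bool) => @Nat) @x2 (@Cfsg.Agent.KO98e5b6f.k21 @x2 @x0) (@Nat.beq (@Nat.land (@Nat.shiftRight @x2 (@Nat.add (nat_lit 256) @x1)) (nat_lit 1)) (nat_lit 1))) (@Cfsg.Agent.KO98e5b6f.k22 @x2 @x0) (@Nat.beq (@Nat.land (@Nat.shiftRight @x2 @x1) (nat_lit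 1)) (nat_lit 1)))) ?_); rewrite [← Cfsg.Agent.KO98e5b6f.e21, ← Cfsg.Agent.KO98e5b6f.e22]; (try delta Cfsg.Agent.H74.E83.Elim.red Cfsg.Agent.H74.E83.Elim.bt); (try generalize @Cfsg.Agent.H74.E83.Trit.tadd = g0); (try generalize @Cfsg.Agent.H74.E83.Trit.tsub = g1); rfl') | exact @Cfsg.Agent.H74.E83.Elim.red | exact ()
private theorem _root_.Cfsg.Agent.KO98e5b6f.e23 : (by first | exact @Cfsg.Agent.H74.E83.Elim.red = @_root_.Cfsg.Agent.KO98e5b6f.k23 | exact True : Prop) := by first | (delta _root_.Cfsg.Agent.KO98e5b6f.k23; exact @Subtype.property _ (fun g => @Cfsg.Agent.H74.E83.Elim.red = @g) _) | rfl | trivial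
private noncomputable def _root_.Cfsg.Agent.KO98e5b6f.k24 : (by first | exact type_of% @Cfsg.Agent.H74.E83.Elim.nrm | exact Unit : Sort _) := by first | (refine @Subtype.val _ (fun g => @Cfsg.Agent.H74.E83.Elim.nrm = @g) (@Subtype.mk _ _ (@(fun (x0 : @Nat) (x1 : @Nat) => @Bool.rec.{1} @(fun (x2 : @Bool) => @Nat) (@Cfsg.Agent.KO98e5b6f.k18 @x0) @x0 (@Nat.beq (@Nat.land (@Nat.shiftRight @x0 @x1) (nat_lit 1)) (nat_lit 1)))) ?_); rewrite [← Cfsg.Agent.KO98e5b6f.e18]; (try delta Cfsg.Agent.H74.E83.Elim.nrm Cfsg.Agent.H74.E83.Elim.bt); (try generalize @Cfsg.Agent.H74.E83.Trit.tneg = g0); rfl') | exact @Cfsg.Agent.H74.E83.Elim.nrm | exact ()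
private theorem _root_.Cfsg.Agent.KO98e5b6f.e24 : (by first | exact @Cfsg.Agent.H74.E83.Elim.nrm = @_root_.Cfsg.Agent.KO98e5b6f.k24 | exact True : Prop) := by first | (delta _root_.Cfsg.Agent.KO98e5b6f.k24; exact @Subtype.property _ (fun g => @Cfsg.Agent.H74.E83.Elim.nrm = @g) _) | rfl | trivial
private noncomputable def _root_.Cfsg.Agent.KO98e5b6f.k26 : (by first | exact type_of% @Cfsg.Agent.H74.E83.Elim.elim | exact Unit : Sort _) := by first | (refine @Subtype.val _ (fun g => @Cfsg.Agent.H74.E83.Elim.elim = @g) (@Subtype.mk _ _ (@(fun (x0 : @List.{0} @Nat) (x1 : @List.{0} @Nat) => @List.rec.{1, 0} @Nat @(fun (x2 : @List.{0} @Nat) => ((@List.{0} @Nat) → @Bool)) @(fun (x2 : @List.{0} @Nat) => @List.rec.{1, 0} @Nat @(fun (x3 : @List.{0} @Nat) => @Bool) @Bool.true @(fun (x3 : @Nat) (x4 : @List.{0} @Nat) (x5 : @Bool) => @Bool.false) @x2) @(fun (x2 : @Nat) (x3 : @List.{0} @Nat) (x4 : ((@List.{0}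 @Nat) → @Bool)) (x5 : @List.{0} @Nat) => @List.rec.{1, 0} @Nat @(fun (x6 : @List.{0} @Nat) => @Bool) @Bool.false @(fun (x6 : @Nat) (x7 : @List.{0} @Nat) (x8 : @Bool) => @Bool.rec.{1} @(fun (x9 : @Bool) => @Bool) @Bool.false (@x4 (@Cfsg.Agent.KO98e5b6f.k16.{0, 0} @Nat @Nat (@Cfsg.Agent.KO98e5b6f.k23 (@Cfsg.Agent.KO98e5b6f.k24 @x6 @x2) @x2) @x7)) (@Nat.beq (@Nat.land (@Nat.shiftRight (@Cfsg.Agent.KO98e5b6f.k24 @x6 @x2) @x2) (nat_lit 1)) (nat_lit 1))) @x5) @x1 @x0)) ?_); rewrite [← Cfsg.Agent.KO98e5b6f.e16.{0, 0}, ← Cfsg.Agent.KO98e5b6f.e23, ← Cfsg.Agent.KO98e5b6f.e24]; funext a0 a1; refine (congrFun (_root_.Cfsg.Agent.KO98e5b6f.e15 (fun a1 a0 => @Cfsg.Agent.H74.E83.Elim.elim a0 a1) ?_ (fun c0 c1 => ?_) a1) a0 :) <;> [(funext b0; (cases b0 with | @nil  => ((try delta Cfsg.Agent.H74.E83.Elim.elim Cfsg.Agent.H74.E83.Elim.elim._f Cfsg.Agent.H74.E83.Elim.bt); (try generalize @Cfsg.Agent.H74.E83.Elim.red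 = g0); (try generalize @Cfsg.Agent.H74.E83.Elim.nrm = g1); rfl') | @cons b0_0 b0_1 => ((try delta Cfsg.Agent.H74.E83.Elim.elim Cfsg.Agent.H74.E83.Elim.elim._f Cfsg.Agent.H74.E83.Elim.bt); (try generalize @Cfsg.Agent.H74.E83.Elim.red = g0); (try generalize @Cfsg.Agent.H74.E83.Elim.nrm = g1); rfl'))); (funext b0; (cases b0 with | @nil  => ((try delta Cfsg.Agent.H74.E83.Elim.elim Cfsg.Agent.H74.E83.Elim.elim._f Cfsg.Agent.H74.E83.Elim.bt); (try generalize @Cfsg.Agent.H74.E83.Elim.red = g0); (try generalize @Cfsg.Agent.H74.E83.Elim.nrm = g1); rfl') | @cons b0_0 b0_1 => ((try delta Cfsg.Agent.H74.E83.Elim.elim Cfsg.Agent.H74.E83.Elim.elim._f Cfsg.Agent.H74.E83.Elim.bt); (try generalize @Cfsg.Agent.H74.E83.Elim.red = g0); (try generalize @Cfsg.Agent.H74.E83.Elim.nrm = g1); rfl')))]) | exact @Cfsg.Agent.H74.E83.Elim.elim | exact ()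
private theorem _root_.Cfsg.Agent.KO98e5b6f.e26 : (by first | exact @Cfsg.Agent.H74.E83.Elim.elim = @_root_.Cfsg.Agent.KO98e5b6f.k26 | exact True : Prop) := by first | (delta _root_.Cfsg.Agent.KO98e5b6f.k26; exact @Subtype.property _ (fun g => @Cfsg.Agent.H74.E83.Elim.elim = @g) _) | rfl | trivial
private noncomputable def _root_.Cfsg.Agent.KO98e5b6f.k27 : (by first | exact type_of% @Cfsg.Agent.H74.E83.Code.row | exact Unit : Sort _) := by first | (refine @Subtype.val _ (fun g => @Cfsg.Agent.H74.E83.Code.row = @g) (@Subtype.mk _ _ (@(fun (x0 : @Nat) (x1 : @Nat) => @Nat.land (@Nat.shiftRight @x0 (@Nat.mul (nat_lit 512) @x1)) (@Nat.sub (@Nat.pow (nat_lit 2) (nat_lit 512)) (nat_lit 1)))) ?_); rfl') | exact @Cfsg.Agent.H74.E83.Code.row | exact ()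
private theorem _root_.Cfsg.Agent.KO98e5b6f.e27 : (by first | exact @Cfsg.Agent.H74.E83.Code.row = @_root_.Cfsg.Agent.KO98e5b6f.k27 | exact True : Prop) := by first | (delta _root_.Cfsg.Agent.KO98e5b6f.k27; exact @Subtype.property _ (fun g => @Cfsg.Agent.H74.E83.Code.row = @g) _) | rfl | trivial
private noncomputable def _root_.Cfsg.Agent.KO98e5b6f.k28 : ((x0 : @Nat) → ((x1 : @Nat) → @Decidable (@Eq.{1} @Nat @x0 @x1))) := @(fun (x0 : @Nat) (x1 : @Nat) => @Bool.rec.{1} @(fun (x2 : @Bool) => ((@Eq.{1} @Bool (@Nat.beq @x0 @x1) @x2) → @Decidable (@Eq.{1} @Nat @x0 @x1))) @(fun (x2 : @Eq.{1} @Bool (@Nat.beq @x0 @x1) @Bool.false) => @Decidable.isFalse (@Eq.{1} @Nat @x0 @x1) (@Nat.ne_of_beq_eq_false @x0 @x1 @x2)) @(fun (x2 : @Eq.{1} @Bool (@Nat.beq @x0 @x1) @Bool.true) => @Decidable.isTrue (@Eq.{1} @Nat @x0 @x1) (@Nat.eq_of_beq_eq_true @x0 @x1 @x2)) (@Nat.beq @x0 @x1) (@Eq.refl.{1} @Bool (@Nat.beq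 @x0 @x1)))
private theorem _root_.Cfsg.Agent.KO98e5b6f.e28 : @Nat.decEq = @_root_.Cfsg.Agent.KO98e5b6f.k28 := by delta _root_.Cfsg.Agent.KO98e5b6f.k28; rfl'
private noncomputable def _root_.Cfsg.Agent.KO98e5b6f.k29 : (by first | exact type_of% @Cfsg.Agent.H74.E83.Elim.fixRow | exact Unit : Sort _) := by first | (refine @Subtype.val _ (fun g => @Cfsg.Agent.H74.E83.Elim.fixRow = @g) (@Subtype.mk _ _ (@(fun (x0 : @Nat) (x1 : @Nat) => @Cfsg.Agent.KO98e5b6f.k22 (@Cfsg.Agent.KO98e5b6f.k27 @x0 @x1) (@Nat.shiftLeft (nat_lit 1) @x1))) ?_); rewrite [← Cfsg.Agent.KO98e5b6f.e22, ← Cfsg.Agent.KO98e5b6f.e27]; (try delta Cfsg.Agent.H74.E83.Elim.fixRow Cfsg.Agent.H74.E83.Trit.tun); (try generalize @Cfsg.Agent.H74.E83.Trit.tsub = g0); (try generalize @Cfsg.Agent.H74.E83.Code.row = g1); rfl') | exact @Cfsg.Agent.H74.E83.Elim.fixRow | exact ()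
private theorem _root_.Cfsg.Agent.KO98e5b6f.e29 : (by first | exact @Cfsg.Agent.H74.E83.Elim.fixRow = @_root_.Cfsg.Agent.KO98e5b6f.k29 | exact True : Prop) := by first | (delta _root_.Cfsg.Agent.KO98e5b6f.k29; exact @Subtype.property _ (fun g => @Cfsg.Agent.H74.E83.Elim.fixRow = @g) _) | rfl | trivial
private noncomputable def _root_.Cfsg.Agent.KO98e5b6f.k31 : (by first | exact type_of% @Cfsg.Agent.H455.E83.rwJ | exact Unit : Sort _) := by first | (refine @Subtype.val _ (fun g => @Cfsg.Agent.H455.E83.rwJ = @g) (@Subtype.mk _ _ (@(fun (x0 : @Prod.{0, 0} @Nat @Nat) => @Decidable.rec.{1} (@Eq.{1} @Nat (@Prod.fst.{0, 0} @Nat @Nat @x0) (@OfNat.ofNat.{0} @Nat (nat_lit 1) (@instOfNatNat (nat_lit 1)))) @(fun (x1 : @Decidable (@Eq.{1} @Nat (@Prod.fst.{0, 0} @Nat @Nat @x0) (@OfNat.ofNat.{0} @Nat (nat_lit 1) (@instOfNatNat (nat_lit 1))))) => @Nat) @(fun (x1 : @Not (@Eq.{1} @Nat (@Prod.fst.{0, 0}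 @Nat @Nat @x0) (@OfNat.ofNat.{0} @Nat (nat_lit 1) (@instOfNatNat (nat_lit 1))))) => @Decidable.rec.{1} (@Eq.{1} @Nat (@Prod.fst.{0, 0} @Nat @Nat @x0) (@OfNat.ofNat.{0} @Nat (nat_lit 2) (@instOfNatNat (nat_lit 2)))) @(fun (x2 : @Decidable (@Eq.{1} @Nat (@Prod.fst.{0, 0} @Nat @Nat @x0) (@OfNat.ofNat.{0} @Nat (nat_lit 2) (@instOfNatNat (nat_lit 2))))) => @Nat) @(fun (x2 : @Not (@Eq.{1} @Nat (@Prod.fst.{0, 0} @Nat @Nat @x0) (@OfNat.ofNat.{0} @Nat (nat_lit 2) (@instOfNatNat (nat_lit 2))))) => @Decidable.rec.{1} (@Eq.{1} @Nat (@Prod.fst.{0, 0} @Nat @Nat @x0) (@OfNat.ofNat.{0} @Nat (nat_lit 3) (@instOfNatNat (nat_lit 3)))) @(fun (x3 : @Decidable (@Eq.{1} @Nat (@Prod.fst.{0, 0} @Nat @Nat @x0) (@OfNat.ofNat.{0} @Nat (nat_lit 3) (@instOfNatNat (nat_lit 3))))) => @Nat) @(fun (x3 : @Not (@Eq.{1} @Nat (@Prod.fst.{0, 0} @Nat @Nat @x0) (@OfNat.ofNat.{0} @Nat (nat_lit 3) (@instOfNatNat (nat_lit 3)))))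 => @Nat.shiftLeft (nat_lit 1) (@Prod.snd.{0, 0} @Nat @Nat @x0)) @(fun (x3 : @Eq.{1} @Nat (@Prod.fst.{0, 0} @Nat @Nat @x0) (@OfNat.ofNat.{0} @Nat (nat_lit 3) (@instOfNatNat (nat_lit 3)))) => @Eq.rec.{1, 1} @Nat (nat_lit 3) @(fun (x4 : @Nat) (x5 : @Eq.{1} @Nat (@OfNat.ofNat.{0} @Nat (nat_lit 3) (@instOfNatNat (nat_lit 3))) @x4) => @Nat) (@Cfsg.Agent.KO98e5b6f.k22 (@Cfsg.Agent.KO98e5b6f.k27 @Cfsg.Agent.H455.E83.mTXi (@Prod.snd.{0, 0} @Nat @Nat @x0)) (@Cfsg.Agent.KO98e5b6f.k27 @Cfsg.Agent.H455.E83.mXi (@Prod.snd.{0, 0} @Nat @Nat @x0))) (@Prod.fst.{0, 0} @Nat @Nat @x0) (@Eq.symm.{1} @Nat (@Prod.fst.{0, 0} @Nat @Nat @x0) (@OfNat.ofNat.{0} @Nat (nat_lit 3) (@instOfNatNat (nat_lit 3))) @x3)) (@Cfsg.Agent.KO98e5b6f.k28 (@Prod.fst.{0, 0} @Nat @Nat @x0) (nat_lit 3))) @(fun (x2 : @Eq.{1} @Nat (@Prod.fst.{0, 0} @Nat @Nat @x0) (@OfNat.ofNat.{0} @Nat (nat_lit 2) (@instOfNatNat (nat_lit 2)))) => @Eq.rec.{1,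 1} @Nat (nat_lit 2) @(fun (x3 : @Nat) (x4 : @Eq.{1} @Nat (@OfNat.ofNat.{0} @Nat (nat_lit 2) (@instOfNatNat (nat_lit 2))) @x3) => @Nat) (@Cfsg.Agent.KO98e5b6f.k29 @Cfsg.Agent.H74.E83.mT (@Prod.snd.{0, 0} @Nat @Nat @x0)) (@Prod.fst.{0, 0} @Nat @Nat @x0) (@Eq.symm.{1} @Nat (@Prod.fst.{0, 0} @Nat @Nat @x0) (@OfNat.ofNat.{0} @Nat (nat_lit 2) (@instOfNatNat (nat_lit 2))) @x2)) (@Cfsg.Agent.KO98e5b6f.k28 (@Prod.fst.{0, 0} @Nat @Nat @x0) (nat_lit 2))) @(fun (x1 : @Eq.{1} @Nat (@Prod.fst.{0, 0} @Nat @Nat @x0) (@OfNat.ofNat.{0} @Nat (nat_lit 1) (@instOfNatNat (nat_lit 1)))) => @Eq.rec.{1, 1} @Nat (nat_lit 1) @(fun (x2 : @Nat) (x3 : @Eq.{1} @Nat (@OfNat.ofNat.{0} @Nat (nat_lit 1) (@instOfNatNat (nat_lit 1))) @x2) => @Nat) (@Cfsg.Agent.KO98e5b6f.k29 @Cfsg.Agent.H74.E83.mY (@Prod.snd.{0, 0} @Nat @Nat @x0)) (@Prod.fst.{0, 0} @Nat @Nat @x0) (@Eq.symm.{1} @Nat (@Prod.fst.{0, 0} @Nat @Nat @x0) (@OfNat.ofNat.{0}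 @Nat (nat_lit 1) (@instOfNatNat (nat_lit 1))) @x1)) (@Cfsg.Agent.KO98e5b6f.k28 (@Prod.fst.{0, 0} @Nat @Nat @x0) (nat_lit 1)))) ?_); rewrite [← Cfsg.Agent.KO98e5b6f.e22, ← Cfsg.Agent.KO98e5b6f.e27, ← Cfsg.Agent.KO98e5b6f.e28, ← Cfsg.Agent.KO98e5b6f.e29]; (try delta Cfsg.Agent.H455.E83.rwJ Cfsg.Agent.H74.E83.Trit.tun); (try generalize @Cfsg.Agent.H74.E83.Trit.tsub = g0); (try generalize @Cfsg.Agent.H74.E83.Code.row = g1); (try generalize @Cfsg.Agent.H455.E83.mTXi = g2); (try generalize @Cfsg.Agent.H455.E83.mXi = g3); (try generalize @Cfsg.Agent.H74.E83.Elim.fixRow = g4); (try generalize @Cfsg.Agent.H74.E83.mT = g5); (try generalize @Cfsg.Agent.H74.E83.mY = g6); rfl') | exact @Cfsg.Agent.H455.E83.rwJ | exact ()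
private theorem _root_.Cfsg.Agent.KO98e5b6f.e31 : (by first | exact @Cfsg.Agent.H455.E83.rwJ = @_root_.Cfsg.Agent.KO98e5b6f.k31 | exact True : Prop) := by first | (delta _root_.Cfsg.Agent.KO98e5b6f.k31; exact @Subtype.property _ (fun g => @Cfsg.Agent.H455.E83.rwJ = @g) _) | rfl | trivial

theorem elimJ : elim (selJ.map rwJ) colJ = true := by (first | (rewrite [Cfsg.Agent.KO98e5b6f.e26, Cfsg.Agent.KO98e5b6f.e16.{0, 0}, Cfsg.Agent.KO98e5b6f.e31]; decide +kernel) | decide +kernel)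

end Cfsg.Agent.H455.E83
end

-- part: H455/E83/Q
section
/-!
# S5925, box L: the vectors `q_I, q_I', q_II, q_II'` (helper455)

Bases of the fixed spaces of the two subgroups `A₅` over `⟨y, t⟩` on the Lie algebra of `E₈(3)`.
-/

set_option autoImplicit false

namespace Cfsg.Agent.H455.E83

open Cfsg.Agent.H64.E83 (L3 vec)

def lII : List (ℕ × ℤ) := [(14, 1), (127, 2), (133, 1), (140, 2), (165, 1), (171, 1), (176, 1), (187, 1)]

def lII' : List (ℕ × ℤ) := [(10, 1), (11, 2), (13, 1), (17, 1), (18, 1), (19, 2), (22, 1), (24, 2), (25, 2), (26, 1),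
  (27, 1), (28, 2), (29, 1), (36, 1), (37, 2), (39, 1), (157, 2), (158, 1), (159, 2), (161, 2), (178, 2), (179, 2),
  (180, 1), (181, 2), (182, 1), (183, 2), (189, 1), (190, 2), (192, 1), (195, 2), (196, 2), (197, 1), (198, 1),
  (205, 1), (206, 2), (207, 1), (209, 1)]

/-- `q_II` -/
def qII : L3 := vec lII

/-- the second basis vector -/
def qII' : L3 := vec lII'

end Cfsg.Agent.H455.E83
end

-- part: H455/E83/Fix
section
/-!
# The fixed spaces of the two subgroups `A₅ ≥ ⟨y, t⟩` of `S = ⟨x, y, t⟩` (helper455, S5925, box L)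

`fixI`  : `y v = v`, `t v = v`, `t (x v) = x v` imply `v ∈ ⟨q_I, q_I'⟩`;
`fixII` : `y v = v`, `t v = v`, `t (x⁻¹ v) = x⁻¹ v` imply `v ∈ ⟨q_II, q_II'⟩`.
The engine is that of helper74 (packed rows, elimination in the kernel).
-/

set_option autoImplicit false
set_option maxRecDepth 100000

namespace Cfsg.Agent.H455.E83

open Matrix Cfsg Cfsg.Lie
open Cfsg.Agent.H64.E83 (L3 mx vec Ph er cf vec_inr vec_inl vec_nil vec_cons mx_mul)
open Cfsg.Agent.H788.E83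
open Cfsg.Agent.H74.E83 Cfsg.Agent.H74.E83.Trit Cfsg.Agent.H74.E83.Code Cfsg.Agent.H74.E83.Elim
open Cfsg.Agent.H74.E83.Trip
open Cfsg.Agent.H751.Two.Word (sz pos posOK)

/-! ### rows -/

theorem ann_sub {D : ChevalleyDatum} (hs : sz D ≤ 256) {v : D.Idx → ZMod 3} {V W : ℕ} (hV : VldM V) (hW : VldM W)
    (hv : (semM D V).mulVec v = (semM D W).mulVec v) {i : ℕ} (hi : i < sz D) : Ann v (tsub (row V i) (row W i)) := by
  obtain ⟨k, rfl⟩ := (posOK D).surj i hi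
  refine ⟨vld_sub (hV _) (hW _), ?_⟩
  unfold dotp
  have h1 := congrFun hv k
  rw [Matrix.mulVec, dotProduct, Matrix.mulVec, dotProduct] at h1
  rw [Finset.sum_congr rfl fun j _ => by rw [val_sub (hV _) (hW _) (pos_lt hs j), sub_mul], Finset.sum_sub_distrib]
  rw [sub_eq_zero]
  exact h1

theorem ann_un {D : ChevalleyDatum} (hs : sz D ≤ 256) {v : D.Idx → ZMod 3} {k : D.Idx} (h : v k = 0) :
    Ann v (tun (pos D k)) := by
  have hk : pos D k < 256 := pos_lt hs k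
  refine ⟨vld_un hk, ?_⟩
  unfold dotp
  rw [Finset.sum_eq_single k]
  · rw [h, mul_zero]
  · intro j _ hj
    rw [val_un hk, if_neg (fun h => hj ((posOK D).inj h)), zero_mul]
  · intro h5
    exact absurd (Finset.mem_univ _) h5

theorem dotp_add {D : ChevalleyDatum} (w : ℕ) (u v : D.Idx → ZMod 3) : dotp w (u + v) = dotp w u + dotp w v := by
  unfold dotp
  rw [← Finset.sum_add_distrib]
  exact Finset.sum_congr rfl fun j _ => mul_add _ _ _

theorem dotp_smul {D : ChevalleyDatum} (w : ℕ) (c : ZMod 3) (v : D.Idx → ZMod 3) : dotp w (c • v) = c * dotp w v := by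
  unfold dotp
  rw [Finset.mul_sum]
  exact Finset.sum_congr rfl fun j _ => mul_left_comm _ _ _

theorem dotp_zero {D : ChevalleyDatum} (w : ℕ) : dotp w (0 : D.Idx → ZMod 3) = 0 := by
  unfold dotp
  exact Finset.sum_eq_zero fun j _ => mul_zero _

/-! ### the value on a sparse vector -/

/-- the value -/
def cn (w : ℕ) : List (ℕ × ℤ) → ℕ
  | [] => 0
  | a :: l => cn w l + a.2.toNat * (bt w (8 + a.1) + 2 * bt w (264 + a.1))

theorem bt_cast (w c : ℕ) : ((bt w c : ℕ) : ZMod 3) = if w.testBit c then 1 else 0 := by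
  unfold bt
  rw [land_def, shr_def, Nat.and_one_is_mod, Nat.shiftRight_eq_div_pow, ← Nat.toNat_testBit]
  cases w.testBit c <;> rfl

theorem val_cast (w j : ℕ) : (((bt w j + 2 * bt w (256 + j) : ℕ)) : ZMod 3) = val w j := by
  rw [Nat.cast_add, Nat.cast_mul, bt_cast, bt_cast]
  unfold val tz
  cases w.testBit j <;> cases w.testBit (256 + j) <;> decide

theorem dotp_er (w : ℕ) {k : ℕ} (hk : k < 240) : dotp (D := chevE8) w (er k) = val w (8 + k) := by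
  have hk' : k < chevE8.nroots := hk
  unfold dotp
  rw [Cfsg.Agent.H64.E83.er_eq hk', Finset.sum_eq_single (Sum.inr ⟨k, hk'⟩)]
  · rw [Pi.single_eq_same, mul_one]; rfl
  · intro j _ hj
    rw [Pi.single_eq_of_ne hj, mul_zero]
  · intro h
    exact absurd (Finset.mem_univ _) h

theorem cn_cast (w : ℕ) : ∀ l : List (ℕ × ℤ), (∀ a ∈ l, a.1 < 240 ∧ 0 ≤ a.2) → ((cn w l : ℕ) : ZMod 3) = dotp (D := chevE8) w (vec l)
  | [], _ => by
    rw [vec_nil, dotp_zero]; exact Nat.cast_zero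
  | a :: l, h => by
    obtain ⟨h1, h2⟩ := h a (List.mem_cons_self ..)
    have h3 : ((a.2.toNat : ℕ) : ZMod 3) = (a.2 : ZMod 3) := by
      have h4 : ((a.2.toNat : ℤ) : ZMod 3) = (a.2 : ZMod 3) := by rw [Int.toNat_of_nonneg h2]
      rwa [Int.cast_natCast] at h4
    have h5 : 264 + a.1 = 256 + (8 + a.1) := by omega
    show ((cn w l + a.2.toNat * (bt w (8 + a.1) + 2 * bt w (264 + a.1)) : ℕ) : ZMod 3) = _
    rw [vec_cons, dotp_add, dotp_smul, dotp_er w h1, Nat.cast_add, Nat.cast_mul, h3, h5, val_cast,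
      cn_cast w l (fun b hb => h b (List.mem_cons_of_mem _ hb)), add_comm]

/-- the check: the row kills the vector -/
def kz (w : ℕ) (l : List (ℕ × ℤ)) : Bool := Nat.beq (cn w l % 3) 0

theorem kz_dotp {w : ℕ} {l : List (ℕ × ℤ)} (hl : ∀ a ∈ l, a.1 < 240 ∧ 0 ≤ a.2) (h : kz w l = true) :
    dotp (D := chevE8) w (vec l) = 0 := by
  rw [← cn_cast w l hl]
  have h1 : cn w l % 3 = 0 := Nat.eq_of_beq_eq_true h
  rw [← Nat.mod_add_div (cn w l) 3, h1, zero_add, Nat.cast_mul]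
  have h2 : ((3 : ℕ) : ZMod 3) = 0 := rfl
  rw [h2, zero_mul]

/-- **the abstract statement** -/
theorem fix_gen {v : L3} {l l' : List (ℕ × ℤ)} (hl : ∀ a ∈ l, a.1 < 240 ∧ 0 ≤ a.2) (hl' : ∀ a ∈ l', a.1 < 240 ∧ 0 ≤ a.2)
    {f1 f2 : ℕ} (h1 : f1 < 240) (h2 : f2 < 240) (c11 : (cf l f1 : ZMod 3) = 1) (c12 : (cf l f2 : ZMod 3) = 0)
    (c21 : (cf l' f1 : ZMod 3) = 0) (c22 : (cf l' f2 : ZMod 3) = 1) {sel : List (ℕ × ℕ)} {col : List ℕ} {rw' : ℕ × ℕ → ℕ}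
    (hel : elim (sel.map rw') col = true) (hcol : ∀ n < 248, n ∈ col)
    (hrow : ∀ e ∈ sel, Ann v (rw' e) ∧ kz (rw' e) l = true ∧ kz (rw' e) l' = true ∨
      (rw' e = tun (8 + f1) ∨ rw' e = tun (8 + f2))) :
    ∃ c d : ZMod 3, v = c • vec l + d • vec l' := by
  have h1' : f1 < chevE8.nroots := h1
  have h2' : f2 < chevE8.nroots := h2
  set c := v (Sum.inr ⟨f1, h1'⟩) with hc
  set d := v (Sum.inr ⟨f2, h2'⟩) with hd
  refine ⟨c, d, ?_⟩
  set z : L3 := v + ((-c) • vec l + (-d) • vec l') with hz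
  have z1 : z (Sum.inr ⟨f1, h1'⟩) = 0 := by
    rw [hz, Pi.add_apply, Pi.add_apply, Pi.smul_apply, Pi.smul_apply, vec_inr, vec_inr, ← hc]
    show c + ((-c) • (cf l f1 : ZMod 3) + (-d) • (cf l' f1 : ZMod 3)) = 0
    rw [c11, c21, smul_eq_mul, smul_eq_mul]
    ring
  have z2 : z (Sum.inr ⟨f2, h2'⟩) = 0 := by
    rw [hz, Pi.add_apply, Pi.add_apply, Pi.smul_apply, Pi.smul_apply, vec_inr, vec_inr, ← hd]
    show d + ((-c) • (cf l f2 : ZMod 3) + (-d) • (cf l' f2 : ZMod 3)) = 0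
    rw [c12, c22, smul_eq_mul, smul_eq_mul]
    ring
  have hA : ∀ w ∈ sel.map rw', Ann z w := by
    intro w hw
    obtain ⟨e, he, rfl⟩ := List.mem_map.1 hw
    rcases hrow e he with ⟨h3, h4, h5⟩ | h3 | h3
    · refine ⟨h3.1, ?_⟩
      rw [hz, dotp_add, dotp_add, dotp_smul, dotp_smul, h3.2, kz_dotp hl h4, kz_dotp hl' h5, mul_zero, mul_zero,
        add_zero, add_zero]
    · rw [h3]; exact ann_un sz_le (k := Sum.inr ⟨f1, h1'⟩) z1
    · rw [h3]; exact ann_un sz_le (k := Sum.inr ⟨f2, h2'⟩) z2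
  have hpos : ∀ j : chevE8.Idx, pos chevE8 j ∈ col := fun j => hcol _ (by
    have := (posOK chevE8).lt j
    rwa [sz_eq] at this)
  have hz0 : z = 0 := by
    funext j
    exact elim_sound sz_le col _ hel hA (fun w _ j hj => absurd (hpos j) hj) j (hpos j)
  have h6 : v = z + (c • vec l + d • vec l') := by
    rw [hz, neg_smul, neg_smul]
    abel
  rw [h6, hz0, zero_add]

/-! ### the matrices -/

theorem mx_Ph {w : List Lt} (hw : ∀ l ∈ w, gd l) (h : okW TX (phw w) = true) :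
    mx (Ph (ev w)) = semM chevE8 (wc TX (phw w) (idM 248)) := coe_ph hw h

theorem mx_y : mx (Ph Ay) = semM chevE8 mY := mx_Ph (w := wy) (by decide +kernel) (by decide +kernel)

theorem mx_t : mx (Ph At) = semM chevE8 mT := mx_Ph (w := wt) (by decide +kernel) (by decide +kernel)

/-- the word of `x⁻¹` in transvections -/
def wxi : List Lt := [(0, 4, 1), (0, 2, 2), (2, 0, 2), (0, 3, 2), (1, 2, 2), (4, 1, 1), (3, 4, 2), (4, 0, 2), (2, 3, 1)]

theorem tv_neg (i j : Fin 5) (c : ZMod 3) : tv (i, j, c) * tv (i, j, -c) = 1 := by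
  unfold tv
  by_cases h : i ≠ j
  · rw [dif_pos h, dif_pos h]
    apply Subtype.ext
    show Matrix.transvection i j c * Matrix.transvection i j (-c) = 1
    rw [Matrix.transvection_mul_transvection_same _ _ h, add_neg_cancel, Matrix.transvection_zero]
  · rw [dif_neg h, dif_neg h, mul_one]

theorem ev_inv : ∀ w : List Lt, ev w * ev (w.reverse.map fun l => (l.1, l.2.1, -l.2.2)) = 1
  | [] => by rw [List.reverse_nil, List.map_nil, ev_nil, mul_one]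
  | l :: w => by
    rw [List.reverse_cons, List.map_append, ev_append, ev_cons, mul_assoc, ← mul_assoc (ev w), ev_inv w, one_mul]
    show tv l * ev [(l.1, l.2.1, -l.2.2)] = 1
    rw [ev_cons, ev_nil, mul_one]
    exact tv_neg l.1 l.2.1 l.2.2

theorem Ax_inv : Ax⁻¹ = ev wxi := by
  have h := ev_inv wx
  have h1 : (wx.reverse.map fun l => (l.1, l.2.1, -l.2.2)) = wxi := by decide +kernel
  rw [h1] at h
  exact inv_eq_of_mul_eq_one_right h

theorem mx_xi : mx (Ph Ax⁻¹) = semM chevE8 mXi := by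
  rw [Ax_inv]
  exact mx_Ph (w := wxi) (by decide +kernel) (by decide +kernel)

theorem mx_txi : mx (Ph At) * mx (Ph Ax⁻¹) = semM chevE8 mTXi := by
  have h : mx (Ph At) * mx (Ph Ax⁻¹) = mx (Ph (ev (wt ++ wxi))) := by
    rw [ev_append, map_mul, mx_mul, ← Ax_inv]; rfl
  rw [h]
  exact mx_Ph (w := wt ++ wxi) (by decide +kernel) (by decide +kernel)

theorem vldw {w : List ℕ} (h : okW TX w = true) : VldM (wc TX w (idM 248)) := by
  have h := vldM_wc Cfsg.Agent.H992.E8X.hE8 sz_le TX_ok h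
  rw [sz_eq] at h
  exact h

theorem vld_Xi : VldM mXi := vldw (by decide +kernel)

theorem vld_TXi : VldM mTXi := vldw (by decide +kernel)

private noncomputable def _root_.Cfsg.Agent.KO98e5b6f.k32.{ku0} : ((x0 : Sort (ku0+1)) → ((@List.{ku0} @x0) → ((x0 → @Bool) → @Bool))) := @(fun (x0 : Sort (ku0+1)) (x1 : @List.{ku0} @x0) (x2 : (x0 → @Bool)) => @List.rec.{(ku0+1), ku0} @x0 @(fun (x3 : @List.{ku0} @x0) => ((x0 → @Bool) → @Bool)) @(fun (x3 : (x0 → @Bool)) => @Bool.true) @(fun (x3 : x0) (x4 : @List.{ku0} @x0) (x5 : ((x0 → @Bool) → @Bool)) (x6 : (x0 → @Bool)) => @Bool.rec.{1} @(fun (x7 : @Bool) => @Bool) @Bool.false (@x5 @x6) (@x6 @x3)) @x1 @x2)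
private theorem _root_.Cfsg.Agent.KO98e5b6f.e32.{ku0} : @List.all.{ku0} = @_root_.Cfsg.Agent.KO98e5b6f.k32.{ku0} := by delta _root_.Cfsg.Agent.KO98e5b6f.k32; funext a0 a1 a2; refine (congrFun (_root_.Cfsg.Agent.KO98e5b6f.e15 (fun a1 a2 => @List.all.{ku0} a0 a1 a2) ?_ (fun c0 c1 => ?_) a1) a2 :) <;> (rfl')
private noncomputable def _root_.Cfsg.Agent.KO98e5b6f.k33 : (@Bool → (@Bool → @Bool)) := @(fun (x0 : @Bool) (x1 : @Bool) => @Bool.rec.{1} @(fun (x2 : @Bool) => @Bool) @x1 @Bool.true @x0)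
private theorem _root_.Cfsg.Agent.KO98e5b6f.e33 : @Bool.or = @_root_.Cfsg.Agent.KO98e5b6f.k33 := by delta _root_.Cfsg.Agent.KO98e5b6f.k33; rfl'
private noncomputable def _root_.Cfsg.Agent.KO98e5b6f.k34 : (@Bool → (@Bool → @Bool)) := @(fun (x0 : @Bool) (x1 : @Bool) => @Bool.rec.{1} @(fun (x2 : @Bool) => @Bool) @Bool.false @x1 @x0)
private theorem _root_.Cfsg.Agent.KO98e5b6f.e34 : @Bool.and = @_root_.Cfsg.Agent.KO98e5b6f.k34 := by delta _root_.Cfsg.Agent.KO98e5b6f.k34; rfl'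
private noncomputable def _root_.Cfsg.Agent.KO98e5b6f.k35 : (@Bool → @Bool) := @(fun (x0 : @Bool) => @Bool.rec.{1} @(fun (x1 : @Bool) => @Bool) @Bool.true @Bool.false @x0)
private theorem _root_.Cfsg.Agent.KO98e5b6f.e35 : @Bool.not = @_root_.Cfsg.Agent.KO98e5b6f.k35 := by delta _root_.Cfsg.Agent.KO98e5b6f.k35; rfl'
private noncomputable def _root_.Cfsg.Agent.KO98e5b6f.k36 : (by first | exact type_of% @Cfsg.Agent.H455.E83.cn | exact Unit : Sort _) := by first | (refine @Subtype.val _ (fun g => @Cfsg.Agent.H455.E83.cn = @g) (@Subtype.mk _ _ (@(fun (x0 : @Nat) (x1 : @List.{0} (@Prod.{0, 0} @Nat @Int)) => @List.rec.{1, 0} (@Prod.{0, 0} @Nat @Int) @(fun (x2 : @List.{0} (@Prod.{0, 0} @Nat @Int)) => @Nat) (nat_lit 0) @(fun (x2 : @Prod.{0, 0} @Nat @Int) (x3 : @List.{0} (@Prod.{0, 0} @Nat @Int)) (x4 : @Nat) => @Nat.add @x4 (@Nat.mul (@Int.rec.{1} @(fun (x5 : @Int) => @Nat) @(fun (x5 : @Nat) =>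 x5) @(fun (x5 : @Nat) => nat_lit 0) (@Prod.snd.{0, 0} @Nat @Int @x2)) (@Nat.add (@Nat.land (@Nat.shiftRight @x0 (@Nat.add (nat_lit 8) (@Prod.fst.{0, 0} @Nat @Int @x2))) (nat_lit 1)) (@Nat.mul (nat_lit 2) (@Nat.land (@Nat.shiftRight @x0 (@Nat.add (nat_lit 264) (@Prod.fst.{0, 0} @Nat @Int @x2))) (nat_lit 1)))))) @x1)) ?_); funext a0 a1; refine (_root_.Cfsg.Agent.KO98e5b6f.e15 (fun a1 => @Cfsg.Agent.H455.E83.cn a0 a1) ?_ (fun c0 c1 => ?_) a1 :) <;> (rfl')) | exact @Cfsg.Agent.H455.E83.cn | exact ()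
private theorem _root_.Cfsg.Agent.KO98e5b6f.e36 : (by first | exact @Cfsg.Agent.H455.E83.cn = @_root_.Cfsg.Agent.KO98e5b6f.k36 | exact True : Prop) := by first | (delta _root_.Cfsg.Agent.KO98e5b6f.k36; exact @Subtype.property _ (fun g => @Cfsg.Agent.H455.E83.cn = @g) _) | rfl | trivial
private noncomputable def _root_.Cfsg.Agent.KO98e5b6f.k37 : (by first | exact type_of% @Cfsg.Agent.H455.E83.kz | exact Unit : Sort _) := by first | (refine @Subtype.val _ (fun g => @Cfsg.Agent.H455.E83.kz = @g) (@Subtype.mk _ _ (@(fun (x0 : @Nat) (x1 : @List.{0} (@Prod.{0, 0} @Nat @Int)) => @Nat.beq (@Nat.mod (@Cfsg.Agent.KO98e5b6f.k36 @x0 @x1) (nat_lit 3)) (nat_lit 0))) ?_); rewrite [← Cfsg.Agent.KO98e5b6f.e36]; (try delta Cfsg.Agent.H455.E83.kz); (try generalize @Cfsg.Agent.H455.E83.cn = g0); rfl') | exact @Cfsg.Agent.H455.E83.kz | exact ()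
private theorem _root_.Cfsg.Agent.KO98e5b6f.e37 : (by first | exact @Cfsg.Agent.H455.E83.kz = @_root_.Cfsg.Agent.KO98e5b6f.k37 | exact True : Prop) := by first | (delta _root_.Cfsg.Agent.KO98e5b6f.k37; exact @Subtype.property _ (fun g => @Cfsg.Agent.H455.E83.kz = @g) _) | rfl | trivial

theorem killJ : (selJ.all fun e => Nat.beq e.1 4 && (Nat.beq e.2 195 || Nat.beq e.2 217) ||
    (Nat.blt e.2 248 && Nat.blt e.1 4 && !(Nat.beq e.1 0) && kz (rwJ e) lII && kz (rwJ e) lII')) = true := by (first | (rewrite [Cfsg.Agent.KO98e5b6f.e32.{0}, Cfsg.Agent.KO98e5b6f.e33, Cfsg.Agent.KO98e5b6f.e34, Cfsg.Agent.KO98e5b6f.e35, Cfsg.Agent.KO98e5b6f.e37, Cfsg.Agent.KO98e5b6f.e31]; decide +kernel) | decide +kernel)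

theorem h248 {n : ℕ} (hn : n < 248) : n < sz chevE8 := by rw [sz_eq]; exact hn

/-- **`L^{A_II}`** -/
theorem fixII (v : L3) (hy : mx (Ph Ay) *ᵥ v = v) (ht : mx (Ph At) *ᵥ v = v)
    (hx : mx (Ph At) *ᵥ (mx (Ph Ax⁻¹) *ᵥ v) = mx (Ph Ax⁻¹) *ᵥ v) : ∃ c d : ZMod 3, v = c • qII + d • qII' := by
  rw [Matrix.mulVec_mulVec, mx_txi, mx_xi] at hx
  rw [mx_y] at hy
  rw [mx_t] at ht
  refine fix_gen (l := lII) (l' := lII') (f1 := 187) (f2 := 209) (by decide) (by decide) (by norm_num) (by norm_num)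
    (by decide +kernel) (by decide +kernel) (by decide +kernel) (by decide +kernel) elimJ (by decide +kernel) ?_
  intro e he
  have h := List.all_eq_true.1 killJ e he
  obtain ⟨a, i⟩ := e
  rw [Bool.or_eq_true, Bool.and_eq_true] at h
  rcases h with ⟨h1, h2⟩ | h
  · have h3 : a = 4 := Nat.eq_of_beq_eq_true h1
    subst h3
    rw [Bool.or_eq_true] at h2
    right
    rcases h2 with h2 | h2
    · have h4 : i = 195 := Nat.eq_of_beq_eq_true h2
      subst h4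
      exact Or.inl rfl
    · have h4 : i = 217 := Nat.eq_of_beq_eq_true h2
      subst h4
      exact Or.inr rfl
  · simp only [Bool.and_eq_true, Bool.not_eq_true'] at h
    obtain ⟨⟨⟨⟨h1, h2⟩, h3⟩, h4⟩, h5⟩ := h
    have hi : i < sz chevE8 := h248 (Nat.le_of_ble_eq_true h1)
    have ha : a < 4 := Nat.le_of_ble_eq_true h2
    have ha0 : a ≠ 0 := Nat.ne_of_beq_eq_false h3
    refine Or.inl ⟨?_, h4, h5⟩
    rcases a with _ | _ | _ | _ | a
    · exact absurd rfl ha0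
    · exact ann_fixRow sz_le vld_Y hy hi
    · exact ann_fixRow sz_le vld_T ht hi
    · exact ann_sub sz_le vld_TXi vld_Xi hx hi
    · omega

end Cfsg.Agent.H455.E83
end
end
end
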